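import Cfsg.Agent.Lib.SmallSpec.Basic
import Cfsg.Agent.Lib.BrauerSuzuki.Main
import Cfsg.Agent.Lib.Involutions.BaerSuzuki
import Cfsg.Agent.Lib.Involutions.Dihedral
import Cfsg.Agent.Lib.Small.SylowToolkit
import Cfsg.Agent.Lib.Components.Fitting
import Mathlib.GroupTheory.Transfer

/-!
Almost simple groups with element orders at most five.
-/

set_option autoImplicit false
set_option linter.unusedSectionVars false
set_option linter.style.haveILetI false
set_option maxHeartbeats 1000000

namespace Cfsg.Agent.SmallSpec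

universe u v

variable {G : Type u} [Group G] [Finite G]

/-- An involution outside the largest normal `2`-subgroup inverts an odd element. -/
theorem Small.exists_inverts (hS : Small G) {a : G} (ha : orderOf a = 2)
    (hno : ∀ N : Subgroup G, N.Normal → IsPGroup 2 N → a ∉ N) :
    ∃ x : G, (orderOf x = 3 ∨ orderOf x = 5) ∧ a * x * a⁻¹ = x⁻¹ := by
  haveI : Fact (Nat.Prime 2) := ⟨Nat.prime_two⟩
  by_contra hcon
  push Not at hcon
  obtain ⟨N, hN, hN2, haN⟩ := BaerSuzuki.baerSuzuki (p := 2) (Subgroup.zpowers a)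
    (IsPGroup.of_card (n := 1) (by rw [Nat.card_zpowers, ha, pow_one])) (fun g => by
      set b := g * a * g⁻¹ with hb
      have hbo : orderOf b = 2 := (Invol.order_conj g a).trans ha
      have hsup : Subgroup.zpowers a ⊔ (Subgroup.zpowers a).map (MulAut.conj g).toMonoidHom =
          Subgroup.closure {a, b} := by
        rw [MonoidHom.map_zpowers, Subgroup.zpowers_eq_closure, Subgroup.zpowers_eq_closure,
          ← Subgroup.closure_union, Set.singleton_union]
        rfl
      rw [hsup]
      by_cases hab : a = b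
      · rw [← hab, Set.pair_eq_singleton, ← Subgroup.zpowers_eq_closure]
        exact IsPGroup.of_card (n := 1) (by rw [Nat.card_zpowers, ha, pow_one])
      have hc := Nat.card_congr
        (MonoidHom.ofInjective (Invol.dihHom_injective ha hbo hab)).toEquiv
      rw [DihedralGroup.nat_card] at hc
      rw [← Invol.dihHom_range ha hbo]
      have hn : orderOf (a * b) = 1 ∨ orderOf (a * b) = 2 ∨ orderOf (a * b) = 4 := by
        rcases hS.cases (a * b) with h | h | h | h | h
        · exact Or.inl h
        · exact Or.inr (Or.inl h)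
        · exact absurd (Invol.conj_mul ha hbo) (hcon _ (Or.inl h))
        · exact Or.inr (Or.inr h)
        · exact absurd (Invol.conj_mul ha hbo) (hcon _ (Or.inr h))
      rcases hn with h | h | h
      · exact IsPGroup.of_card (n := 1) (by rw [← hc, h]; norm_num)
      · exact IsPGroup.of_card (n := 2) (by rw [← hc, h]; norm_num)
      · exact IsPGroup.of_card (n := 3) (by rw [← hc, h]; norm_num))
  exact hno N hN hN2 (haN (Subgroup.mem_zpowers a))

/-- The order of the normalizer of a subgroup of prime order. -/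
theorem Small.card_normalizer (hS : Small G) {p : ℕ} [Fact p.Prime] (P : Subgroup G)
    (hP : Nat.card P = p) :
    ∃ i e : ℕ, e ∣ p - 1 ∧ Nat.card (Subgroup.normalizer (P : Set G)) = p ^ i * e ∧
      Nat.card (Subgroup.centralizer (P : Set G)) = p ^ i := by
  have hp : p.Prime := Fact.out
  haveI : Nontrivial P := Finite.one_lt_card_iff_nontrivial.1 (hP ▸ hp.one_lt)
  obtain ⟨x, hx⟩ := exists_ne (1 : P)
  have hCp : IsPGroup p (Subgroup.centralizer (P : Set G)) :=
    (hS.isPGroup_centralizer (k := 1) (x := (x : G)) hp (fun e => hx (Subtype.ext e))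
      (by rw [pow_one, ← SubmonoidClass.coe_pow, ← hP, pow_card_eq_one', Subgroup.coe_one])).to_le
      (Subgroup.centralizer_le (Set.singleton_subset_iff.2 x.2))
  obtain ⟨i, hi⟩ := IsPGroup.iff_card.1 hCp
  obtain ⟨e, he⟩ := Subgroup.card_dvd_of_le (Cfsg.Agent.Small.centralizer_le_normalizer P)
  refine ⟨i, e, ?_, by rw [he, hi], hi⟩
  have h := Cfsg.Agent.Small.card_normalizer_dvd (p := p) P hP
  rw [he, hi] at h
  exact (Nat.mul_dvd_mul_iff_left (pow_pos hp.pos i)).1 h

/-- Frattini's argument on orders. -/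
theorem frattini_card {p : ℕ} [Fact p.Prime] {M : Subgroup G} [M.Normal] (P : Sylow p M) :
    Nat.card M * Nat.card (Subgroup.normalizer (((P : Subgroup M).map M.subtype : Subgroup G) : Set G)) =
      Nat.card G *
        Nat.card (M ⊓ Subgroup.normalizer (((P : Subgroup M).map M.subtype : Subgroup G) : Set G) :
          Subgroup G) := by
  set N := Subgroup.normalizer (((P : Subgroup M).map M.subtype : Subgroup G) : Set G) with hN
  have h : N ⊔ M = ⊤ := P.normalizer_sup_eq_top
  have h2 : M.index = M.relIndex N := by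
    rw [← Subgroup.relIndex_top_right, ← h, Subgroup.relIndex_sup_right]
  have h3 := Subgroup.card_mul_index (M.subgroupOf N)
  rw [← Subgroup.relIndex, ← h2, ← Subgroup.inf_subgroupOf_right,
    Nat.card_congr (Subgroup.subgroupOfEquivOfLe (inf_le_right : M ⊓ N ≤ N)).toEquiv] at h3
  rw [← h3, ← Subgroup.card_mul_index M]
  ring

/-- The normalizer in a normal subgroup, as an intersection. -/
theorem card_normalizer_inf {M : Subgroup G} (P : Subgroup M) :
    Nat.card (M ⊓ Subgroup.normalizer ((P.map M.subtype : Subgroup G) : Set G) : Subgroup G) =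
      Nat.card (Subgroup.normalizer (P : Set M)) := by
  have h : M ⊓ Subgroup.normalizer ((P.map M.subtype : Subgroup G) : Set G) =
      (Subgroup.normalizer (P : Set M)).map M.subtype := by
    ext g
    constructor
    · rintro ⟨hg, hn⟩
      refine ⟨⟨g, hg⟩, Subgroup.mem_normalizer_iff.2 fun y => ?_, rfl⟩
      have h := Subgroup.mem_normalizer_iff.1 hn (y : G)
      have key : ∀ z : M, ((z : G) ∈ P.map M.subtype) ↔ z ∈ P := fun z =>
        Subgroup.mem_map_iff_mem M.subtype_injective
      rw [← key, h, ← key]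
      rfl
    · rintro ⟨m, hm, rfl⟩
      refine ⟨m.2, Subgroup.mem_normalizer_iff.2 fun y => ?_⟩
      constructor
      · rintro ⟨z, hz, rfl⟩
        exact ⟨m * z * m⁻¹, (Subgroup.mem_normalizer_iff.1 hm z).1 hz, rfl⟩
      · rintro ⟨z, hz, hzy⟩
        refine ⟨m⁻¹ * z * m, (Subgroup.mem_normalizer_iff.1 hm _).2 (by simpa [mul_assoc] using hz), ?_⟩
        have hzy' : (z : G) = (m : G) * y * (m : G)⁻¹ := hzy
        show (m : G)⁻¹ * z * m = y
        rw [hzy']; group
  rw [h, Subgroup.card_map_of_injective M.subtype_injective]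

section Simple

variable {M : Subgroup G} [hMn : M.Normal] [IsSimpleGroup M]

theorem not_prime_of_card (hM : Nat.card M = 60 ∨ Nat.card M = 360) : ¬ (Nat.card M).Prime := by
  rcases hM with h | h <;> rw [h] <;> norm_num

theorem not_normal_two (hcent : Subgroup.centralizer (M : Set G) = ⊥)
    (hM : Nat.card M = 60 ∨ Nat.card M = 360) {N : Subgroup G} (hN : N.Normal) (h2 : IsPGroup 2 N) :
    N = ⊥ := by
  rcases IsSimpleGroup.eq_bot_or_eq_top_of_normal (N.subgroupOf M) (hN.subgroupOf M) with h | h
  · rw [eq_bot_iff, ← hcent]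
    intro n hn
    rw [Subgroup.mem_centralizer_iff]
    intro m hm
    have hd : Disjoint N M := by
      rw [disjoint_iff, eq_bot_iff]
      intro x hx
      have : (⟨x, hx.2⟩ : M) ∈ N.subgroupOf M := hx.1
      rw [h, Subgroup.mem_bot] at this
      exact Subgroup.mem_bot.2 (congrArg Subtype.val this)
    exact (Subgroup.commute_of_normal_of_disjoint _ _ hN hMn hd n m hn hm).eq.symm
  · exfalso
    have hle : M ≤ N := fun x hx => by
      have : (⟨x, hx⟩ : M) ∈ N.subgroupOf M := h ▸ Subgroup.mem_top _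
      exact this
    obtain ⟨k, hk⟩ := IsPGroup.iff_card.1 (h2.to_le hle)
    have h3 : (3 : ℕ) ∣ 2 ^ k := hk ▸ by rcases hM with e | e <;> rw [e] <;> norm_num
    have := Nat.Prime.dvd_of_dvd_pow Nat.prime_three h3
    norm_num at this

/-- Index data at a prime of multiplicity one in `M`. -/
theorem Small.index_data (hS : Small G) (hM : Nat.card M = 60 ∨ Nat.card M = 360) {p m : ℕ}
    [hp : Fact p.Prime] (hm : Nat.card M = p * m) (hpm : ¬ p ∣ m) :
    ∃ i e eM : ℕ, 1 ≤ i ∧ e ∣ p - 1 ∧ eM ∣ p - 1 ∧ eM ≠ 1 ∧ eM * Nat.card (Sylow p M) = m ∧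
      Nat.card (Sylow p M) % p = 1 ∧ M.index * (p * eM) = p ^ i * e := by
  obtain ⟨P⟩ : Nonempty (Sylow p M) := inferInstance
  have hPc : Nat.card (P : Subgroup M) = p := by
    simpa using Cfsg.Agent.Small.sylow_card (k := 1) (by rw [pow_one]; exact hm) hpm P
  obtain ⟨i, eM, heM, hNM, hCM⟩ := (hS.subgroup M).card_normalizer (P : Subgroup M) hPc
  have hi : i = 1 := by
    have h1 : p ^ i ∣ p * m := hm ▸ hCM ▸ Subgroup.card_subgroup_dvd_card _
    have h2 : p ∣ p ^ i := by
      rw [← hCM]
      exact hPc.symm.dvd.trans (Subgroup.card_dvd_of_le (Cfsg.Agent.Small.le_centralizer_self _ hPc))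
    rcases i with - | i
    · rw [pow_zero] at h2
      exact absurd (Nat.eq_one_of_dvd_one h2) hp.out.ne_one
    rcases i with - | i
    · rfl
    · exfalso
      exact hpm (Nat.dvd_of_mul_dvd_mul_left hp.out.pos
        ((pow_dvd_pow p (by omega : 2 ≤ i + 2)).trans h1 |> fun h => by rwa [pow_two] at h))
  rw [hi, pow_one] at hNM hCM
  have hP' : Nat.card ((P : Subgroup M).map M.subtype : Subgroup G) = p := by
    rw [Subgroup.card_map_of_injective M.subtype_injective, hPc]
  obtain ⟨j, e, he, hN, hC⟩ := hS.card_normalizer _ hP'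
  refine ⟨j, e, eM, ?_, he, heM, ?_, ?_, Eq.trans (card_sylow_modEq_one p M) (Nat.one_mod_eq_one.2 hp.out.ne_one), ?_⟩
  · rcases j with - | j
    · exfalso
      have h2 : p ∣ p ^ 0 := by
        rw [← hC]
        exact hP'.symm.dvd.trans (Subgroup.card_dvd_of_le (Cfsg.Agent.Small.le_centralizer_self _ hP'))
      rw [pow_zero] at h2
      exact hp.out.ne_one (Nat.eq_one_of_dvd_one h2)
    · omega
  · intro h1
    refine Cfsg.Agent.Small.centralizer_ne_normalizer (not_prime_of_card hM) ⟨m, hm⟩ P ?_
    rw [hNM, hCM, h1, mul_one]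
  · have h := Cfsg.Agent.Small.card_normalizer_mul P
    rw [hNM, hm] at h
    apply Nat.eq_of_mul_eq_mul_left hp.out.pos
    rw [← mul_assoc]
    exact h
  · have h := frattini_card P
    rw [card_normalizer_inf, hN, hNM, ← Subgroup.card_mul_index M] at h
    have h' : Nat.card M * (p ^ j * e) = Nat.card M * (M.index * (p * eM)) := by rw [h]; ring
    exact (Nat.eq_of_mul_eq_mul_left Nat.card_pos h').symm

theorem Small.eq_top_sixty (hS : Small G) (hM : Nat.card M = 60) : M = ⊤ := by
  haveI : Fact (Nat.Prime 3) := ⟨Nat.prime_three⟩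
  haveI : Fact (Nat.Prime 5) := ⟨by norm_num⟩
  obtain ⟨i, e, eM, hi, he, heM, hne, -, -, h3⟩ :=
    hS.index_data (Or.inl hM) (p := 3) (m := 20) (by rw [hM]) (by norm_num)
  obtain ⟨j, f, fM, hj, hf, hfM, hne', -, -, h5⟩ :=
    hS.index_data (Or.inl hM) (p := 5) (m := 12) (by rw [hM]) (by norm_num)
  have heM2 : eM = 2 := ((Nat.dvd_prime Nat.prime_two).1 (by simpa using heM)).resolve_left hne
  have hd3 : M.index ∣ 3 ^ (i - 1) := by
    obtain ⟨i, rfl⟩ : ∃ k, i = k + 1 := ⟨i - 1, by omega⟩
    rw [heM2, pow_succ] at h3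
    have he2 : e ∣ 2 := by simpa using he
    refine (Nat.mul_dvd_mul_iff_left (show 0 < 6 by norm_num)).1 ?_
    rw [show 6 * M.index = M.index * (3 * 2) by ring, h3, show i + 1 - 1 = i by omega,
      show 6 * 3 ^ i = 3 ^ i * 3 * 2 by ring]
    exact Nat.mul_dvd_mul_left _ he2
  have hd5 : M.index ∣ 5 ^ j * 4 := by
    refine dvd_trans (Dvd.intro _ rfl) (h5 ▸ Nat.mul_dvd_mul_left _ (by simpa using hf) : M.index * (5 * fM) ∣ 5 ^ j * 4)
  have hco : Nat.Coprime (3 ^ (i - 1)) (5 ^ j * 4) :=
    Nat.Coprime.mul_right (Nat.Coprime.pow _ _ (by norm_num)) (Nat.Coprime.pow_left _ (by norm_num))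
  exact Subgroup.index_eq_one.1 (Nat.eq_one_of_dvd_coprimes hco hd3 hd5)

theorem Small.index_le_two (hS : Small G) (hM : Nat.card M = 360) : M.index = 1 ∨ M.index = 2 := by
  haveI : Fact (Nat.Prime 3) := ⟨Nat.prime_three⟩
  haveI : Fact (Nat.Prime 5) := ⟨by norm_num⟩
  obtain ⟨j, f, fM, hj, hf, hfM, hne', hn, hn5, h5⟩ :=
    hS.index_data (Or.inr hM) (p := 5) (m := 72) (by rw [hM]) (by norm_num)
  have hf' : f ∣ 4 := by simpa using hf
  have hfM' : fM ∈ Nat.divisors 4 := Nat.mem_divisors.2 ⟨by simpa using hfM, by norm_num⟩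
  rw [show Nat.divisors 4 = {1, 2, 4} from rfl] at hfM'
  simp only [Finset.mem_insert, Finset.mem_singleton] at hfM'
  have hfM2 : fM = 2 := by
    rcases hfM' with h | h | h
    · exact absurd h hne'
    · exact h
    · subst h; omega
  -- no element of order five normalizes a Sylow 3-subgroup
  obtain ⟨P⟩ : Nonempty (Sylow 3 M) := inferInstance
  have hPc : Nat.card (P : Subgroup M) = 9 :=
    Cfsg.Agent.Small.sylow_card (k := 2) (m := 40) (by rw [hM]; norm_num) (by norm_num) P
  set N := Subgroup.normalizer (((P : Subgroup M).map M.subtype : Subgroup G) : Set G) with hN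
  have h5N : ¬ 5 ∣ Nat.card N := by
    intro h
    obtain ⟨⟨y, hy⟩, hyo⟩ := exists_prime_orderOf_dvd_card' (p := 5) h
    rw [Subgroup.orderOf_mk] at hyo
    set P' := (P : Subgroup M).map M.subtype
    have hc : Nat.card P' = 9 := by rw [Subgroup.card_map_of_injective M.subtype_injective, hPc]
    let σ : MulAut P' := Subgroup.normalizerMonoidHom P' ⟨y, hy⟩
    let e : Equiv.Perm P' := MulEquiv.toEquiv σ
    have he5 : e ^ 5 = 1 := by
      have : σ ^ 5 = 1 := by
        rw [← map_pow, show (⟨y, hy⟩ : N) ^ 5 = 1 from Subtype.ext (by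
          rw [SubmonoidClass.coe_pow]; exact hyo ▸ pow_orderOf_eq_one y), map_one]
      have h2 := congrArg (MulAut.toPerm P') this
      rwa [map_pow, map_one] at h2
    haveI := Fintype.ofFinite P'
    classical
    have hfix : ∀ x : P', e x = x → x = 1 := by
      intro x hx
      by_contra hx1
      have hc' : Commute y (x : G) := mul_inv_eq_iff_eq_mul.1 (congrArg Subtype.val hx)
      refine hS.not_commute (fun h => by simp [h] at hyo) (fun h => hx1 (Subtype.ext h)) hc' ?_
      rw [hyo, Subgroup.orderOf_coe]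
      refine Nat.Coprime.coprime_dvd_right (orderOf_dvd_natCard x) ?_
      rw [hc]; norm_num
    have h1 := Equiv.Perm.card_compl_support_modEq (p := 5) (n := 1) (σ := e) (by rw [pow_one]; exact he5)
    have h2 : e.supportᶜ = {(1 : P')} := by
      ext x
      simp only [Finset.mem_compl, Equiv.Perm.mem_support, not_not, Finset.mem_singleton]
      exact ⟨hfix x, fun h => h ▸ map_one σ⟩
    rw [h2, Finset.card_singleton, ← Nat.card_eq_fintype_card, hc] at h1
    exact absurd h1 (by decide)
  have h5i : ¬ 5 ∣ M.index := by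
    intro h
    have hF := frattini_card P
    rw [card_normalizer_inf, ← Subgroup.card_mul_index M] at hF
    have hF' : Nat.card N = M.index * Nat.card (Subgroup.normalizer ((P : Subgroup M) : Set M)) :=
      Nat.eq_of_mul_eq_mul_left (Nat.card_pos (α := M)) (by rw [← mul_assoc]; exact hF)
    exact h5N (hF' ▸ dvd_mul_of_dvd_left h _)
  obtain ⟨j, rfl⟩ : ∃ k, j = k + 1 := ⟨j - 1, by omega⟩
  rw [hfM2, pow_succ] at h5
  have h5' : M.index * 2 = 5 ^ j * f := by
    have : 5 * (M.index * 2) = 5 * (5 ^ j * f) := by linarith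
    omega
  rcases j with - | j
  · rw [pow_zero, one_mul] at h5'
    have := Nat.le_of_dvd (by norm_num) hf'
    have := Subgroup.FiniteIndex.index_ne_zero (H := M)
    omega
  · exfalso
    apply h5i
    have : 5 ∣ M.index * 2 := h5' ▸ dvd_mul_of_dvd_left (dvd_pow_self 5 (Nat.succ_ne_zero _)) _
    exact ((by norm_num : Nat.Prime 5).dvd_mul.1 this).resolve_right (by norm_num)

/-- A group of index two over a simple group of order 360 has an element of order greater than five. -/
theorem Small.index_ne_two (hS : Small G) (hcent : Subgroup.centralizer (M : Set G) = ⊥)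
    (hM : Nat.card M = 360) : M.index ≠ 2 := by
  intro h2
  haveI : Fact (Nat.Prime 2) := ⟨Nat.prime_two⟩
  haveI : Fact (Nat.Prime 3) := ⟨Nat.prime_three⟩
  haveI : Fact (Nat.Prime 5) := ⟨by norm_num⟩
  have hG : Nat.card G = 720 := by rw [← Subgroup.card_mul_index M, hM, h2]
  have hmem2 : ∀ g : G, g * g ∈ M := Subgroup.mul_self_mem_of_index_two h2
  have hoddM : ∀ g : G, Odd (orderOf g) → g ∈ M := by
    intro g hg
    obtain ⟨k, hk⟩ := Invol.exists_sqrt hg
    rw [← hk, pow_two]
    exact hmem2 _
  obtain ⟨j, f, fM, hj, hf, hfM, hne', hn, hn5, h5⟩ :=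
    hS.index_data (Or.inr hM) (p := 5) (m := 72) (by rw [hM]) (by norm_num)
  -- Sylow 3-subgroups
  obtain ⟨P3⟩ : Nonempty (Sylow 3 G) := inferInstance
  have hP3c : ∀ P : Sylow 3 G, Nat.card (P : Subgroup G) = 9 := fun P =>
    Cfsg.Agent.Small.sylow_card (k := 2) (m := 80) (by rw [hG]; norm_num) (by norm_num) P
  have hP3M : ∀ P : Sylow 3 G, (P : Subgroup G) ≤ M := fun P x hx => hoddM x (by
    have h : orderOf (⟨x, hx⟩ : (P : Subgroup G)) ∣ 9 := hP3c P ▸ orderOf_dvd_natCard _
    rw [Subgroup.orderOf_mk] at h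
    exact Odd.of_dvd_nat (by decide) h)
  set N := Subgroup.normalizer ((P3 : Subgroup G) : Set G) with hNdef
  set PM : Sylow 3 M := P3.subtype (hP3M P3) with hPM
  have hPMmap : ((PM : Subgroup M).map M.subtype : Subgroup G) = (P3 : Subgroup G) := by
    rw [hPM, Sylow.coe_subtype, Subgroup.subgroupOf_map_subtype, inf_of_le_left (hP3M P3)]
  have hn3 : Nat.card (Subgroup.normalizer ((PM : Subgroup M) : Set M)) = 36 := by
    have hc := Cfsg.Agent.Small.card_normalizer_mul PM
    have hm : Nat.card (Sylow 3 M) % 3 = 1 := card_sylow_modEq_one 3 M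
    have hne1 := Cfsg.Agent.Small.sylow_number_ne_one (p := 3) (G := M)
      (Cfsg.Agent.Small.not_comm_of_card (not_prime_of_card (Or.inr hM))) ⟨120, by rw [hM]⟩
    have hd : 9 ∣ Nat.card (Subgroup.normalizer ((PM : Subgroup M) : Set M)) :=
      (show (9 : ℕ) = Nat.card (PM : Subgroup M) from (Cfsg.Agent.Small.sylow_card (k := 2) (m := 40)
        (by rw [hM]; norm_num) (by norm_num) PM).symm).dvd.trans
        (Subgroup.card_dvd_of_le Subgroup.le_normalizer)
    obtain ⟨a, ha⟩ := hd
    rw [ha, hM] at hc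
    have h40 : Nat.card (Sylow 3 M) ∈ Nat.divisors 40 :=
      Nat.mem_divisors.2 ⟨⟨a, by linarith⟩, by norm_num⟩
    rw [show Nat.divisors 40 = {1, 2, 4, 5, 8, 10, 20, 40} from rfl] at h40
    simp only [Finset.mem_insert, Finset.mem_singleton] at h40
    rw [ha]
    -- four and forty Sylow subgroups are impossible
    rcases h40 with h | h | h | h | h | h | h | h <;> rw [h] at hc hm <;> try omega
    · exfalso
      have hfb := Cfsg.Agent.Small.factorial_bound (p := 3) (G := M)
        (Cfsg.Agent.Small.not_comm_of_card (not_prime_of_card (Or.inr hM))) ⟨120, by rw [hM]⟩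
      rw [h, hM] at hfb
      exact absurd hfb (by decide)
    · exfalso
      have ha1 : a = 1 := by omega
      have hN9 : Nat.card (Subgroup.normalizer ((PM : Subgroup M) : Set M)) = 9 := by rw [ha, ha1]
      have hle : Subgroup.normalizer ((PM : Subgroup M) : Set M) = (PM : Subgroup M) :=
        (Subgroup.eq_of_le_of_card_ge Subgroup.le_normalizer (by
          rw [hN9, Cfsg.Agent.Small.sylow_card (k := 2) (m := 40) (by rw [hM]; norm_num) (by norm_num) PM]; norm_num)).symm
      refine Cfsg.Agent.Small.centralizer_ne_normalizer (not_prime_of_card (Or.inr hM)) ⟨120, by rw [hM]⟩ PM ?_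
      refine le_antisymm (Subgroup.card_le_of_le (Cfsg.Agent.Small.centralizer_le_normalizer _))
        (Subgroup.card_le_of_le ?_)
      rw [hle]
      intro x hx
      rw [Subgroup.mem_centralizer_iff]
      intro y hy
      haveI := IsPGroup.isMulCommutative_of_card_eq_prime_sq (p := 3) (G := (PM : Subgroup M))
        (Cfsg.Agent.Small.sylow_card (k := 2) (m := 40) (by rw [hM]; norm_num) (by norm_num) PM)
      exact congrArg Subtype.val (mul_comm' (⟨y, hy⟩ : (PM : Subgroup M)) ⟨x, hx⟩)
  have hNc : Nat.card N = 72 := by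
    have h := frattini_card PM
    rw [card_normalizer_inf, hn3, hPMmap, hM, hG, ← hNdef] at h
    omega
  have hNM : Nat.card (M ⊓ N : Subgroup G) = 36 := by
    rw [← hn3, ← card_normalizer_inf, hPMmap]
  have hfree : ∀ x ∈ N, orderOf x = 2 → ∀ y ∈ (P3 : Subgroup G), x * y * x⁻¹ = y⁻¹ := by
    intro x hx hxo y hy
    obtain ⟨b, hb, hbxy⟩ := exists_conj_div (D := (P3 : Subgroup G)) (r := x)
      (fun z hz => (Subgroup.mem_normalizer_iff.1 hx z).1 hz) (fun z hz hc => by
        by_contra hz1
        refine hS.not_commute (fun h => by simp [h] at hxo) hz1 hc ?_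
        have hd : orderOf (⟨z, hz⟩ : (P3 : Subgroup G)) ∣ 9 := hP3c P3 ▸ orderOf_dvd_natCard _
        rw [Subgroup.orderOf_mk] at hd
        rw [hxo]
        exact Nat.Coprime.coprime_dvd_right hd (by norm_num)) y hy
    have hxi : x⁻¹ = x := Invol.inv_self hxo
    have hxx : x * x = 1 := Invol.mul_self hxo
    rw [← hbxy]
    calc x * (x * b * x⁻¹ * b⁻¹) * x⁻¹ = x * x * b * (x⁻¹ * b⁻¹ * x⁻¹) := by group
      _ = b * x * b⁻¹ * x⁻¹ := by rw [hxx, hxi]; group
      _ = _ := by group
  have huniq : ∀ a b : G, a ∈ N → b ∈ N → orderOf a = 2 → orderOf b = 2 → Commute a b → a = b := by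
    intro a b ha hb hao hbo hc
    by_contra hab
    haveI : Nontrivial (P3 : Subgroup G) :=
      Finite.one_lt_card_iff_nontrivial.1 (by rw [hP3c]; norm_num)
    obtain ⟨⟨y, hy⟩, hy1⟩ := exists_ne (1 : (P3 : Subgroup G))
    have hcy : Commute (a * b) y := by
      refine mul_inv_eq_iff_eq_mul.1 ?_
      calc a * b * y * (a * b)⁻¹ = a * (b * y * b⁻¹) * a⁻¹ := by group
        _ = (a * y * a⁻¹)⁻¹ := by rw [hfree b hb hbo y hy]; group
        _ = y := by rw [hfree a ha hao y hy, inv_inv]
    refine hS.not_commute (fun h => hab ?_) (fun h => hy1 (Subtype.ext h)) hcy ?_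
    · rw [mul_eq_one_iff_eq_inv, Invol.inv_self hbo] at h; exact h
    · have hd : orderOf (⟨y, hy⟩ : (P3 : Subgroup G)) ∣ 9 := hP3c P3 ▸ orderOf_dvd_natCard _
      rw [Subgroup.orderOf_mk] at hd
      refine Nat.Coprime.coprime_dvd_right hd (Nat.Coprime.coprime_dvd_left
        (orderOf_dvd_of_pow_eq_one (n := 2) ?_) (by norm_num))
      rw [hc.mul_pow, ← hao, pow_orderOf_eq_one, one_mul, hao, ← hbo, pow_orderOf_eq_one]
  -- a Sylow 2-subgroup of the normalizer
  obtain ⟨EN⟩ : Nonempty (Sylow 2 N) := inferInstance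
  set E : Subgroup G := (EN : Subgroup N).map N.subtype with hE
  have hEc : Nat.card E = 8 := by
    rw [hE, Subgroup.card_map_of_injective N.subtype_injective]
    exact Cfsg.Agent.Small.sylow_card (k := 3) (m := 9) (by rw [hNc]; norm_num) (by norm_num) EN
  have hEN : E ≤ N := Subgroup.map_subtype_le _
  have hE2 : IsPGroup 2 E := IsPGroup.of_card (n := 3) (by rw [hEc]; norm_num)
  -- its central involution
  haveI : Nontrivial E := Finite.one_lt_card_iff_nontrivial.1 (by rw [hEc]; norm_num)
  haveI := hE2.center_nontrivial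
  obtain ⟨zc, hzc⟩ := exists_prime_orderOf_dvd_card' (p := 2) (G := Subgroup.center E) (by
    obtain ⟨k, hk⟩ := IsPGroup.iff_card.1 (hE2.to_subgroup (Subgroup.center E))
    have : 1 < Nat.card (Subgroup.center E) := Finite.one_lt_card
    rw [hk] at this ⊢
    exact dvd_pow_self 2 (by rintro rfl; simp at this))
  set z : G := ((zc : E) : G) with hzdef
  have hzo : orderOf z = 2 := by rw [hzdef, Subgroup.orderOf_coe, Subgroup.orderOf_coe, hzc]
  have hzE : z ∈ E := (zc : E).2
  have hzE' : ∀ e ∈ E, e * z = z * e := fun e he =>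
    congrArg Subtype.val (Subgroup.mem_center_iff.1 zc.2 ⟨e, he⟩)
  have hEinv : ∀ e ∈ E, orderOf e = 2 → e = z := fun e he heo =>
    huniq e z (hEN he) (hEN hzE) heo hzo (hzE' e he)
  have hEM : Nat.card (M ⊓ E : Subgroup G) = 4 := by
    have hrel : M.relIndex E ≤ 2 := by
      have h := Subgroup.relIndex_le_of_le_right (H := M) (le_top : E ≤ ⊤) (by
        rw [Subgroup.relIndex_top_right]; exact Subgroup.FiniteIndex.index_ne_zero)
      rwa [Subgroup.relIndex_top_right, h2] at h
    have h := Subgroup.card_mul_index (M.subgroupOf E)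
    rw [← Subgroup.relIndex, hEc, ← Subgroup.inf_subgroupOf_right,
      Nat.card_congr (Subgroup.subgroupOfEquivOfLe (inf_le_right : M ⊓ E ≤ E)).toEquiv] at h
    have hne : M.relIndex E ≠ 1 := by
      intro h1
      have hle : E ≤ M ⊓ N := le_inf (Subgroup.relIndex_eq_one.1 h1) hEN
      have h8 := Subgroup.card_dvd_of_le hle
      rw [hEc, hNM] at h8
      norm_num at h8
    have h0 : M.relIndex E ≠ 0 := by
      intro h0; rw [h0] at h; omega
    obtain h2' : M.relIndex E = 2 := by omega
    rw [h2'] at h; omega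
  have hzM : z ∈ M := by
    obtain ⟨⟨e, he⟩, heo⟩ := exists_prime_orderOf_dvd_card' (p := 2) (G := (M ⊓ E : Subgroup G))
      (by rw [hEM]; norm_num)
    rw [Subgroup.orderOf_mk] at heo
    exact hEinv e he.2 heo ▸ he.1
  have hNinv : ∀ u ∈ N, orderOf u = 2 → u ∈ M := by
    intro u hu huo
    have hp : IsPGroup 2 (Subgroup.zpowers (⟨u, hu⟩ : N)) :=
      IsPGroup.of_card (n := 1) (by rw [Nat.card_zpowers, Subgroup.orderOf_mk, huo, pow_one])
    obtain ⟨T, hT⟩ := hp.exists_le_sylow
    obtain ⟨g, hg⟩ := MulAction.exists_smul_eq N T EN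
    have hmem : g * ⟨u, hu⟩ * g⁻¹ ∈ (EN : Subgroup N) := by
      rw [← hg, Sylow.coe_subgroup_smul]
      exact Subgroup.smul_mem_pointwise_smul _ (MulAut.conj g) _ (hT (Subgroup.mem_zpowers _))
    have h := hEinv _ ⟨_, hmem, rfl⟩ (by
      show orderOf ((g : G) * u * (g : G)⁻¹) = 2
      rw [Invol.order_conj, huo])
    have h' : (g : G) * u * (g : G)⁻¹ = z := h
    have : u = (g : G)⁻¹ * z * ((g : G)⁻¹)⁻¹ := by rw [← h']; group
    rw [this]
    exact hMn.conj_mem z hzM _
  -- no involution outside
  have hno : ∀ u : G, orderOf u = 2 → u ∈ M := by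
    intro u huo
    obtain ⟨x, hxo, hux⟩ := hS.exists_inverts huo fun N' hN' h2' hmem => by
      rw [not_normal_two hcent (Or.inr hM) hN' h2', Subgroup.mem_bot] at hmem
      exact Invol.ne_one huo hmem
    rcases hxo with hxo | hxo
    · have hp : IsPGroup 3 (Subgroup.zpowers x) :=
        IsPGroup.of_card (n := 1) (by rw [Nat.card_zpowers, hxo, pow_one])
      obtain ⟨P, hP⟩ := hp.exists_le_sylow
      haveI := IsPGroup.isMulCommutative_of_card_eq_prime_sq (p := 3) (G := (P : Subgroup G)) (hP3c P)
      have hxP := hP (Subgroup.mem_zpowers x)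
      have hC3 := hS.isPGroup_centralizer (p := 3) (k := 1) (x := x) Nat.prime_three
        (fun h => by simp [h] at hxo) (by rw [pow_one, ← hxo, pow_orderOf_eq_one])
      have hle : (P : Subgroup G) ≤ Subgroup.centralizer ({x} : Set G) := fun y hy =>
        Subgroup.mem_centralizer_singleton_iff.2
          (congrArg Subtype.val (mul_comm' (⟨y, hy⟩ : (P : Subgroup G)) ⟨x, hxP⟩))
      have hPC : (P : Subgroup G) = Subgroup.centralizer ({x} : Set G) := (P.3 hC3 hle).symm
      have huP : u ∈ Subgroup.normalizer ((P : Subgroup G) : Set G) := by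
        rw [hPC, Subgroup.mem_normalizer_iff_map_conj_eq]
        apply Subgroup.eq_of_le_of_card_ge
        · rintro _ ⟨y, hy, rfl⟩
          show u * y * u⁻¹ ∈ Subgroup.centralizer ({x} : Set G)
          rw [Subgroup.mem_centralizer_singleton_iff]
          have hy' : Commute y x := Subgroup.mem_centralizer_singleton_iff.1 hy
          have h := (hy'.inv_right).map (MulAut.conj u).toMonoidHom
          have hux' : u * x⁻¹ * u⁻¹ = x := by rw [← conj_inv, hux, inv_inv]
          simpa [MulAut.conj_apply, hux'] using h.eq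
        · exact (Subgroup.card_map_of_injective (MulAut.conj u).injective).ge
      obtain ⟨g, hg⟩ := MulAction.exists_smul_eq G P P3
      have hgu : g * u * g⁻¹ ∈ N := by
        rw [hNdef, ← hg, Sylow.coe_subgroup_smul, Subgroup.mem_normalizer_iff]
        intro y
        have hy := Subgroup.mem_normalizer_iff.1 huP (g⁻¹ * y * g)
        simp only [Subgroup.mem_pointwise_smul_iff_inv_smul_mem, ← map_inv, MulAut.smul_def,
          MulAut.conj_apply, inv_inv]
        rw [hy]
        refine iff_of_eq (congrArg (· ∈ (P : Subgroup G)) ?_)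
        group
      have h := hNinv _ hgu (by rw [Invol.order_conj, huo])
      have := hMn.conj_mem _ h g⁻¹
      simpa [mul_assoc] using this
    · -- the normalizer of a subgroup of order 5
      have hxM : x ∈ M := hoddM x (by rw [hxo]; decide)
      obtain ⟨i, e, he, hN5, hC5⟩ := hS.card_normalizer (p := 5) (Subgroup.zpowers x)
        (by rw [Nat.card_zpowers, hxo])
      set N5 := Subgroup.normalizer ((Subgroup.zpowers x : Subgroup G) : Set G) with hN5def
      have hconjmem : ∀ g : G, g * x * g⁻¹ ∈ Subgroup.zpowers x → g ∈ N5 := fun g hg => by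
        rw [hN5def, Subgroup.mem_normalizer_iff_map_conj_eq]
        apply Subgroup.eq_of_le_of_card_ge
        · rw [MonoidHom.map_zpowers, Subgroup.zpowers_le]
          exact hg
        · exact (Subgroup.card_map_of_injective (MulAut.conj g).injective).ge
      have huN : u ∈ N5 := hconjmem u (by rw [hux]; exact inv_mem (Subgroup.mem_zpowers x))
      -- automorphisms of the subgroup
      haveI : IsCyclic (Subgroup.zpowers x) := isCyclic_of_prime_card (p := 5) (by rw [Nat.card_zpowers, hxo])
      set φ := Subgroup.normalizerMonoidHom (Subgroup.zpowers x)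
      let PM5 : Subgroup M := Subgroup.zpowers ⟨x, hxM⟩
      have hPM5 : Nat.card PM5 = 5 := by rw [Nat.card_zpowers, Subgroup.orderOf_mk, hxo]
      obtain ⟨S5, hS5⟩ := (IsPGroup.of_card (p := 5) (n := 1) (by rw [hPM5, pow_one]) : IsPGroup 5 PM5).exists_le_sylow
      have hS5c : Nat.card (S5 : Subgroup M) = 5 := by
        simpa using Cfsg.Agent.Small.sylow_card (k := 1) (m := 72) (by rw [hM]; norm_num) (by norm_num) S5
      have heq : PM5 = (S5 : Subgroup M) := Subgroup.eq_of_le_of_card_ge hS5 (by rw [hS5c, hPM5])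
      have hne := Cfsg.Agent.Small.centralizer_ne_normalizer (not_prime_of_card (Or.inr hM))
        ⟨72, by rw [hM]⟩ S5
      -- an element of `M` inverting `x`
      obtain ⟨i', eM, heM, hNM5, hCM5⟩ := (hS.subgroup M).card_normalizer (p := 5) PM5 hPM5
      have heMne : 2 ∣ Nat.card (Subgroup.normalizer (PM5 : Set M)) := by
        have h4 : eM ∣ 4 := by simpa using heM
        obtain ⟨k, hk, rfl⟩ := (Nat.dvd_prime_pow Nat.prime_two).1 (show eM ∣ 2 ^ 2 by simpa using h4)
        rcases k with - | k
        · exfalso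
          rw [← heq] at hne
          exact hne (by rw [hNM5, hCM5, pow_zero, mul_one])
        · rw [hNM5]; exact dvd_mul_of_dvd_right (dvd_pow_self 2 (Nat.succ_ne_zero _)) _
      obtain ⟨⟨s, hs⟩, hso⟩ := exists_prime_orderOf_dvd_card' (p := 2) heMne
      rw [Subgroup.orderOf_mk] at hso
      have hso' : orderOf (s : G) = 2 := by rw [Subgroup.orderOf_coe, hso]
      have hsN : (s : G) ∈ N5 := hconjmem _ (by
        have h := (Subgroup.mem_normalizer_iff.1 hs ⟨x, hxM⟩).1 (Subgroup.mem_zpowers _)
        obtain ⟨k, hk⟩ := Subgroup.mem_zpowers_iff.1 h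
        exact Subgroup.mem_zpowers_iff.2 ⟨k, by simpa using congrArg Subtype.val hk⟩)
      -- both act as inversion
      have hinv : ∀ w ∈ N5, orderOf w = 2 → w * x * w⁻¹ = x⁻¹ := by
        intro w hw hwo
        obtain ⟨k, hk⟩ := Subgroup.mem_zpowers_iff.1
          ((Subgroup.mem_normalizer_iff.1 hw x).1 (Subgroup.mem_zpowers x))
        obtain ⟨b, hb, hbxy⟩ := exists_conj_div (D := Subgroup.zpowers x) (r := w)
          (fun z hz => (Subgroup.mem_normalizer_iff.1 hw z).1 hz) (fun z hz hc => by
            by_contra hz1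
            refine hS.not_commute (Invol.ne_one hwo) hz1 hc ?_
            have hd : orderOf (⟨z, hz⟩ : Subgroup.zpowers x) ∣ 5 :=
              hxo ▸ Nat.card_zpowers x ▸ orderOf_dvd_natCard _
            rw [Subgroup.orderOf_mk] at hd
            rw [hwo]
            exact Nat.Coprime.coprime_dvd_right hd (by norm_num)) x (Subgroup.mem_zpowers x)
        rw [← hbxy]
        have hwi := Invol.inv_self hwo
        calc w * (w * b * w⁻¹ * b⁻¹) * w⁻¹ = w * w * b * (w⁻¹ * b⁻¹ * w⁻¹) := by group
          _ = b * w * b⁻¹ * w⁻¹ := by rw [Invol.mul_self hwo, hwi]; group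
          _ = _ := by group
      have hc : Commute x ((s : G) * u) := by
        refine Commute.symm (mul_inv_eq_iff_eq_mul.1 ?_)
        calc (s : G) * u * x * ((s : G) * u)⁻¹ = (s : G) * (u * x * u⁻¹) * (s : G)⁻¹ := by group
          _ = ((s : G) * x * (s : G)⁻¹)⁻¹ := by rw [hux]; group
          _ = x := by rw [hinv _ hsN hso', inv_inv]
      have hsu : (s : G) * u ∈ Subgroup.centralizer (Subgroup.zpowers x : Set G) := by
        rw [Subgroup.mem_centralizer_iff]
        intro y hy
        obtain ⟨k, rfl⟩ := Subgroup.mem_zpowers_iff.1 hy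
        exact (hc.zpow_left k).eq
      have hodd : Odd (orderOf ((s : G) * u)) := by
        have hd : orderOf (⟨_, hsu⟩ : Subgroup.centralizer (Subgroup.zpowers x : Set G)) ∣ 5 ^ i :=
          hC5 ▸ orderOf_dvd_natCard _
        rw [Subgroup.orderOf_mk] at hd
        exact Odd.of_dvd_nat (Odd.pow (by decide)) hd
      have hsuM := hoddM _ hodd
      simpa using mul_mem (inv_mem s.2) hsuM
  -- the Sylow 2-subgroup
  obtain ⟨T, hT⟩ := hE2.exists_le_sylow
  have hTc : Nat.card (T : Subgroup G) = 16 :=
    Cfsg.Agent.Small.sylow_card (k := 4) (m := 45) (by rw [hG]; norm_num) (by norm_num) T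
  have hEidx : (E.subgroupOf (T : Subgroup G)).index = 2 := by
    have h := Subgroup.card_mul_index (E.subgroupOf (T : Subgroup G))
    rw [Nat.card_congr (Subgroup.subgroupOfEquivOfLe hT).toEquiv, hEc, hTc] at h
    omega
  have hEnorm : ∀ a ∈ (T : Subgroup G), ∀ e ∈ E, a * e * a⁻¹ ∈ E := fun a ha e he =>
    ((Subgroup.normal_of_index_eq_two hEidx).conj_mem ⟨e, hT he⟩ he ⟨a, ha⟩ : _)
  obtain ⟨e4, he4M, he4⟩ : ∃ e4 ∈ (M ⊓ E : Subgroup G), orderOf e4 = 4 := by
    by_contra hcon
    push Not at hcon
    have hsub : ∀ e : (M ⊓ E : Subgroup G), e = 1 ∨ (e : G) = z := by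
      intro e
      have hd : orderOf (e : G) ∣ 4 := by
        rw [Subgroup.orderOf_coe]; exact hEM ▸ orderOf_dvd_natCard _
      rcases hS.cases (e : G) with h | h | h | h | h
      · exact Or.inl (Subtype.ext (orderOf_eq_one_iff.1 h))
      · exact Or.inr (hEinv _ e.2.2 h)
      · rw [h] at hd; norm_num at hd
      · exact absurd h (hcon _ e.2)
      · rw [h] at hd; norm_num at hd
    classical
    have hle : Nat.card (M ⊓ E : Subgroup G) ≤ 2 := by
      have hinj := Nat.card_le_card_of_injective (fun e : (M ⊓ E : Subgroup G) => decide (e = 1))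
        (fun a b h => by
          rcases hsub a with ha | ha <;> rcases hsub b with hb | hb <;>
            simp only [decide_eq_decide] at h
          · rw [ha, hb]
          · exact ha.trans (h.1 ha).symm
          · exact (h.2 hb).trans hb.symm
          · exact Subtype.ext (ha.trans hb.symm))
      simpa [Nat.card_eq_fintype_card] using hinj
    omega
  -- an involution of M in T outside E
  set D : Subgroup G := M ⊓ (T : Subgroup G) with hD
  obtain ⟨d, hdD, hdo, hdz⟩ : ∃ d ∈ D, orderOf d = 2 ∧ d ≠ z := by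
    by_contra hcon
    push Not at hcon
    have hall : ∀ a : M, orderOf a = 2 → ∀ b : M, orderOf b = 2 → Commute a b → a = b := by
      intro a ha b hb hc
      have h2K : IsPGroup 2 (Subgroup.closure ({(a : G), (b : G)} : Set G)) := by
        intro g
        have hall' : ∀ x, x ∈ Subgroup.closure ({(a : G), (b : G)} : Set G) → x * x = 1 := by
          intro x hx'
          induction hx' using Subgroup.closure_induction with
          | mem x hx =>
            rcases hx with rfl | hx
            · exact Invol.mul_self (by rw [Subgroup.orderOf_coe, ha])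
            · rw [Set.mem_singleton_iff.1 hx]; exact Invol.mul_self (by rw [Subgroup.orderOf_coe, hb])
          | one => rw [one_mul]
          | mul x y hx hy hx2 hy2 =>
            have hxy : Commute x y := by
              have hle : Subgroup.closure ({(a : G), (b : G)} : Set G) ≤
                  Subgroup.centralizer (Subgroup.closure ({(a : G), (b : G)} : Set G) : Set G) := by
                rw [Subgroup.centralizer_closure, Subgroup.closure_le]
                intro v hv
                rw [SetLike.mem_coe, Subgroup.mem_centralizer_iff]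
                intro w hw
                simp only [Set.mem_insert_iff, Set.mem_singleton_iff] at hv hw
                rcases hv with rfl | rfl <;> rcases hw with rfl | rfl
                · rfl
                · exact congrArg Subtype.val hc.eq.symm
                · exact congrArg Subtype.val hc.eq
                · rfl
              exact (Subgroup.mem_centralizer_iff.1 (hle hy) x hx)
            rw [hxy.symm.mul_mul_mul_comm, hx2, hy2, one_mul]
          | inv x hx hx2 => rw [← mul_inv_rev, hx2, inv_one]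
        have hg := hall' g g.2
        exact ⟨1, Subtype.ext (by rw [SubmonoidClass.coe_pow, pow_one, pow_two]; exact hg)⟩
      obtain ⟨T', hT'⟩ := h2K.exists_le_sylow
      obtain ⟨g, hg⟩ := MulAction.exists_smul_eq G T' T
      have hin : ∀ c : M, (c : G) ∈ Subgroup.closure ({(a : G), (b : G)} : Set G) → orderOf c = 2 →
          g * (c : G) * g⁻¹ = z := by
        intro c hcK hco
        refine hcon _ ⟨hMn.conj_mem _ c.2 g, ?_⟩ (by rw [Invol.order_conj, Subgroup.orderOf_coe, hco])
        rw [← hg, Sylow.coe_subgroup_smul]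
        exact Subgroup.smul_mem_pointwise_smul _ (MulAut.conj g) _ (hT' hcK)
      exact Subtype.ext (mul_left_cancel (mul_right_cancel ((hin a (Subgroup.subset_closure (Set.mem_insert _ _)) ha).trans
        (hin b (Subgroup.subset_closure (Set.mem_insert_of_mem _ rfl)) hb).symm)))
    haveI : Finite M := inferInstance
    have hZ := BrauerSuzuki.inZStar M (fun a b ha hb hc => hall a ha b hb hc) ⟨z, hzM⟩
      (by rw [Subgroup.orderOf_mk, hzo])
    have hO : pPrimeCore 2 M = ⊥ := by
      haveI := Cfsg.Agent.FittingCores.pPrimeCore_normal (G := M) 2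
      refine (IsSimpleGroup.eq_bot_or_eq_top_of_normal (pPrimeCore 2 M) inferInstance).resolve_right ?_
      intro htop
      have := Cfsg.Agent.FittingCores.pPrimeCore_coprime (G := M) 2
      rw [htop, Subgroup.card_top, hM] at this
      norm_num at this
    have hzc : (⟨z, hzM⟩ : M) ∈ Subgroup.center M := Subgroup.mem_center_iff.2 fun g => by
      have h := hZ g
      rw [hO, Subgroup.mem_bot] at h
      have h' := mul_inv_eq_one.1 h
      exact mul_inv_eq_iff_eq_mul.1 h'
    rcases IsSimpleGroup.eq_bot_or_eq_top_of_normal (Subgroup.center M) inferInstance with h | h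
    · rw [h, Subgroup.mem_bot] at hzc
      exact Invol.ne_one hzo (congrArg Subtype.val hzc)
    · exact Cfsg.Agent.Small.not_comm_of_card (not_prime_of_card (Or.inr hM))
        ⟨⟨fun a b => (Subgroup.mem_center_iff.1 (h ▸ Subgroup.mem_top b) a)⟩⟩
  have hdE : d ∉ E := fun h => hdz (hEinv d h hdo)
  have hTz : ∀ a ∈ (T : Subgroup G), a * z = z * a := fun a ha =>
    mul_inv_eq_iff_eq_mul.1 (hEinv _ (hEnorm a ha z hzE) (by rw [Invol.order_conj, hzo]))
  -- `d` centralizes `E` outside `M`
  have hdj : ∀ x ∈ E, x ∉ M → d * x = x * d := by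
    intro x hx hxM
    have hdi := Invol.inv_self hdo
    have hd2 := Invol.mul_self hdo
    have hx4 : x * x = z := by
      obtain ⟨k, hk⟩ := hE2 ⟨x, hx⟩
      have h4 := hS.pow_four (congrArg Subtype.val hk : x ^ 2 ^ k = 1)
      have hxx : x * x ≠ 1 := fun h => hxM (hno x (Invol.order_two_of_sq h (fun e => hxM (e ▸ M.one_mem))))
      exact hEinv _ (mul_mem hx hx) (Invol.order_two_of_sq (by rw [← h4]; simp only [pow_succ, pow_zero, one_mul, mul_assoc]) hxx)
    set x' := d * x * d with hx'
    have hx'E : x' ∈ E := by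
      have := hEnorm d hdD.2 x hx
      rwa [hdi] at this
    have hdx : d * x * (d * x) = x' * x := by rw [hx']; group
    have hdxT : d * x ∈ (T : Subgroup G) := mul_mem hdD.2 (hT hx)
    obtain ⟨k, hk⟩ := T.isPGroup' ⟨_, hdxT⟩
    have h4 := hS.pow_four (congrArg Subtype.val hk : (d * x) ^ 2 ^ k = 1)
    have hne : d * x * (d * x) ≠ 1 := fun h => hxM (by
      have h1 : d * x ≠ 1 := fun e => hxM (by
        rw [mul_eq_one_iff_inv_eq, hdi] at e; exact e ▸ hdD.1)
      have := mul_mem hdD.1 (hno _ (Invol.order_two_of_sq h h1))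
      rwa [← mul_assoc, hd2, one_mul] at this)
    have h2 : x' * x = z := hEinv _ (mul_mem hx'E hx) (by
      rw [← hdx]
      exact Invol.order_two_of_sq (by rw [← h4]; simp only [pow_succ, pow_zero, one_mul, mul_assoc]) hne)
    have h3 : x' = x := by
      rw [← hx4] at h2
      exact mul_right_cancel h2
    calc d * x = d * x * (d * d) := by rw [hd2, mul_one]
      _ = x' * d := by rw [hx']; group
      _ = x * d := by rw [h3]
  obtain ⟨j, hjE, hjM⟩ : ∃ j ∈ E, j ∉ M := by
    by_contra hcon
    push Not at hcon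
    have := Subgroup.card_le_of_le (le_inf hcon le_rfl : E ≤ M ⊓ E)
    rw [hEM, hEc] at this
    omega
  have hdi4 : d * e4 = e4 * d := by
    have h1 := hdj j hjE hjM
    have h2 := hdj (j * e4) (mul_mem hjE he4M.2) (fun h => hjM (by
      simpa using mul_mem h (inv_mem he4M.1)))
    have : j * (d * e4) = j * (e4 * d) := by
      rw [← mul_assoc, ← h1, mul_assoc, h2, mul_assoc]
    exact mul_left_cancel this
  -- the Sylow 2-subgroup of M is abelian with a characteristic involution
  have hDc : Nat.card D = 8 := by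
    have hrel : M.relIndex (T : Subgroup G) ≤ 2 := by
      have h := Subgroup.relIndex_le_of_le_right (H := M) (le_top : (T : Subgroup G) ≤ ⊤) (by
        rw [Subgroup.relIndex_top_right]; exact Subgroup.FiniteIndex.index_ne_zero)
      rwa [Subgroup.relIndex_top_right, h2] at h
    have h := Subgroup.card_mul_index (M.subgroupOf (T : Subgroup G))
    rw [← Subgroup.relIndex, hTc, ← Subgroup.inf_subgroupOf_right,
      Nat.card_congr (Subgroup.subgroupOfEquivOfLe (inf_le_right : M ⊓ (T : Subgroup G) ≤ _)).toEquiv] at h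
    have h8 : Nat.card D ∣ 360 := hM ▸ Subgroup.card_dvd_of_le inf_le_left
    change Nat.card D * _ = 16 at h
    interval_cases hr : M.relIndex (T : Subgroup G)
    · omega
    · rw [show Nat.card D = 16 by omega] at h8; norm_num at h8
    · omega
  have hc4 : Commute e4 d := hdi4.symm
  let A : Subgroup G :=
    { carrier := {a | ∃ m n : ℤ, a = e4 ^ m * d ^ n}
      one_mem' := ⟨0, 0, by simp⟩
      mul_mem' := by
        rintro _ _ ⟨m, n, rfl⟩ ⟨m', n', rfl⟩
        refine ⟨m + m', n + n', ?_⟩
        rw [zpow_add, zpow_add, (hc4.symm.zpow_zpow n m').mul_mul_mul_comm]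
      inv_mem' := by
        rintro _ ⟨m, n, rfl⟩
        refine ⟨-m, -n, ?_⟩
        rw [zpow_neg, zpow_neg, mul_inv_rev, ((hc4.zpow_zpow m n).inv_inv).eq] }
  have hcm : ∀ a ∈ A, ∀ b ∈ A, a * b = b * a := by
    rintro _ ⟨m, n, rfl⟩ _ ⟨m', n', rfl⟩
    exact (((Commute.refl e4).zpow_zpow m m').mul_right (hc4.zpow_zpow m n')).mul_left
      (((hc4.symm).zpow_zpow n m').mul_right ((Commute.refl d).zpow_zpow n n'))
  have he4A : e4 ∈ A := ⟨1, 0, by simp⟩
  have hdA : d ∈ A := ⟨0, 1, by simp⟩
  have hAD : A = D := by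
    refine Subgroup.eq_of_le_of_card_ge (fun x hx => by
      obtain ⟨m, n, rfl⟩ := hx
      exact mul_mem (zpow_mem (show e4 ∈ D from ⟨he4M.1, hT he4M.2⟩) m) (zpow_mem hdD n)) ?_
    have hlt : Subgroup.zpowers e4 < A := lt_of_le_of_ne (Subgroup.zpowers_le.2 he4A) fun h => hdE (by
      have : d ∈ Subgroup.zpowers e4 := h ▸ hdA
      exact (Subgroup.zpowers_le.2 he4M.2) this)
    obtain ⟨k, hk⟩ := Subgroup.card_dvd_of_le hlt.le
    rw [Nat.card_zpowers, he4] at hk
    have h4 : 4 < Nat.card A := by
      have := Set.Finite.card_lt_card (Set.toFinite _) (SetLike.coe_ssubset_coe.2 hlt)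
      rw [← he4, ← Nat.card_zpowers]
      exact this
    omega
  haveI : IsMulCommutative D := ⟨⟨fun a b => Subtype.ext (hcm a (hAD.ge a.2) b (hAD.ge b.2))⟩⟩
  obtain ⟨PD, hPD⟩ := (IsPGroup.of_card (p := 2) (n := 3) (G := D.subgroupOf M) (by
    rw [Nat.card_congr (Subgroup.subgroupOfEquivOfLe inf_le_left).toEquiv, hDc]; norm_num)).exists_le_sylow
  have hPDc : Nat.card (PD : Subgroup M) = 8 :=
    Cfsg.Agent.Small.sylow_card (k := 3) (m := 45) (by rw [hM]; norm_num) (by norm_num) PD
  have hPDeq : D.subgroupOf M = (PD : Subgroup M) := Subgroup.eq_of_le_of_card_ge hPD (by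
    rw [hPDc, Nat.card_congr (Subgroup.subgroupOfEquivOfLe inf_le_left).toEquiv, hDc])
  refine Cfsg.Agent.Small.centralizer_ne_normalizer (not_prime_of_card (Or.inr hM)) ⟨180, by rw [hM]⟩ PD ?_
  refine le_antisymm (Subgroup.card_le_of_le (Cfsg.Agent.Small.centralizer_le_normalizer _))
    (Subgroup.card_le_of_le ?_)
  rw [← hPDeq]
  -- the normalizer fixes `z`, hence is a 2-group
  intro g hg
  have hgz : (g : G) * z = z * g := by
    refine mul_inv_eq_iff_eq_mul.1 ?_
    have he4z : e4 * e4 = z := hEinv _ (mul_mem he4M.2 he4M.2)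
      (by rw [← pow_two, orderOf_pow' e4 two_ne_zero, he4]; norm_num)
    have hsq : ∀ a ∈ D, a * a = 1 ∨ a * a = z := by
      intro a ha
      rw [← hAD] at ha
      obtain ⟨m, n, rfl⟩ := ha
      have hc : Commute (e4 ^ m) (d ^ n) := (show Commute e4 d from hdi4.symm).zpow_zpow m n
      have : e4 ^ m * d ^ n * (e4 ^ m * d ^ n) = z ^ m := by
        rw [hc.symm.mul_mul_mul_comm, ← (Commute.refl e4).mul_zpow, he4z, ← (Commute.refl d).mul_zpow,
          Invol.mul_self hdo, one_zpow, mul_one]
      rw [this]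
      rcases Int.even_or_odd' m with ⟨k, rfl | rfl⟩
      · left; rw [zpow_mul, zpow_two, Invol.mul_self hzo, one_zpow]
      · right; rw [zpow_add, zpow_mul, zpow_two, Invol.mul_self hzo, one_zpow, one_mul, zpow_one]
    have hgD : ∀ a ∈ D, (g : G) * a * (g : G)⁻¹ ∈ D := fun a ha => by
      have := (Subgroup.mem_normalizer_iff.1 hg ⟨a, ha.1⟩).1 (show (⟨a, ha.1⟩ : M) ∈ D.subgroupOf M from ha)
      exact this
    rcases hsq _ (hgD e4 ⟨he4M.1, hT he4M.2⟩) with h | h
    · exfalso
      apply Invol.ne_one hzo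
      rw [show (g : G) * e4 * (g : G)⁻¹ * ((g : G) * e4 * (g : G)⁻¹) = (g : G) * (e4 * e4) * (g : G)⁻¹ by group,
        he4z, conj_eq_one_iff] at h
      exact h
    · rwa [show (g : G) * e4 * (g : G)⁻¹ * ((g : G) * e4 * (g : G)⁻¹) = (g : G) * (e4 * e4) * (g : G)⁻¹ by group,
        he4z] at h
  -- so `g` lies in the Sylow subgroup
  have hgD : g ∈ D.subgroupOf M := by
    have hgC : (g : G) ∈ Subgroup.centralizer ({z} : Set G) :=
      Subgroup.mem_centralizer_singleton_iff.2 hgz
    obtain ⟨k, hk⟩ := hS.isPGroup_centralizer_invol hzo ⟨_, hgC⟩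
    have hpg : IsPGroup 2 (Subgroup.zpowers g) := by
      obtain ⟨i, -, hi⟩ := (Nat.dvd_prime_pow Nat.prime_two).1 (orderOf_dvd_of_pow_eq_one
        (show g ^ 2 ^ k = 1 from Subtype.ext (by
          rw [SubmonoidClass.coe_pow]; exact congrArg Subtype.val hk)))
      exact IsPGroup.of_card (n := i) (by rw [Nat.card_zpowers, hi])
    rw [hPDeq]
    have hsup : IsPGroup 2 ↥(Subgroup.zpowers g ⊔ (PD : Subgroup M)) :=
      hpg.to_sup_of_normal_right' PD.isPGroup' (by
        rw [Subgroup.zpowers_le, ← hPDeq]; exact hg)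
    exact (PD.3 hsup le_sup_right) ▸ Subgroup.mem_sup_left (Subgroup.mem_zpowers g)
  rw [Subgroup.mem_centralizer_iff]
  intro a ha
  exact Subtype.ext (show (a : G) * g = (g : G) * a from
    congrArg Subtype.val (mul_comm' (⟨(a : G), ha⟩ : D) ⟨(g : G), hgD⟩))

theorem Small.eq_top_almost (hS : Small G) (hcent : Subgroup.centralizer (M : Set G) = ⊥)
    (hM : Nat.card M = 60 ∨ Nat.card M = 360) : M = ⊤ := by
  rcases hM with h | h
  · exact hS.eq_top_sixty h
  · exact Subgroup.index_eq_one.1 ((hS.index_le_two h).resolve_right (hS.index_ne_two hcent h))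

end Simple

end Cfsg.Agent.SmallSpec
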