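import Cfsg.Agent.Lib.CN.FpfAut
import Mathlib.GroupTheory.Sylow
import Mathlib.GroupTheory.QuotientGroup.Basic
import Mathlib.GroupTheory.OrderOfElement

/-!
Groups all of whose elements have order at most five.
-/

set_option autoImplicit false
set_option linter.unusedSectionVars false
set_option linter.style.haveILetI false

namespace Cfsg.Agent.SmallSpec

universe u v

/-- Every element has order at most five. -/
def Small (G : Type u) [Monoid G] : Prop := ∀ g : G, orderOf g ≤ 5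

variable {G : Type u} [Group G]

theorem Small.subgroup (hS : Small G) (H : Subgroup G) : Small H := fun g => by
  rw [← Subgroup.orderOf_coe]; exact hS g

theorem Small.of_injective {H : Type v} [Group H] (hS : Small G) (f : H →* G)
    (hf : Function.Injective f) : Small H := fun g => by
  rw [← orderOf_injective f hf g]; exact hS _

variable [Finite G]

theorem Small.of_surjective {H : Type v} [Group H] (hS : Small G) (f : G →* H)
    (hf : Function.Surjective f) : Small H := fun x => by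
  obtain ⟨g, rfl⟩ := hf x
  exact (Nat.le_of_dvd (orderOf_pos g) (orderOf_map_dvd f g)).trans (hS g)

theorem Small.quotient (hS : Small G) (N : Subgroup G) [N.Normal] : Small (G ⧸ N) :=
  hS.of_surjective (QuotientGroup.mk' N) (QuotientGroup.mk'_surjective N)

theorem Small.cases (hS : Small G) (g : G) :
    orderOf g = 1 ∨ orderOf g = 2 ∨ orderOf g = 3 ∨ orderOf g = 4 ∨ orderOf g = 5 := by
  have := hS g
  have := orderOf_pos g
  omega

theorem Small.isPrimePow (hS : Small G) (g : G) (hg : g ≠ 1) : IsPrimePow (orderOf g) := by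
  rcases hS.cases g with h | h | h | h | h
  · exact absurd (orderOf_eq_one_iff.1 h) hg
  · rw [h]; exact Nat.prime_two.isPrimePow
  · rw [h]; exact Nat.prime_three.isPrimePow
  · rw [h, show (4 : ℕ) = 2 ^ 2 by norm_num]; exact Nat.prime_two.isPrimePow.pow two_ne_zero
  · rw [h]; exact (by norm_num : Nat.Prime 5).isPrimePow

theorem Small.prime_le (hS : Small G) {p : ℕ} (hp : p.Prime) (h : p ∣ Nat.card G) :
    p = 2 ∨ p = 3 ∨ p = 5 := by
  haveI := Fact.mk hp
  obtain ⟨g, hg⟩ := exists_prime_orderOf_dvd_card' (p := p) h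
  have h5 := hS g
  rw [hg] at h5
  interval_cases p <;> first | (simp; done) | exact absurd hp (by norm_num)

theorem Small.card_eq (hS : Small G) : ∃ a b c : ℕ, Nat.card G = 2 ^ a * 3 ^ b * 5 ^ c := by
  set n := Nat.card G with hn
  have h0 : n ≠ 0 := Nat.card_pos.ne'
  refine ⟨n.factorization 2, n.factorization 3, n.factorization 5, ?_⟩
  have hsub : n.factorization.support ⊆ ({2, 3, 5} : Finset ℕ) := fun p hp => by
    rw [Nat.support_factorization, Nat.mem_primeFactors] at hp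
    rcases hS.prime_le hp.1 hp.2.1 with rfl | rfl | rfl <;> simp
  conv_lhs => rw [← Nat.prod_factorization_pow_eq_self h0]
  rw [Finsupp.prod_of_support_subset _ hsub _ (fun p _ => pow_zero p)]
  simp [mul_assoc]

/-- Commuting nontrivial elements of coprime orders do not exist. -/
theorem Small.not_commute (hS : Small G) {x y : G} (hx : x ≠ 1) (hy : y ≠ 1) (hc : Commute x y)
    (hco : Nat.Coprime (orderOf x) (orderOf y)) : False := by
  have h := hS (x * y)
  rw [hc.orderOf_mul_eq_mul_orderOf_of_coprime hco] at h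
  have hx2 : 2 ≤ orderOf x := by
    have := orderOf_pos x
    have : orderOf x ≠ 1 := fun e => hx (orderOf_eq_one_iff.1 e)
    omega
  have hy2 : 2 ≤ orderOf y := by
    have := orderOf_pos y
    have : orderOf y ≠ 1 := fun e => hy (orderOf_eq_one_iff.1 e)
    omega
  have hx5 := hS x
  have hy5 := hS y
  interval_cases hox : orderOf x <;> interval_cases hoy : orderOf y
  all_goals first | omega | (norm_num at hco)

theorem Small.commute_pow_two (hS : Small G) {x y : G} {j : ℕ} (hx : orderOf x = 3 ∨ orderOf x = 5)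
    (hy : y ^ 2 ^ j = 1) (hc : Commute x y) : y = 1 := by
  by_contra hy1
  have hx1 : x ≠ 1 := fun e => by rw [e, orderOf_one] at hx; omega
  obtain ⟨i, -, hi⟩ := (Nat.dvd_prime_pow Nat.prime_two).1 (orderOf_dvd_of_pow_eq_one hy)
  refine hS.not_commute hx1 hy1 hc ?_
  rw [hi]
  rcases hx with h | h <;> rw [h] <;> exact Nat.Coprime.pow_right _ (by norm_num)

/-- A `2`-element has order dividing four. -/
theorem Small.pow_four (hS : Small G) {x : G} {j : ℕ} (hx : x ^ 2 ^ j = 1) : x ^ 4 = 1 := by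
  obtain ⟨i, -, hi⟩ := (Nat.dvd_prime_pow Nat.prime_two).1 (orderOf_dvd_of_pow_eq_one hx)
  have h5 := hS x
  rw [hi] at h5
  have : i ≤ 2 := by
    by_contra h
    have : 2 ^ 3 ≤ 2 ^ i := Nat.pow_le_pow_right (by norm_num) (by omega)
    omega
  refine orderOf_dvd_iff_pow_eq_one.1 ?_
  rw [hi, show (4 : ℕ) = 2 ^ 2 by norm_num]
  exact pow_dvd_pow 2 this

theorem Small.odd_order (hS : Small G) {x : G} (hx : x ≠ 1) (ho : Odd (orderOf x)) :
    orderOf x = 3 ∨ orderOf x = 5 := by
  rcases hS.cases x with h | h | h | h | h <;> rw [h] at ho <;> simp_all [Nat.odd_iff]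

/-- The centralizer of a nontrivial `p`-element is a `p`-group. -/
theorem Small.isPGroup_centralizer (hS : Small G) {p k : ℕ} (hp : p.Prime) {x : G} (hx : x ≠ 1)
    (hk : x ^ p ^ k = 1) : IsPGroup p (Subgroup.centralizer ({x} : Set G)) := by
  obtain ⟨i, -, hi⟩ := (Nat.dvd_prime_pow hp).1 (orderOf_dvd_of_pow_eq_one hk)
  intro y
  by_cases hy : (y : G) = 1
  · exact ⟨0, by ext; simpa using hy⟩
  obtain ⟨r, m, hr, hm0, hm⟩ := (isPrimePow_nat_iff _).1 (hS.isPrimePow _ hy)
  have hrp : r = p := by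
    by_contra hne
    refine hS.not_commute hx hy (Subgroup.mem_centralizer_singleton_iff.1 y.2).symm ?_
    rw [hi, ← hm]
    exact Nat.Coprime.pow _ _ ((Nat.coprime_primes hp hr).2 (Ne.symm hne))
  refine ⟨m, Subtype.ext ?_⟩
  rw [SubmonoidClass.coe_pow, ← hrp, hm, pow_orderOf_eq_one]
  rfl

theorem Small.isPGroup_centralizer_invol (hS : Small G) {x : G} (hx : orderOf x = 2) :
    IsPGroup 2 (Subgroup.centralizer ({x} : Set G)) :=
  hS.isPGroup_centralizer (k := 1) Nat.prime_two (fun e => by simp [e] at hx)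
    (by rw [pow_one, ← hx, pow_orderOf_eq_one])

/-- An odd prime acts with at most one subgroup of its order on a nontrivial `2`-group. -/
theorem Small.card_le_of_normalize (hS : Small G) {D Q : Subgroup G} (hD : IsPGroup 2 D)
    (hD1 : D ≠ ⊥) {q : ℕ} (hq : q.Prime) (hq2 : q ≠ 2) (hQ : IsPGroup q Q)
    (hQD : Q ≤ Subgroup.normalizer (D : Set G)) : Nat.card Q ∣ q := by
  haveI := Fact.mk hq
  haveI : Nontrivial D := (Subgroup.nontrivial_iff_ne_bot D).2 hD1
  let φ : Q →* MulAut D := (Subgroup.normalizerMonoidHom D).comp (Subgroup.inclusion hQD)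
  have hfpf : ∀ a : Q, a ≠ 1 → ∀ z : D, φ a z = z → z = 1 := by
    intro a ha z hz
    by_contra hz1
    obtain ⟨k, hk⟩ := hQ a
    obtain ⟨j, hj⟩ := hD z
    have hc : Commute (a : G) (z : G) := by
      have h := congrArg Subtype.val hz
      exact mul_inv_eq_iff_eq_mul.1 (h : (a : G) * z * (a : G)⁻¹ = z)
    obtain ⟨i, -, hi⟩ := (Nat.dvd_prime_pow hq).1
      (orderOf_dvd_of_pow_eq_one (x := (a : G)) (by rw [← SubmonoidClass.coe_pow, hk]; rfl))
    obtain ⟨l, -, hl⟩ := (Nat.dvd_prime_pow Nat.prime_two).1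
      (orderOf_dvd_of_pow_eq_one (x := (z : G)) (by rw [← SubmonoidClass.coe_pow, hj]; rfl))
    refine hS.not_commute (fun e => ha (Subtype.ext e)) (fun e => hz1 (Subtype.ext e)) hc ?_
    rw [hi, hl]
    exact Nat.Coprime.pow _ _ ((Nat.coprime_primes hq Nat.prime_two).2 hq2)
  haveI := Cfsg.Agent.CN.isCyclic_of_fpf hQ hq2 φ hfpf
  obtain ⟨g, hg⟩ := IsCyclic.exists_ofOrder_eq_natCard (α := Q)
  obtain ⟨k, hk⟩ := IsPGroup.iff_card.1 hQ
  rcases Nat.lt_or_ge k 2 with h | h
  · rw [hk]; interval_cases k <;> simp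
  · exfalso
    have h5 := hS (g : G)
    rw [Subgroup.orderOf_coe, hg, hk] at h5
    have h3 : 3 ≤ q := by have := hq.two_le; omega
    have : 3 ^ 2 ≤ q ^ k := (Nat.pow_le_pow_left h3 2).trans (Nat.pow_le_pow_right (by omega) h)
    omega

/-- Conjugation by a fixed-point-free element is onto. -/
theorem exists_conj_div {D : Subgroup G} {r : G} (hr : ∀ b ∈ D, r * b * r⁻¹ ∈ D)
    (hfix : ∀ b ∈ D, Commute r b → b = 1) (y : G) (hy : y ∈ D) :
    ∃ b ∈ D, r * b * r⁻¹ * b⁻¹ = y := by
  let f : D → D := fun b => ⟨r * b * r⁻¹ * (b : G)⁻¹, mul_mem (hr b b.2) (inv_mem b.2)⟩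
  have hinj : Function.Injective f := by
    intro a b h
    have h' : r * a * r⁻¹ * (a : G)⁻¹ = r * b * r⁻¹ * (b : G)⁻¹ := congrArg Subtype.val h
    have hc : Commute r ((b : G)⁻¹ * a) := by
      refine mul_inv_eq_iff_eq_mul.1 ?_
      calc r * ((b : G)⁻¹ * a) * r⁻¹
          = (r * b * r⁻¹)⁻¹ * (r * a * r⁻¹ * (a : G)⁻¹) * a := by group
        _ = (r * b * r⁻¹)⁻¹ * (r * b * r⁻¹ * (b : G)⁻¹) * a := by rw [h']
        _ = _ := by group
    exact Subtype.ext (inv_mul_eq_one.1 (hfix _ (mul_mem (inv_mem b.2) a.2) hc)).symm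
  obtain ⟨b, hb⟩ := (Finite.injective_iff_surjective.1 hinj) ⟨y, hy⟩
  exact ⟨b, b.2, congrArg Subtype.val hb⟩

/-- An odd element modulo a normal `2`-subgroup and an element normalizing it lift. -/
theorem Small.exists_lift (hS : Small G) (R : Subgroup G) [R.Normal] (hR : IsPGroup 2 R)
    {r : G} (hr : orderOf r = 3 ∨ orderOf r = 5) {a : G} {k : ℕ}
    (h : a * r * a⁻¹ * (r ^ k)⁻¹ ∈ R) (hk : (orderOf r).Coprime k) :
    ∃ t : G, t⁻¹ * a ∈ R ∧ t * r * t⁻¹ = r ^ k := by
  have ho : orderOf (r ^ k) = orderOf r := Nat.Coprime.orderOf_pow hk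
  have hfix : ∀ b ∈ R, Commute (r ^ k) b → b = 1 := fun b hb hc => by
    obtain ⟨j, hj⟩ := hR ⟨b, hb⟩
    exact hS.commute_pow_two (ho.symm ▸ hr) (congrArg Subtype.val hj) hc
  set s := r ^ k
  -- a * r * a⁻¹ = w * s with w in R
  set w := a * r * a⁻¹ * s⁻¹ with hw
  obtain ⟨b, hb, hbw⟩ := exists_conj_div (D := R) (r := s)
    (fun x hx => Subgroup.Normal.conj_mem inferInstance x hx s) hfix w⁻¹ (inv_mem h)
  refine ⟨b⁻¹ * a, ?_, ?_⟩
  · have := Subgroup.Normal.conj_mem (inferInstance : R.Normal) _ hb a⁻¹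
    simpa [mul_assoc] using this
  · calc b⁻¹ * a * r * (b⁻¹ * a)⁻¹ = b⁻¹ * (w⁻¹)⁻¹ * s * b := by rw [hw]; group
      _ = s := by rw [← hbw]; group

theorem Small.orderOf_lift (hS : Small G) {H : Type v} [Group H] (f : G →* H) {g : G} {q : ℕ}
    (hq : q = 3 ∨ q = 5) (h : orderOf (f g) = q) : orderOf g = q := by
  have hd := orderOf_map_dvd f g
  rw [h] at hd
  have h5 := hS g
  have h0 := orderOf_pos g
  rcases hq with rfl | rfl <;> interval_cases horder : orderOf g
  all_goals first | rfl | omega | (norm_num at hd)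

/-- An inverted odd element of a quotient by a normal `2`-subgroup lifts to an inverted pair. -/
theorem Small.exists_inverted (hS : Small G) (R : Subgroup G) [R.Normal] (hR : IsPGroup 2 R)
    {a : G ⧸ R} (ha : orderOf a = 2) {x : G ⧸ R} (hx : orderOf x = 3 ∨ orderOf x = 5)
    (hax : a * x * a⁻¹ = x⁻¹) :
    ∃ t r : G, orderOf t = 2 ∧ orderOf r = orderOf x ∧ t * r * t⁻¹ = r⁻¹ ∧
      (t : G ⧸ R) = a ∧ (r : G ⧸ R) = x := by
  obtain ⟨r, rfl⟩ := QuotientGroup.mk'_surjective R x
  obtain ⟨a, rfl⟩ := QuotientGroup.mk'_surjective R a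
  simp only [QuotientGroup.mk'_apply] at *
  have hro : orderOf r = orderOf (r : G ⧸ R) := hS.orderOf_lift (QuotientGroup.mk' R) hx rfl
  rw [← hro] at hx
  have hk : r⁻¹ = r ^ (orderOf r - 1) := by
    rw [inv_eq_iff_mul_eq_one, ← pow_succ', Nat.sub_add_cancel (orderOf_pos r), pow_orderOf_eq_one]
  have hmem : a * r * a⁻¹ * (r ^ (orderOf r - 1))⁻¹ ∈ R := by
    rw [← hk, ← QuotientGroup.eq_one_iff]
    simp [hax]
  obtain ⟨t, hta, ht⟩ := hS.exists_lift R hR hx hmem
    (by rcases hx with h | h <;> rw [h] <;> norm_num)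
  rw [← hk] at ht
  have htq : (t : G ⧸ R) = (a : G ⧸ R) := by
    rw [QuotientGroup.eq]; exact hta
  refine ⟨t, r, ?_, hro, ht, htq, rfl⟩
  have ht2 : (t * t : G) ∈ R := by
    rw [← QuotientGroup.eq_one_iff, QuotientGroup.mk_mul, htq, ← pow_two, ← ha, pow_orderOf_eq_one]
  have hc : Commute r (t * t) := by
    refine Commute.symm (mul_inv_eq_iff_eq_mul.1 ?_)
    calc t * t * r * (t * t)⁻¹ = t * (t * r * t⁻¹) * t⁻¹ := by group
      _ = t * r⁻¹ * t⁻¹ := by rw [ht]
      _ = (t * r * t⁻¹)⁻¹ := by group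
      _ = r := by rw [ht, inv_inv]
  obtain ⟨j, hj⟩ := hR ⟨_, ht2⟩
  refine orderOf_eq_prime (by rw [pow_two]; exact hS.commute_pow_two hx (congrArg Subtype.val hj) hc) ?_
  intro h1
  rw [h1, QuotientGroup.mk_one] at htq
  rw [← htq, orderOf_one] at ha
  omega

end Cfsg.Agent.SmallSpec
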