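import Cfsg.Agent.Lib.SmallSpec.Local
import Cfsg.Agent.Lib.Involutions.StronglyEmbedded
import Cfsg.Agent.S0986
import Cfsg.Agent.S1225

/-!
A maximal intersection of Sylow `2`-subgroups and the strong embedding argument.
-/

set_option autoImplicit false
set_option linter.unusedSectionVars false
set_option linter.style.haveILetI false

namespace Cfsg.Agent.SmallSpec

universe u

variable {G : Type u} [Group G] [Finite G]

theorem le_sylow_of_normal {p : ℕ} {K : Subgroup G} (hn : K.Normal) (hK : IsPGroup p K)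
    (S : Sylow p G) : K ≤ (S : Subgroup G) :=
  le_sup_right.trans (S.3 (S.isPGroup'.to_sup_of_normal_right hK) le_sup_left).le

/-- What is used about a maximal Sylow intersection. -/
structure CoreData (D : Subgroup G) : Prop where
  two : IsPGroup 2 D
  ne_bot : D ≠ ⊥
  ne_top : Subgroup.normalizer (D : Set G) ≠ ⊤
  exp : ∀ d ∈ D, d * d = 1
  cent : Subgroup.centralizer (D : Set G) ≤ D
  fixed : ∀ u ∈ Subgroup.normalizer (D : Set G), u ∉ D → u * u ∈ D →
    Nat.card (D ⊓ Subgroup.centralizer ({u} : Set G) : Subgroup G) *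
      Nat.card (D ⊓ Subgroup.centralizer ({u} : Set G) : Subgroup G) = Nat.card D
  lift : ∃ t r : G, t ∈ Subgroup.normalizer (D : Set G) ∧ r ∈ Subgroup.normalizer (D : Set G) ∧
    t ∉ D ∧ orderOf t = 2 ∧ (orderOf r = 3 ∨ orderOf r = 5) ∧ t * r * t⁻¹ = r⁻¹
  invol : ∀ u ∈ Subgroup.normalizer (D : Set G), u ∉ D → u * u ∈ D →
    ∃ t ∈ Subgroup.normalizer (D : Set G), orderOf t = 2 ∧ t⁻¹ * u ∈ D
  cases : D.relIndex (Subgroup.normalizer (D : Set G)) = 6 ∨
    D.relIndex (Subgroup.normalizer (D : Set G)) = 10 ∨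
    (D.relIndex (Subgroup.normalizer (D : Set G)) = 60 ∧
      ∃ _ : (D.subgroupOf (Subgroup.normalizer (D : Set G))).Normal,
        IsSimpleGroup (Subgroup.normalizer (D : Set G) ⧸ D.subgroupOf (Subgroup.normalizer (D : Set G))) ∧
        ¬ IsMulCommutative
          (Subgroup.normalizer (D : Set G) ⧸ D.subgroupOf (Subgroup.normalizer (D : Set G))))

section Simple

variable [IsSimpleGroup G]

theorem normalizer_ne_top (hnc : ¬ IsMulCommutative G) {D : Subgroup G} (hD : IsPGroup 2 D)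
    (hD1 : D ≠ ⊥) : Subgroup.normalizer (D : Set G) ≠ ⊤ := by
  intro h
  haveI := Subgroup.normalizer_eq_top_iff.1 h
  rcases IsSimpleGroup.eq_bot_or_eq_top_of_normal D inferInstance with h' | h'
  · exact hD1 h'
  · subst h'
    haveI := (hD.of_equiv Subgroup.topEquiv : IsPGroup 2 G).isNilpotent
    exact hnc ⟨⟨fun a b => IsSimpleGroup.comm_iff_isSolvable.2 inferInstance a b⟩⟩

theorem Small.coreData (hS : Small G) (hnc : ¬ IsMulCommutative G)
    (hIH : SimpleBelow.{u} (Nat.card G)) (P Q : Sylow 2 G) (hPQ : P ≠ Q)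
    (hne : (P : Subgroup G) ⊓ (Q : Subgroup G) ≠ ⊥)
    (hmax : ∀ P' Q' : Sylow 2 G, P' ≠ Q' → Nat.card ↥((P' : Subgroup G) ⊓ (Q' : Subgroup G)) ≤
      Nat.card ↥((P : Subgroup G) ⊓ (Q : Subgroup G))) :
    CoreData ((P : Subgroup G) ⊓ (Q : Subgroup G)) := by
  classical
  haveI : Fact (Nat.Prime 2) := ⟨Nat.prime_two⟩
  obtain ⟨hmany, hinter, huni⟩ := S0986.result 2 P Q hPQ hmax
  set D := (P : Subgroup G) ⊓ (Q : Subgroup G) with hDdef
  set N := Subgroup.normalizer (D : Set G) with hNdef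
  have hD2 : IsPGroup 2 D := P.isPGroup'.to_le inf_le_left
  haveI hDn : (D.subgroupOf N).Normal := Subgroup.normal_subgroupOf_of_le_normalizer le_rfl
  have hD'2 : IsPGroup 2 (D.subgroupOf N) := hD2.comap_subtype
  have hSN := hS.subgroup N
  haveI : Nontrivial (Sylow 2 N) := Finite.one_lt_card_iff_nontrivial.1 hmany
  obtain ⟨T1, T2, hT⟩ := exists_pair_ne (Sylow 2 N)
  have hO2 : ∀ K : Subgroup N, K.Normal → IsPGroup 2 K → K ≤ D.subgroupOf N := by
    intro K hK hK2
    rw [← hinter T1 T2 hT]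
    exact le_inf (le_sylow_of_normal hK hK2 T1) (le_sylow_of_normal hK hK2 T2)
  have hD1' : D.subgroupOf N ≠ ⊥ := by
    rw [Ne, Subgroup.subgroupOf_eq_bot, disjoint_iff, inf_of_le_left (Subgroup.le_normalizer)]
    exact hne
  have h2 : 2 ∣ Nat.card (N ⧸ D.subgroupOf N) := by
    have hlt : D.subgroupOf N < (T1 : Subgroup N) := by
      refine lt_of_le_of_ne (hinter T1 T2 hT ▸ inf_le_left) fun he => hT ?_
      have h12 : (T1 : Subgroup N) ≤ (T2 : Subgroup N) := he ▸ (hinter T1 T2 hT ▸ inf_le_right)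
      exact Sylow.ext (T1.3 T2.isPGroup' h12).symm
    have hrel : (D.subgroupOf N).relIndex (T1 : Subgroup N) ∣ Nat.card (N ⧸ D.subgroupOf N) :=
      Subgroup.relIndex_dvd_index_of_normal (D.subgroupOf N) (T1 : Subgroup N)
    obtain ⟨k, hk⟩ : ∃ k, (D.subgroupOf N).relIndex (T1 : Subgroup N) = 2 ^ k :=
      T1.isPGroup'.index ((D.subgroupOf N).subgroupOf (T1 : Subgroup N))
    rcases k with - | k
    · exact absurd (Subgroup.relIndex_eq_one.1 (by rw [hk, pow_zero])) hlt.not_ge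
    · exact (dvd_pow_self 2 (Nat.succ_ne_zero k)).trans (hk ▸ hrel)
  have hnt := normalizer_ne_top hnc hD2 hne
  have hlt : Nat.card (N ⧸ D.subgroupOf N) < Nat.card G := by
    refine lt_of_le_of_lt (Nat.le_of_dvd Nat.card_pos (Subgroup.card_quotient_dvd_card _)) ?_
    exact lt_of_le_of_ne (Subgroup.card_le_card_group N) fun h => hnt (Subgroup.eq_top_of_card_eq N h)
  have hcoe : ∀ S : Subgroup G, S ≤ N → Nat.card (S.subgroupOf N) = Nat.card S := fun S h =>
    Nat.card_congr (Subgroup.subgroupOfEquivOfLe h).toEquiv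
  refine ⟨hD2, hne, hnt, ?_, ?_, ?_, ?_, ?_, ?_⟩
  · intro d hd
    exact congrArg Subtype.val (Small.core_exp_two hSN _ hD'2 hO2 h2 ⟨d, Subgroup.le_normalizer hd⟩ hd)
  · intro c hc
    have hcN : c ∈ N := Cfsg.Agent.Small.centralizer_le_normalizer D hc
    refine hSN.centralizer_le_core _ hD'2 hD1' hO2 (show (⟨c, hcN⟩ : N) ∈ _ from ?_)
    rw [Subgroup.mem_centralizer_iff]
    intro y hy
    exact Subtype.ext (Subgroup.mem_centralizer_iff.1 hc y hy)
  · intro u hu huD hu2
    have h := Small.card_fixed_core hSN _ hD'2 hO2 (u := ⟨u, hu⟩) huD hu2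
    have he : D.subgroupOf N ⊓ Subgroup.centralizer ({⟨u, hu⟩} : Set N) =
        (D ⊓ Subgroup.centralizer ({u} : Set G)).subgroupOf N := by
      ext y
      simp [Subgroup.mem_subgroupOf, Subgroup.mem_centralizer_singleton_iff, Subtype.ext_iff]
    rw [he, hcoe D Subgroup.le_normalizer, hcoe _ (inf_le_left.trans Subgroup.le_normalizer)] at h
    exact h
  · obtain ⟨a, ha⟩ := exists_prime_orderOf_dvd_card' (p := 2) h2
    obtain ⟨⟨u, hu⟩, rfl⟩ := QuotientGroup.mk'_surjective _ a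
    have huD : (⟨u, hu⟩ : N) ∉ D.subgroupOf N := fun h => by
      rw [show QuotientGroup.mk' (D.subgroupOf N) ⟨u, hu⟩ = 1 from (QuotientGroup.eq_one_iff _).2 h,
        orderOf_one] at ha
      omega
    have hu2 : (⟨u, hu⟩ : N) * ⟨u, hu⟩ ∈ D.subgroupOf N := by
      rw [← QuotientGroup.eq_one_iff, QuotientGroup.mk_mul, ← pow_two, ← ha]
      exact pow_orderOf_eq_one _
    obtain ⟨t, r, ht, hr, hinv, htu⟩ := Small.exists_invol_lift hSN _ hD'2 hO2 huD hu2
    refine ⟨t, r, t.2, r.2, fun h => huD ?_, by rw [Subgroup.orderOf_coe, ht],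
      by rw [Subgroup.orderOf_coe]; exact hr, congrArg Subtype.val hinv⟩
    have := mul_mem (show t ∈ D.subgroupOf N from h) htu
    rwa [mul_inv_cancel_left] at this
  · intro u hu huD hu2
    obtain ⟨t, r, ht, -, -, htu⟩ := Small.exists_invol_lift hSN _ hD'2 hO2 (u := ⟨u, hu⟩) huD hu2
    exact ⟨t, t.2, by rw [Subgroup.orderOf_coe, ht], htu⟩
  · rcases Small.core_cases hSN _ hD'2 hO2 hD1' h2 hIH hlt with h | h | ⟨h1, h2', h3⟩
    · exact Or.inl h
    · exact Or.inr (Or.inl h)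
    · exact Or.inr (Or.inr ⟨h3, hDn, h1, h2'⟩)

/-- The strong embedding argument. -/
theorem Small.no_weakly_closed (hS : Small G) (hnc : ¬ IsMulCommutative G) {D : Subgroup G}
    (hD : CoreData D)
    (hW : ∀ X : Subgroup G, IsPGroup 2 X → D ≤ X → ∀ g : G,
      (∀ d ∈ D, g * d * g⁻¹ ∈ X) → g ∈ Subgroup.normalizer (D : Set G))
    (hU : ∀ u ∈ Subgroup.normalizer (D : Set G), orderOf u = 2 → u ∉ D →
      ∃ (X : Subgroup G) (g z : G), IsPGroup 2 X ∧ Subgroup.centralizer ({u} : Set G) ≤ X ∧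
        (∀ d ∈ D, g * d * g⁻¹ ∈ X) ∧ z ∈ D ∧ z ≠ 1 ∧ g⁻¹ * z * g ∈ D) : False := by
  classical
  haveI : Fact (Nat.Prime 2) := ⟨Nat.prime_two⟩
  set N := Subgroup.normalizer (D : Set G) with hN
  have hcm := fun (a : G) (ha : a ∈ D) (b : G) (hb : b ∈ D) => commute_of_exp_two hD.exp ha hb
  have hXN : ∀ X : Subgroup G, IsPGroup 2 X → D ≤ X → X ≤ N := fun X hX hDX x hx =>
    hW X hX hDX x fun d hd => mul_mem (mul_mem hx (hDX hd)) (inv_mem hx)
  have horder : ∀ d ∈ D, d ≠ 1 → orderOf d = 2 := fun d hd h1 => Invol.order_two_of_sq (hD.exp d hd) h1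
  have hCw : ∀ w ∈ D, w ≠ 1 → Subgroup.centralizer ({w} : Set G) ≤ N := fun w hw hw1 =>
    hXN _ (hS.isPGroup_centralizer_invol (horder w hw hw1)) fun d hd =>
      Subgroup.mem_centralizer_singleton_iff.2 (hcm d hd w hw)
  have hC : ∀ u ∈ N, orderOf u = 2 → Subgroup.centralizer ({u} : Set G) ≤ N := by
    intro u hu huo
    by_cases huD : u ∈ D
    · exact hCw u huD (Invol.ne_one huo)
    obtain ⟨X, g, z, hX, hCX, hgX, hz, hz1, hgz⟩ := hU u hu huo huD
    refine hCX.trans (hXN X hX ?_)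
    set Y := Subgroup.centralizer ({z} : Set G) with hY
    have hg : g ∈ N := hW Y (hS.isPGroup_centralizer_invol (horder z hz hz1))
      (fun d hd => Subgroup.mem_centralizer_singleton_iff.2 (hcm d hd z hz)) g fun d hd => by
        refine Subgroup.mem_centralizer_singleton_iff.2 ?_
        have h := hcm d hd _ hgz
        calc g * d * g⁻¹ * z = g * (d * (g⁻¹ * z * g)) * g⁻¹ := by group
          _ = g * ((g⁻¹ * z * g) * d) * g⁻¹ := by rw [h]
          _ = _ := by group
    intro d hd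
    have hd' : g⁻¹ * d * g ∈ D := by
      have := (Subgroup.mem_normalizer_iff.1 (inv_mem hg) d).1 hd
      simpa using this
    have := hgX _ hd'
    simpa [mul_assoc] using this
  obtain ⟨t, r, htN, -, htD, hto, -, -⟩ := hD.lift
  haveI hDn : (D.subgroupOf N).Normal := Subgroup.normal_subgroupOf_of_le_normalizer le_rfl
  obtain ⟨T⟩ : Nonempty (Sylow 2 N) := inferInstance
  have hDT : D ≤ (T : Subgroup N).map N.subtype := fun d hd =>
    ⟨⟨d, Subgroup.le_normalizer hd⟩,
      le_sylow_of_normal hDn (hD.two.comap_subtype : IsPGroup 2 (D.subgroupOf N)) T hd, rfl⟩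
  have hSE : Cfsg.IsStronglyEmbedded N := Invol.se_of_centralizers hD.ne_top T
    (Invol.even_of_invol_mem hto htN) (fun g hg => hW _ (T.isPGroup'.map N.subtype) hDT g fun d hd =>
      (Subgroup.mem_normalizer_iff.1 hg d).1 (hDT hd)) hC
  obtain ⟨x, hxo, hxN⟩ : ∃ x : G, orderOf x = 2 ∧ x ∉ N := by
    by_contra hcon
    push Not at hcon
    have hle : Subgroup.normalClosure ({t} : Set G) ≤ N := by
      rw [Subgroup.normalClosure, Subgroup.closure_le]
      intro y hy
      obtain ⟨a, rfl, hc⟩ := Group.mem_conjugatesOfSet_iff.mp hy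
      obtain ⟨g, rfl⟩ := isConj_iff.mp hc
      exact hcon _ ((Invol.order_conj g a).trans hto)
    rcases IsSimpleGroup.eq_bot_or_eq_top_of_normal (Subgroup.normalClosure ({t} : Set G))
      inferInstance with h | h
    · exact Invol.ne_one hto (Subgroup.mem_bot.1 (h ▸ Subgroup.subset_normalClosure rfl))
    · exact hD.ne_top (top_le_iff.1 (h ▸ hle))
  obtain ⟨⟨s, hsD⟩, hs1⟩ := @exists_ne D ((Subgroup.nontrivial_iff_ne_bot D).2 hD.ne_bot) 1
  have hs : s ≠ 1 := fun h => hs1 (Subtype.ext h)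
  obtain ⟨d, ⟨hdN, -⟩, hd⟩ := (S1225.result N hSE x hxo hxN s t (horder s hsD hs)
    (Subgroup.le_normalizer hsD) hto htN).1
  exact htD (hd ▸ (Subgroup.mem_normalizer_iff.1 hdN s).1 hsD)

end Simple

end Cfsg.Agent.SmallSpec
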