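import Mathlib.GroupTheory.SpecificGroups.Alternating
import Mathlib.Data.Fintype.Perm
import Mathlib.GroupTheory.PGroup
import Mathlib.GroupTheory.Index

/-!
Modules over the alternating group of degree five on which elements of order three and five act
fixed point freely.
-/

set_option autoImplicit false
set_option linter.unusedSectionVars false
set_option linter.style.haveILetI false

namespace Cfsg.Agent.SmallSpec.Natural

universe u v

abbrev A5 := alternatingGroup (Fin 5)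

/-- Elements of order three or five have no nontrivial fixed point and the exponent is two. -/
structure Fpf {V : Type u} [CommGroup V] (ρ : A5 →* MulAut V) : Prop where
  two : ∀ v : V, v * v = 1
  three : ∀ σ : A5, σ ^ 3 = 1 → σ ≠ 1 → ∀ v : V, ρ σ v = v → v = 1
  five : ∀ σ : A5, σ ^ 5 = 1 → σ ≠ 1 → ∀ v : V, ρ σ v = v → v = 1

/-- The subgroup generated by the orbit of `w`. -/
def orbitSpan {V : Type u} [CommGroup V] (ρ : A5 →* MulAut V) (w : V) : Subgroup V :=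
  Subgroup.closure (Set.range fun σ : A5 => ρ σ w)

/-- `w` is fixed by the four-group fixing the last point. -/
def FixFour {V : Type u} [CommGroup V] (ρ : A5 →* MulAut V) (w : V) : Prop :=
  ∀ σ : A5, (σ : Equiv.Perm (Fin 5)) 4 = 4 → σ * σ = 1 → ρ σ w = w

set_option synthInstance.maxSize 2000 in
theorem exists_klein : ∃ a b : A5, (a : Equiv.Perm (Fin 5)) 4 = 4 ∧ (b : Equiv.Perm (Fin 5)) 4 = 4 ∧
    a * a = 1 ∧ b * b = 1 ∧ a * b = b * a ∧
    ∀ σ : A5, (σ : Equiv.Perm (Fin 5)) 4 = 4 → σ * σ = 1 → σ = 1 ∨ σ = a ∨ σ = b ∨ σ = a * b := by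
  decide +kernel

theorem exists_three_fix : ∃ b : A5, b ^ 3 = 1 ∧ b ≠ 1 ∧ (b : Equiv.Perm (Fin 5)) 4 = 4 ∧
    ∀ σ : A5, (σ : Equiv.Perm (Fin 5)) 4 = 4 →
      (σ * σ = 1) ∨ (∃ τ : A5, (τ : Equiv.Perm (Fin 5)) 4 = 4 ∧ τ * τ = 1 ∧ (σ = b * τ ∨ σ = b * b * τ)) := by
  decide +kernel

theorem exists_cycle : ∀ m : Fin 5, m ≠ 0 → m ≠ 1 → ∃ σ : A5, σ ^ 3 = 1 ∧ σ ≠ 1 ∧
    (σ : Equiv.Perm (Fin 5)) 0 = 1 ∧ (σ : Equiv.Perm (Fin 5)) 1 = m ∧
      (σ : Equiv.Perm (Fin 5)) m = 0 := by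
  decide +kernel

theorem exists_to : ∀ m : Fin 5, ∃ σ : A5, (σ : Equiv.Perm (Fin 5)) 4 = m := by
  decide +kernel

theorem exists_five : ∃ σ : A5, σ ^ 5 = 1 ∧ σ ≠ 1 := by
  decide +kernel

variable {V : Type u} [CommGroup V] [Finite V] {ρ : A5 →* MulAut V}

theorem act_mul (σ τ : A5) (v : V) : ρ (σ * τ) v = ρ σ (ρ τ v) := by
  rw [map_mul]; rfl

theorem act_one (v : V) : ρ 1 v = v := by
  rw [map_one]; rfl

/-- A translate by an element of order three is the product of the two others. -/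
theorem Fpf.relation (h : Fpf ρ) {σ : A5} (hσ : σ ^ 3 = 1) (hσ1 : σ ≠ 1) (v : V) :
    ρ (σ * σ) v = v * ρ σ v := by
  have h3 : σ * (σ * σ) = 1 := by rw [← hσ, pow_succ', pow_two]
  have hfix : v * ρ σ v * ρ (σ * σ) v = 1 := by
    refine h.three σ hσ hσ1 _ ?_
    rw [map_mul, map_mul, ← act_mul, ← act_mul, h3, act_one]
    rw [mul_comm (ρ σ v * ρ (σ * σ) v) v, mul_assoc]
  calc ρ (σ * σ) v = (v * ρ σ v) * (v * ρ σ v) * ρ (σ * σ) v := by rw [h.two, one_mul]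
    _ = (v * ρ σ v) * (v * ρ σ v * ρ (σ * σ) v) := by rw [mul_assoc]
    _ = v * ρ σ v := by rw [hfix, mul_one]

theorem exists_fixed_invol (h : Fpf ρ) {a : A5} (ha : a * a = 1) {v : V} (hv : v ≠ 1) :
    ∃ u : V, u ≠ 1 ∧ ρ a u = u ∧ (u = v ∨ u = v * ρ a v) := by
  by_cases hf : ρ a v = v
  · exact ⟨v, hv, hf, Or.inl rfl⟩
  · refine ⟨v * ρ a v, fun e => hf ?_, ?_, Or.inr rfl⟩
    · rw [mul_eq_one_iff_inv_eq] at e
      rw [← e, inv_eq_of_mul_eq_one_right (h.two v)]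
    · rw [map_mul, ← act_mul, ha, act_one, mul_comm]

theorem Fpf.exists_fixFour [Nontrivial V] (h : Fpf ρ) : ∃ w : V, w ≠ 1 ∧ FixFour ρ w := by
  obtain ⟨a, b, -, -, ha, hb, hab, hall⟩ := exists_klein
  obtain ⟨v, hv⟩ := exists_ne (1 : V)
  obtain ⟨u, hu, hau, -⟩ := exists_fixed_invol h ha hv
  obtain ⟨w, hw, hbw, hwu⟩ := exists_fixed_invol h hb hu
  have haw : ρ a w = w := by
    rcases hwu with rfl | rfl
    · exact hau
    · rw [map_mul, hau, ← act_mul, hab, act_mul, hau]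
  refine ⟨w, hw, fun σ h4 hσ => ?_⟩
  rcases hall σ h4 hσ with h1 | h1 | h1 | h1 <;> subst h1
  · exact act_one w
  · exact haw
  · exact hbw
  · rw [act_mul, hbw, haw]

/-- The translates of `w` by the elements sending the last point to `m`. -/
def piece (ρ : A5 →* MulAut V) (w : V) (m : Fin 5) : Subgroup V :=
  Subgroup.closure ((fun σ : A5 => ρ σ w) '' {σ : A5 | (σ : Equiv.Perm (Fin 5)) 4 = m})

theorem act_mem_piece {w : V} (σ : A5) {m : Fin 5} {v : V} (hv : v ∈ piece ρ w m) :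
    ρ σ v ∈ piece ρ w ((σ : Equiv.Perm (Fin 5)) m) := by
  suffices piece ρ w m ≤ (piece ρ w ((σ : Equiv.Perm (Fin 5)) m)).comap (ρ σ).toMonoidHom from this hv
  refine (Subgroup.closure_le _).2 ?_
  rintro _ ⟨τ, hτ, rfl⟩
  refine Subgroup.subset_closure ⟨σ * τ, ?_, act_mul σ τ w⟩
  show ((σ * τ : A5) : Equiv.Perm (Fin 5)) 4 = _
  rw [Subgroup.coe_mul, Equiv.Perm.mul_apply]
  exact congrArg _ hτ

theorem Fpf.card_piece_four (h : Fpf ρ) {w : V} (hw : FixFour ρ w) : Nat.card (piece ρ w 4) ≤ 4 := by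
  obtain ⟨b, hb, hb1, -, hall⟩ := exists_three_fix
  have hr : ρ (b * b) w = w * ρ b w := h.relation hb hb1 w
  let K : Subgroup V :=
    { carrier := {x | x = 1 ∨ x = w ∨ x = ρ b w ∨ x = w * ρ b w}
      one_mem' := Or.inl rfl
      mul_mem' := by
        have e1 := h.two w
        have e2 := h.two (ρ b w)
        have e3 : ∀ z, w * (w * z) = z := fun z => by rw [← mul_assoc, e1, one_mul]
        rintro x y (hx | hx | hx | hx) (hy | hy | hy | hy) <;> rw [hx, hy] <;>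
          simp [e1, e2, e3, mul_assoc, mul_comm (ρ b w) w, mul_left_comm (ρ b w) w]
      inv_mem' := by
        intro x hx
        rwa [inv_eq_of_mul_eq_one_right (h.two x)] }
  have hle : piece ρ w 4 ≤ K := by
    refine (Subgroup.closure_le _).2 ?_
    rintro _ ⟨σ, hσ, rfl⟩
    rcases hall σ hσ with hs | ⟨τ, hτ4, hτ, rfl | rfl⟩
    · exact Or.inr (Or.inl (hw σ hσ hs))
    · exact Or.inr (Or.inr (Or.inl (by show ρ (b * τ) w = _; rw [act_mul, hw τ hτ4 hτ])))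
    · exact Or.inr (Or.inr (Or.inr (by show ρ (b * b * τ) w = _; rw [act_mul, hw τ hτ4 hτ, hr])))
  refine (Subgroup.card_le_of_le hle).trans ?_
  refine (Nat.card_le_card_of_surjective (fun i : Fin 4 =>
    (⟨![1, w, ρ b w, w * ρ b w] i, by fin_cases i <;> simp [K]⟩ : K)) ?_).trans (by simp)
  rintro ⟨x, rfl | rfl | rfl | rfl⟩
  exacts [⟨0, rfl⟩, ⟨1, rfl⟩, ⟨2, rfl⟩, ⟨3, rfl⟩]

theorem Fpf.card_piece (h : Fpf ρ) {w : V} (hw : FixFour ρ w) (m : Fin 5) :
    Nat.card (piece ρ w m) ≤ 4 := by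
  obtain ⟨σ, hσ⟩ := exists_to m
  refine le_trans (Nat.card_le_card_of_surjective
    (fun v : piece ρ w 4 => (⟨ρ σ v, hσ ▸ act_mem_piece σ v.2⟩ : piece ρ w m)) ?_)
    (h.card_piece_four hw)
  rintro ⟨v, hv⟩
  have hm : ((σ⁻¹ : A5) : Equiv.Perm (Fin 5)) m = 4 := by
    rw [Subgroup.coe_inv, ← hσ, ← Equiv.Perm.mul_apply, inv_mul_cancel, Equiv.Perm.one_apply]
  refine ⟨⟨ρ σ⁻¹ v, hm ▸ act_mem_piece σ⁻¹ hv⟩, Subtype.ext ?_⟩
  show ρ σ (ρ σ⁻¹ v) = v
  rw [← act_mul, mul_inv_cancel, act_one]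

theorem Fpf.piece_le (h : Fpf ρ) {w : V} (m : Fin 5) : piece ρ w m ≤ piece ρ w 0 ⊔ piece ρ w 1 := by
  by_cases h0 : m = 0
  · exact h0 ▸ le_sup_left
  by_cases h1 : m = 1
  · exact h1 ▸ le_sup_right
  obtain ⟨σ, hσ, hσ1, e0, e1, e2⟩ := exists_cycle m h0 h1
  intro v hv
  have hu : ρ σ v ∈ piece ρ w 0 := e2 ▸ act_mem_piece σ hv
  have hu2 : ρ σ (ρ σ v) ∈ piece ρ w 1 := e0 ▸ act_mem_piece σ hu
  have h3 : σ * σ * σ = 1 := by rw [← hσ, pow_succ, pow_two]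
  have := h.relation hσ hσ1 (ρ σ v)
  rw [← act_mul, h3, act_one] at this
  rw [this]
  exact Subgroup.mul_mem_sup hu hu2

theorem Fpf.card_orbitSpan_le (h : Fpf ρ) {w : V} (hw : FixFour ρ w) :
    Nat.card (orbitSpan ρ w) ≤ 16 := by
  have hle : orbitSpan ρ w ≤ piece ρ w 0 ⊔ piece ρ w 1 := by
    refine (Subgroup.closure_le _).2 ?_
    rintro _ ⟨σ, rfl⟩
    exact h.piece_le _ (Subgroup.subset_closure ⟨σ, rfl, rfl⟩)
  refine (Subgroup.card_le_of_le hle).trans ?_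
  refine le_trans (Nat.card_le_card_of_surjective
    (fun p : piece ρ w 0 × piece ρ w 1 =>
      (⟨(p.1 : V) * p.2, Subgroup.mul_mem_sup p.1.2 p.2.2⟩ : (piece ρ w 0 ⊔ piece ρ w 1 : Subgroup V)))
    ?_) ?_
  · rintro ⟨v, hv⟩
    obtain ⟨a, ha, b, hb, rfl⟩ := Subgroup.mem_sup.1 hv
    exact ⟨(⟨a, ha⟩, ⟨b, hb⟩), rfl⟩
  · rw [Nat.card_prod]
    exact Nat.mul_le_mul (h.card_piece hw 0) (h.card_piece hw 1)

theorem self_mem_orbitSpan (w : V) : w ∈ orbitSpan ρ w :=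
  Subgroup.subset_closure ⟨1, act_one w⟩

theorem orbitSpan_stable (w : V) (σ : A5) {v : V} (hv : v ∈ orbitSpan ρ w) :
    ρ σ v ∈ orbitSpan ρ w := by
  suffices orbitSpan ρ w ≤ (orbitSpan ρ w).comap (ρ σ).toMonoidHom from this hv
  refine (Subgroup.closure_le _).2 ?_
  rintro _ ⟨τ, rfl⟩
  exact Subgroup.subset_closure ⟨σ * τ, act_mul σ τ w⟩

/-- An element of prime order without fixed points divides the number of nontrivial elements. -/
theorem card_modEq_of_fpf (W : Subgroup V) (hW : ∀ σ : A5, ∀ v ∈ W, ρ σ v ∈ W) {p : ℕ}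
    [hp : Fact p.Prime] {σ : A5} (hσ : σ ^ p = 1) (hfix : ∀ v : V, ρ σ v = v → v = 1) :
    Nat.card W ≡ 1 [MOD p] := by
  letI : MulAction (Subgroup.zpowers σ) W :=
    { smul := fun g v => ⟨ρ (g : A5) v, hW _ _ v.2⟩
      one_smul := fun v => Subtype.ext (act_one (v : V))
      mul_smul := fun g g' v => Subtype.ext (act_mul (g : A5) g' (v : V)) }
  have hpg : IsPGroup p (Subgroup.zpowers σ) := by
    intro g
    refine ⟨1, Subtype.ext ?_⟩
    obtain ⟨n, hn⟩ := g.2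
    rw [pow_one, SubmonoidClass.coe_pow, ← hn, ← zpow_natCast, ← zpow_mul, mul_comm, zpow_mul,
      zpow_natCast, hσ, one_zpow]
    rfl
  haveI : Subsingleton (MulAction.fixedPoints (Subgroup.zpowers σ) W) := by
    refine ⟨fun a b => ?_⟩
    have key : ∀ c : MulAction.fixedPoints (Subgroup.zpowers σ) W, ((c : W) : V) = 1 := fun c =>
      hfix _ (congrArg Subtype.val (c.2 ⟨σ, Subgroup.mem_zpowers σ⟩))
    exact Subtype.ext (Subtype.ext ((key a).trans (key b).symm))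
  haveI : Nonempty (MulAction.fixedPoints (Subgroup.zpowers σ) W) :=
    ⟨⟨1, fun g => Subtype.ext (map_one (ρ (g : A5)))⟩⟩
  simpa using hpg.card_modEq_card_fixedPoints W

theorem Fpf.sixteen_le (h : Fpf ρ) (W : Subgroup V) (hW : ∀ σ : A5, ∀ v ∈ W, ρ σ v ∈ W)
    (hne : W ≠ ⊥) : 16 ≤ Nat.card W := by
  obtain ⟨b, hb, hb1, -, -⟩ := exists_three_fix
  obtain ⟨s, hs, hs1⟩ := exists_five
  haveI : Fact (Nat.Prime 3) := ⟨Nat.prime_three⟩
  haveI : Fact (Nat.Prime 5) := ⟨Nat.prime_five⟩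
  have h3 := card_modEq_of_fpf W hW hb (h.three b hb hb1)
  have h5 := card_modEq_of_fpf W hW hs (h.five s hs hs1)
  have h1 : 1 < Nat.card W := Subgroup.one_lt_card_iff_ne_bot W |>.2 hne
  unfold Nat.ModEq at h3 h5
  omega

theorem Fpf.orbitSpan_eq_top (h : Fpf ρ) (hV : Nat.card V = 16) {w : V} (hw1 : w ≠ 1) :
    orbitSpan ρ w = ⊤ := by
  refine Subgroup.eq_top_of_le_card _ ?_
  rw [hV]
  refine h.sixteen_le _ (fun σ v hv => orbitSpan_stable w σ hv) fun e => hw1 ?_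
  have := self_mem_orbitSpan (ρ := ρ) w
  rwa [e, Subgroup.mem_bot] at this

/-- Two such modules of order sixteen are isomorphic. -/
theorem Fpf.exists_equiv {V' : Type v} [CommGroup V'] [Finite V'] {ρ' : A5 →* MulAut V'}
    (h : Fpf ρ) (h' : Fpf ρ') (hV : Nat.card V = 16) (hV' : Nat.card V' = 16) :
    ∃ f : V ≃* V', ∀ σ v, f (ρ σ v) = ρ' σ (f v) := by
  haveI : Nontrivial V := Finite.one_lt_card_iff_nontrivial.1 (by omega)
  haveI : Nontrivial V' := Finite.one_lt_card_iff_nontrivial.1 (by omega)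
  obtain ⟨w, hw1, hw⟩ := h.exists_fixFour
  obtain ⟨w', hw1', hw'⟩ := h'.exists_fixFour
  let π : A5 →* MulAut (V × V') :=
    { toFun := fun σ => MulEquiv.prodCongr (ρ σ) (ρ' σ)
      map_one' := MulEquiv.ext fun x => Prod.ext (act_one x.1) (act_one x.2)
      map_mul' := fun σ τ => MulEquiv.ext fun x => Prod.ext (act_mul σ τ x.1) (act_mul σ τ x.2) }
  have hπ : Fpf π :=
    { two := fun v => Prod.ext (h.two v.1) (h'.two v.2)
      three := fun σ h1 h2 v e => Prod.ext (h.three σ h1 h2 v.1 (congrArg Prod.fst e))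
        (h'.three σ h1 h2 v.2 (congrArg Prod.snd e))
      five := fun σ h1 h2 v e => Prod.ext (h.five σ h1 h2 v.1 (congrArg Prod.fst e))
        (h'.five σ h1 h2 v.2 (congrArg Prod.snd e)) }
  set T := orbitSpan π (w, w') with hTdef
  have hT : Nat.card T ≤ 16 :=
    hπ.card_orbitSpan_le fun σ h4 hσ => Prod.ext (hw σ h4 hσ) (hw' σ h4 hσ)
  let p₁ : T →* V := (MonoidHom.fst V V').comp T.subtype
  let p₂ : T →* V' := (MonoidHom.snd V V').comp T.subtype
  have s₁ : Function.Surjective p₁ := by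
    have hle : orbitSpan ρ w ≤ p₁.range := (Subgroup.closure_le _).2 (by
      rintro _ ⟨σ, rfl⟩; exact ⟨⟨π σ (w, w'), Subgroup.subset_closure ⟨σ, rfl⟩⟩, rfl⟩)
    intro v
    exact hle (h.orbitSpan_eq_top hV hw1 ▸ Subgroup.mem_top v)
  have s₂ : Function.Surjective p₂ := by
    have hle : orbitSpan ρ' w' ≤ p₂.range := (Subgroup.closure_le _).2 (by
      rintro _ ⟨σ, rfl⟩; exact ⟨⟨π σ (w, w'), Subgroup.subset_closure ⟨σ, rfl⟩⟩, rfl⟩)
    intro v
    exact hle (h'.orbitSpan_eq_top hV' hw1' ▸ Subgroup.mem_top v)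
  have b₁ : Function.Bijective p₁ := (Nat.bijective_iff_surjective_and_card p₁).2
    ⟨s₁, le_antisymm (hV ▸ hT) (Nat.card_le_card_of_surjective _ s₁)⟩
  have b₂ : Function.Bijective p₂ := (Nat.bijective_iff_surjective_and_card p₂).2
    ⟨s₂, le_antisymm (hV' ▸ hT) (Nat.card_le_card_of_surjective _ s₂)⟩
  refine ⟨(MulEquiv.ofBijective p₁ b₁).symm.trans (MulEquiv.ofBijective p₂ b₂), fun σ v => ?_⟩
  obtain ⟨x, rfl⟩ := (MulEquiv.ofBijective p₁ b₁).surjective v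
  let y : T := ⟨π σ x, orbitSpan_stable (ρ := π) (w, w') σ x.2⟩
  have e : ρ σ (MulEquiv.ofBijective p₁ b₁ x) = MulEquiv.ofBijective p₁ b₁ y := rfl
  rw [e, MulEquiv.trans_apply, MulEquiv.trans_apply, MulEquiv.symm_apply_apply,
    MulEquiv.symm_apply_apply]
  rfl

end Cfsg.Agent.SmallSpec.Natural
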