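import Cfsg.Agent.Lib.SmallSpec.Elementary
import Cfsg.Agent.Lib.SmallSpec.NaturalModule
import Cfsg.Agent.Lib.LocalEven.SL2OverFour
import Cfsg.Agent.Lib.Solvable.Gaschutz
import Cfsg.Agent.S0494
import Mathlib.FieldTheory.Finite.GaloisField

/-!
Extensions of an elementary abelian group by the alternating group of degree five in which all
orders are at most five.
-/

set_option autoImplicit false
set_option linter.unusedSectionVars false
set_option linter.style.haveILetI false

namespace Cfsg.Agent.SmallSpec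

universe u

open Natural

variable {G : Type u} [Group G] [Finite G] {N : Subgroup G} [N.Normal]

theorem natCard_A5 : Nat.card A5 = 60 := by
  rw [nat_card_alternatingGroup, Nat.card_fin]; rfl

/-- Such an extension with nontrivial kernel has an element of order four. -/
theorem Small.exists_order_four (hS : Small G) (hN : ∀ n ∈ N, n * n = 1) (hne : N ≠ ⊥)
    (e : G ⧸ N ≃* A5) : ∃ g : G, orderOf g = 4 := by
  haveI : Fact (Nat.Prime 2) := ⟨Nat.prime_two⟩
  by_contra! hno
  obtain ⟨P⟩ : Nonempty (Sylow 2 G) := inferInstance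
  have hN2 : IsPGroup 2 N := fun n => ⟨1, Subtype.ext (by simpa [pow_two] using hN n n.2)⟩
  obtain ⟨Q, hQ⟩ := hN2.exists_le_sylow
  have hexp : ∀ x ∈ (Q : Subgroup G), x * x = 1 := by
    intro x hx
    obtain ⟨k, hk⟩ := Q.2 ⟨x, hx⟩
    have h4 := orderOf_dvd_of_pow_eq_one (hS.pow_four (congrArg Subtype.val hk))
    have h5 := hS.cases x
    rw [← pow_two]
    rcases h5 with h | h | h | h | h
    · rw [orderOf_eq_one_iff.1 h, one_pow]
    · rw [← h, pow_orderOf_eq_one]
    · rw [h] at h4; omega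
    · exact absurd h (hno x)
    · rw [h] at h4; omega
  have hcen : (Q : Subgroup G) ≤ Subgroup.centralizer (N : Set G) := fun x hx n hn =>
    commute_of_exp_two hexp (hQ hn) hx
  haveI : (Subgroup.centralizer (N : Set G)).Normal := Subgroup.normal_centralizer
  haveI : IsSimpleGroup (G ⧸ N) := e.isSimpleGroup
  have hmap := IsSimpleGroup.eq_bot_or_eq_top_of_normal
    ((Subgroup.centralizer (N : Set G)).map (QuotientGroup.mk' N))
    (Subgroup.Normal.map inferInstance _ (QuotientGroup.mk'_surjective N))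
  rcases hmap with h | h
  · rw [Subgroup.map_eq_bot_iff, QuotientGroup.ker_mk'] at h
    have h4 : 2 ∣ N.index := ⟨30, by
      rw [Subgroup.index_eq_card, Nat.card_congr e.toEquiv, natCard_A5]⟩
    exact Q.not_dvd_index (h4.trans (Subgroup.index_dvd_of_le (hcen.trans h)))
  · obtain ⟨b, hb, hb1, -, -⟩ := exists_three_fix
    have hob : orderOf (e.symm b) = 3 := by
      rw [MulEquiv.orderOf_eq]; exact orderOf_eq_prime hb hb1
    obtain ⟨r, hr, hrb⟩ := Subgroup.mem_map.1 (h ▸ Subgroup.mem_top (e.symm b))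
    have hor : orderOf r = 3 := hS.orderOf_lift (QuotientGroup.mk' N) (Or.inl rfl) (hrb ▸ hob)
    obtain ⟨n, hn, hn1⟩ := N.bot_or_exists_ne_one.resolve_left hne
    exact hn1 (hS.commute_pow_two (j := 1) (Or.inl hor)
      (by rw [pow_one, pow_two]; exact hN n hn) (hr n hn).symm)

/-- The kernel has a complement. -/
theorem Small.exists_complement (hS : Small G) (hN : ∀ n ∈ N, n * n = 1) (e : G ⧸ N ≃* A5) :
    ∃ H : Subgroup G, Subgroup.IsComplement' N H := by
  haveI : Fact (Nat.Prime 2) := ⟨Nat.prime_two⟩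
  haveI : IsMulCommutative N :=
    ⟨⟨fun a b => Subtype.ext (commute_of_exp_two hN a.2 b.2)⟩⟩
  have hN2 : IsPGroup 2 N := fun n => ⟨1, Subtype.ext (by simpa [pow_two] using hN n n.2)⟩
  obtain ⟨α, x, hα, hα1, hx, hx1, hinv, hab⟩ : ∃ α x : A5, α * α = 1 ∧ α ≠ 1 ∧ x ^ 3 = 1 ∧ x ≠ 1 ∧
      α * x * α⁻¹ = x⁻¹ ∧ ∃ β : A5, β ^ 3 = 1 ∧ β ≠ 1 ∧ (α * β) ^ 3 = 1 ∧ α * β ≠ 1 ∧
        α ≠ β * α * β⁻¹ := by
    set_option synthInstance.maxSize 2000 in decide +kernel
  obtain ⟨β, hβ, hβ1, hαβ, hαβ1, hne⟩ := hab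
  obtain ⟨t, -, ht, -, -, htα, -⟩ := hS.exists_inverted N hN2 (a := e.symm α)
    (by rw [MulEquiv.orderOf_eq]; exact orderOf_eq_prime (by rw [pow_two, hα]) hα1) (x := e.symm x)
    (Or.inl (by rw [MulEquiv.orderOf_eq]; exact orderOf_eq_prime hx hx1))
    (by rw [← map_inv, ← map_mul, ← map_mul, hinv, map_inv])
  obtain ⟨r, hr⟩ := QuotientGroup.mk'_surjective N (e.symm β)
  have hor : orderOf r = 3 := hS.orderOf_lift (QuotientGroup.mk' N) (Or.inl rfl)
    (by rw [hr, MulEquiv.orderOf_eq]; exact orderOf_eq_prime hβ hβ1)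
  have hotr : orderOf (t * r) = 3 := hS.orderOf_lift (QuotientGroup.mk' N) (Or.inl rfl)
    (by rw [map_mul, hr, QuotientGroup.mk'_apply, htα, ← map_mul, MulEquiv.orderOf_eq]
        exact orderOf_eq_prime hαβ hαβ1)
  have htt : t * t = 1 := by rw [← pow_two, ← ht, pow_orderOf_eq_one]
  have hr3 : r * (r * r) = 1 := by
    have h := pow_orderOf_eq_one r
    rwa [hor, pow_succ', pow_two] at h
  have htr3 : t * r * (t * r) * (t * r) = 1 := by
    have h := pow_orderOf_eq_one (t * r)
    rwa [hotr, pow_succ, pow_two] at h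
  set a := t with ha
  set b := r * t * r⁻¹ with hb
  have hbb : b * b = 1 := by
    rw [hb]; calc r * t * r⁻¹ * (r * t * r⁻¹) = r * (t * t) * r⁻¹ := by group
      _ = 1 := by rw [htt]; group
  have hrinv : r⁻¹ = r * r := inv_eq_of_mul_eq_one_right hr3
  have habc : a * b * (r⁻¹ * t * r) = 1 := by
    rw [ha, hb, ← htr3, hrinv]
    calc t * (r * t * (r * r)) * (r * r * t * r) = t * r * t * (r * (r * r)) * r * t * r := by group
      _ = t * r * (t * r) * (t * r) := by rw [hr3]; group
  have hab2 : a * b * (a * b) = 1 := by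
    have e1 : a * b = (r⁻¹ * t * r)⁻¹ := eq_inv_of_mul_eq_one_left habc
    rw [e1, ← mul_inv_rev, inv_eq_one]
    calc r⁻¹ * t * r * (r⁻¹ * t * r) = r⁻¹ * (t * t) * r := by group
      _ = 1 := by rw [htt]; group
  have hba : b * a = a * b := by
    have e1 := eq_inv_of_mul_eq_one_left hab2
    rw [mul_inv_rev, inv_eq_of_mul_eq_one_right hbb, inv_eq_of_mul_eq_one_right htt] at e1
    exact e1.symm
  let A : Subgroup G :=
    { carrier := {z | z = 1 ∨ z = a ∨ z = b ∨ z = a * b}
      one_mem' := Or.inl rfl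
      mul_mem' := by
        have e3 : ∀ z, a * (a * z) = z := fun z => by rw [← mul_assoc, htt, one_mul]
        have e5 : ∀ z, b * (a * z) = a * (b * z) := fun z => by rw [← mul_assoc, hba, mul_assoc]
        rintro z w (hz | hz | hz | hz) (hw | hw | hw | hw) <;> rw [hz, hw] <;>
          simp [htt, hbb, e3, e5, hba, mul_assoc]
      inv_mem' := by
        rintro z (hz | hz | hz | hz) <;> rw [hz]
        · simp
        · exact Or.inr (Or.inl (inv_eq_of_mul_eq_one_right htt))
        · exact Or.inr (Or.inr (Or.inl (inv_eq_of_mul_eq_one_right hbb)))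
        · exact Or.inr (Or.inr (Or.inr (inv_eq_of_mul_eq_one_right hab2))) }
  let f : G →* A5 := e.toMonoidHom.comp (QuotientGroup.mk' N)
  have hfN : ∀ z : G, z ∈ N → f z = 1 := fun z hz => by
    show e (z : G ⧸ N) = 1
    rw [(QuotientGroup.eq_one_iff z).2 hz, map_one]
  have hfa : f a = α := by
    show e (t : G ⧸ N) = α
    rw [htα, MulEquiv.apply_symm_apply]
  have hfr : f r = β := by
    show e (QuotientGroup.mk' N r) = β
    rw [hr, MulEquiv.apply_symm_apply]
  have hfb : f b = β * α * β⁻¹ := by rw [hb, map_mul, map_mul, map_inv, hfa, hfr]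
  have hb1 : β * α * β⁻¹ ≠ 1 := fun h => hα1 (conj_eq_one_iff.1 h)
  have hfab : f (a * b) ≠ 1 := by
    rw [map_mul, hfa, hfb]
    intro h
    exact hne ((eq_inv_of_mul_eq_one_left h).trans (by
      rw [mul_inv_rev, mul_inv_rev, inv_inv, inv_eq_of_mul_eq_one_right hα, mul_assoc]))
  have hAN : A ⊓ N = ⊥ := by
    rw [eq_bot_iff]
    rintro z ⟨hz, hzN⟩
    rw [Subgroup.mem_bot]
    have h0 := hfN z hzN
    rcases hz with hz | hz | hz | hz <;> rw [hz] at h0 ⊢
    · exact absurd (hfa.symm.trans h0) hα1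
    · exact absurd (hfb.symm.trans h0) hb1
    · exact absurd h0 hfab
  have hcard : 4 ≤ Nat.card A := by
    have hinj : Function.Injective (fun i : Fin 4 =>
        (⟨![1, a, b, a * b] i, by fin_cases i <;> simp [A]⟩ : A)) := by
      intro i j hij
      have h := congrArg (fun z : A => f (z : G)) hij
      have n1 : α ≠ β * α * β⁻¹ := hne
      have n2 : α * (β * α * β⁻¹) ≠ 1 := by rwa [map_mul, hfa, hfb] at hfab
      fin_cases i <;> fin_cases j <;> first | rfl | skip
      all_goals simp [hfa, hfb, hα1, hb1, n1, n1.symm, n2, n2.symm, hα1.symm, hb1.symm] at h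
    simpa using Nat.card_le_card_of_injective _ hinj
  have hindex : Odd (N ⊔ A).index := by
    have h1 := Subgroup.index_map A (QuotientGroup.mk' N)
    rw [QuotientGroup.ker_mk', QuotientGroup.range_mk', Subgroup.index_top, mul_one, sup_comm] at h1
    rw [← h1]
    have h2 := Subgroup.card_mul_index (A.map (QuotientGroup.mk' N))
    rw [Nat.card_congr e.toEquiv, natCard_A5] at h2
    have hinjA : Function.Injective ((QuotientGroup.mk' N).comp A.subtype) := by
      rw [← MonoidHom.ker_eq_bot_iff, eq_bot_iff]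
      intro z hz
      rw [MonoidHom.mem_ker, MonoidHom.comp_apply, QuotientGroup.mk'_apply, QuotientGroup.eq_one_iff] at hz
      have : (z : G) ∈ A ⊓ N := ⟨z.2, hz⟩
      rw [hAN, Subgroup.mem_bot] at this
      exact Subtype.ext this
    have h3 : Nat.card (A.map (QuotientGroup.mk' N)) = 4 := by
      have hle : Nat.card A ≤ 4 := by
        refine (Nat.card_le_card_of_surjective (fun i : Fin 4 =>
          (⟨![1, a, b, a * b] i, by fin_cases i <;> simp [A]⟩ : A)) ?_).trans (by simp)
        rintro ⟨z, hz⟩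
        rcases hz with hz | hz | hz | hz
        exacts [⟨0, Subtype.ext hz.symm⟩, ⟨1, Subtype.ext hz.symm⟩, ⟨2, Subtype.ext hz.symm⟩,
          ⟨3, Subtype.ext hz.symm⟩]
      rw [← le_antisymm hle hcard]
      refine (Nat.card_congr (Equiv.ofBijective
        (fun z : A => (⟨QuotientGroup.mk' N (z : G), Subgroup.mem_map_of_mem _ z.2⟩ :
          A.map (QuotientGroup.mk' N))) ⟨fun z w h => hinjA (congrArg Subtype.val h), ?_⟩)).symm
      rintro ⟨y, z, hz, rfl⟩
      exact ⟨⟨z, hz⟩, rfl⟩
    rw [h3] at h2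
    exact ⟨7, by omega⟩
  refine SolvGaschutz.existence (K := N) (U := N ⊔ A) le_sup_left ?_ le_sup_right hAN rfl
  obtain ⟨k, hk⟩ := IsPGroup.iff_card.1 hN2
  rw [hk]
  exact Nat.Coprime.pow_left _ (Nat.coprime_two_left.2 hindex)

/-- A projection onto a complement. -/
theorem exists_section {H : Subgroup G} (hH : Subgroup.IsComplement' N H) :
    ∃ s : G →* H, (∀ x : G, x * ((s x : G))⁻¹ ∈ N) ∧ (∀ h : H, s h = h) ∧ ∀ n ∈ N, s n = 1 := by
  let q : H →* G ⧸ N := (QuotientGroup.mk' N).comp H.subtype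
  have hbij : Function.Bijective q := by
    constructor
    · rw [← MonoidHom.ker_eq_bot_iff, eq_bot_iff]
      intro z hz
      rw [MonoidHom.mem_ker, MonoidHom.comp_apply, QuotientGroup.mk'_apply, QuotientGroup.eq_one_iff] at hz
      exact Subtype.ext (Subgroup.disjoint_def.1 hH.disjoint hz z.2)
    · intro y
      obtain ⟨x, rfl⟩ := QuotientGroup.mk'_surjective N y
      obtain ⟨⟨⟨n, hn⟩, h⟩, hx⟩ := (hH.existsUnique x).exists
      refine ⟨h, ?_⟩
      rw [MonoidHom.comp_apply, ← hx, map_mul, QuotientGroup.mk'_apply N n,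
        (QuotientGroup.eq_one_iff n).2 hn, one_mul]
      rfl
  let E := MulEquiv.ofBijective q hbij
  refine ⟨E.symm.toMonoidHom.comp (QuotientGroup.mk' N), fun x => ?_, fun h => E.symm_apply_apply h,
    fun n hn => ?_⟩
  · have e : q (E.symm (QuotientGroup.mk' N x)) = QuotientGroup.mk' N x := E.apply_symm_apply _
    rw [← QuotientGroup.eq_one_iff, QuotientGroup.mk_mul, QuotientGroup.mk_inv]
    exact mul_inv_eq_one.2 e.symm
  · show E.symm (QuotientGroup.mk' N n) = 1
    rw [QuotientGroup.mk'_apply, (QuotientGroup.eq_one_iff n).2 hn, map_one]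

/-- The affine matrices. -/
def affineSet (F : Type) [Field F] : Set (Matrix.SpecialLinearGroup (Fin 3) F) :=
  {M | (M : Matrix (Fin 3) (Fin 3) F) 2 0 = 0 ∧ (M : Matrix (Fin 3) (Fin 3) F) 2 1 = 0 ∧
    (M : Matrix (Fin 3) (Fin 3) F) 2 2 = 1}

/-- The affine matrix with linear part `A` and translation `v`. -/
def affine {F : Type} [Field F] (A : Matrix.SpecialLinearGroup (Fin 2) F) (v : Fin 2 → F) :
    Matrix.SpecialLinearGroup (Fin 3) F :=
  ⟨!![(A : Matrix (Fin 2) (Fin 2) F) 0 0, (A : Matrix (Fin 2) (Fin 2) F) 0 1, v 0;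
      (A : Matrix (Fin 2) (Fin 2) F) 1 0, (A : Matrix (Fin 2) (Fin 2) F) 1 1, v 1; 0, 0, 1], by
    have hA := A.2
    rw [Matrix.det_fin_two] at hA
    rw [Matrix.det_fin_three]
    simp
    linear_combination hA⟩

theorem affine_mul {F : Type} [Field F] (A B : Matrix.SpecialLinearGroup (Fin 2) F) (v w : Fin 2 → F) :
    affine A v * affine B w = affine (A * B) (v + (A : Matrix (Fin 2) (Fin 2) F).mulVec w) := by
  apply Subtype.ext
  ext i j
  rw [Matrix.SpecialLinearGroup.coe_mul, Matrix.mul_apply, Fin.sum_univ_three]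
  fin_cases i <;> fin_cases j <;>
    simp [affine, Matrix.mul_apply, Fin.sum_univ_two] <;>
    ring

theorem affine_injective {F : Type} [Field F] {A B : Matrix.SpecialLinearGroup (Fin 2) F}
    {v w : Fin 2 → F} (h : affine A v = affine B w) : A = B ∧ v = w := by
  have h' : ∀ i j, (affine A v : Matrix (Fin 3) (Fin 3) F) i j = (affine B w : Matrix (Fin 3) (Fin 3) F) i j :=
    fun i j => by rw [h]
  refine ⟨Subtype.ext ?_, funext fun i => ?_⟩
  · ext i j
    have := h' i.castSucc j.castSucc
    fin_cases i <;> fin_cases j <;> simpa [affine] using this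
  · have := h' i.castSucc 2
    fin_cases i <;> simpa [affine] using this

theorem mem_affineSet_iff {F : Type} [Field F] (M : Matrix.SpecialLinearGroup (Fin 3) F) :
    M ∈ affineSet F ↔ ∃ A v, affine A v = M := by
  constructor
  · rintro ⟨h0, h1, h2⟩
    refine ⟨⟨!![(M : Matrix (Fin 3) (Fin 3) F) 0 0, (M : Matrix (Fin 3) (Fin 3) F) 0 1;
      (M : Matrix (Fin 3) (Fin 3) F) 1 0, (M : Matrix (Fin 3) (Fin 3) F) 1 1], ?_⟩,
      ![(M : Matrix (Fin 3) (Fin 3) F) 0 2, (M : Matrix (Fin 3) (Fin 3) F) 1 2], ?_⟩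
    · have hM := M.2
      rw [Matrix.det_fin_three, h0, h1, h2] at hM
      rw [Matrix.det_fin_two]
      simp
      linear_combination hM
    · apply Subtype.ext
      ext i j
      fin_cases i <;> fin_cases j <;> simp [affine, h0, h1, h2]
  · rintro ⟨A, v, rfl⟩
    exact ⟨rfl, rfl, rfl⟩

theorem mulVec_fixed {F : Type} [Field F] [CharP F 2] {M : Matrix.SpecialLinearGroup (Fin 2) F}
    {v : Fin 2 → F} (hv : v ≠ 0) (h : (M : Matrix (Fin 2) (Fin 2) F).mulVec v = v) : M * M = 1 := by
  have hM := M.2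
  rw [Matrix.det_fin_two] at hM
  have h0 := congrFun h 0
  have h1 := congrFun h 1
  simp [Matrix.mulVec, dotProduct, Fin.sum_univ_two] at h0 h1
  set a := (M : Matrix (Fin 2) (Fin 2) F) 0 0
  set b := (M : Matrix (Fin 2) (Fin 2) F) 0 1
  set c := (M : Matrix (Fin 2) (Fin 2) F) 1 0
  set d := (M : Matrix (Fin 2) (Fin 2) F) 1 1
  have e0 : (a + d) * v 0 = 0 := by
    linear_combination -(d - 1) * h0 + b * h1 + (v 0) * hM + (v 0) * (CharTwo.two_eq_zero (R := F))
  have e1 : (a + d) * v 1 = 0 := by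
    linear_combination c * h0 - (a - 1) * h1 + (v 1) * hM + (v 1) * (CharTwo.two_eq_zero (R := F))
  have hd : a + d = 0 := by
    by_contra hne
    exact hv (funext fun i => by fin_cases i <;> simp_all)
  apply Subtype.ext
  ext i j
  have hda : d = a := by
    have h2 := CharTwo.two_eq_zero (R := F)
    linear_combination hd - a * h2
  fin_cases i <;> fin_cases j <;> simp [Matrix.mul_apply, Fin.sum_univ_two]
  · linear_combination hM + (b * c + a * a) * (CharTwo.two_eq_zero (R := F)) - a * hd
  · linear_combination b * hd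
  · linear_combination c * hd
  · linear_combination hM + (b * c + d * d) * (CharTwo.two_eq_zero (R := F)) - d * hd

/-- An irreducible extension of that kind is the affine group over the field with four elements. -/
theorem Small.exists_affine (hS : Small G) (hN : ∀ n ∈ N, n * n = 1) (hne : N ≠ ⊥)
    (hmin : ∀ M : Subgroup G, M.Normal → M ≤ N → M ≠ ⊥ → M = N) (e : G ⧸ N ≃* A5) :
    ∃ (F : Type) (_ : Field F) (_ : Fintype F), Fintype.card F = 4 ∧
      Nonempty (G ≃* ↥(Subgroup.closure (affineSet F))) := by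
  obtain ⟨H, hH⟩ := hS.exists_complement hN e
  obtain ⟨s, hs, hsH, hsN⟩ := exists_section hH
  let F := GaloisField 2 2
  haveI : Fintype F := Fintype.ofFinite F
  have hF : Nat.card F = 4 := by rw [GaloisField.card 2 2 two_ne_zero]; norm_num
  haveI := LESL2Four.isSimple_sl (F := F) hF
  obtain ⟨g⟩ := S0494.result (LESL2Four.card_sl (F := F) hF)
  have hbij : Function.Bijective ((QuotientGroup.mk' N).comp H.subtype) := by
    constructor
    · rw [← MonoidHom.ker_eq_bot_iff, eq_bot_iff]
      intro z hz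
      rw [MonoidHom.mem_ker, MonoidHom.comp_apply, QuotientGroup.mk'_apply, QuotientGroup.eq_one_iff] at hz
      exact Subtype.ext (Subgroup.disjoint_def.1 hH.disjoint hz z.2)
    · intro y
      obtain ⟨x, rfl⟩ := QuotientGroup.mk'_surjective N y
      refine ⟨s x, ?_⟩
      rw [MonoidHom.comp_apply, QuotientGroup.mk'_apply, QuotientGroup.mk'_apply]
      exact (QuotientGroup.eq.2 (by
        have := Subgroup.Normal.conj_mem (inferInstance : N.Normal) _ (hs x) (s x : G)⁻¹
        simpa [mul_assoc] using this))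
  let E : H ≃* A5 := (MulEquiv.ofBijective _ hbij).trans e
  letI : CommGroup N :=
    { (inferInstance : Group N) with
      mul_comm := fun a b => Subtype.ext (commute_of_exp_two hN a.2 b.2) }
  let ρ : A5 →* MulAut N :=
    (MulAut.conjNormal.comp H.subtype).comp E.symm.toMonoidHom
  have hlift : ∀ {p : ℕ}, p = 3 ∨ p = 5 → p.Prime → ∀ σ : A5, σ ^ p = 1 → σ ≠ 1 →
      ∀ v : N, ρ σ v = v → v = 1 := by
    intro p hp hpp σ h1 h2 v hv
    haveI := Fact.mk hpp
    have ho : orderOf ((E.symm σ : H) : G) = p := by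
      rw [Subgroup.orderOf_coe, MulEquiv.orderOf_eq]
      exact orderOf_eq_prime h1 h2
    have hc : Commute ((E.symm σ : H) : G) (v : G) :=
      mul_inv_eq_iff_eq_mul.1 (congrArg Subtype.val hv)
    exact Subtype.ext (hS.commute_pow_two (j := 1) (ho ▸ hp) (by rw [pow_one, pow_two]; exact hN v v.2) hc)
  have hρ : Fpf ρ :=
    { two := fun v => Subtype.ext (hN v v.2)
      three := hlift (Or.inl rfl) Nat.prime_three
      five := hlift (Or.inr rfl) Nat.prime_five }
  haveI : Nontrivial N := (Subgroup.nontrivial_iff_ne_bot N).2 hne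
  have hcardN : Nat.card N = 16 := by
    obtain ⟨w, hw1, hw⟩ := hρ.exists_fixFour
    refine le_antisymm ?_ ?_
    · set T := (orbitSpan ρ w).map N.subtype with hT
      have hTn : T.Normal := by
        refine ⟨fun z hz x => ?_⟩
        obtain ⟨v, hv, rfl⟩ := Subgroup.mem_map.1 hz
        set n : N := ⟨x * (s x : G)⁻¹, hs x⟩ with hn
        refine Subgroup.mem_map.2 ⟨ρ (E (s x)) v, orbitSpan_stable w _ hv, ?_⟩
        show ((E.symm (E (s x)) : H) : G) * v * ((E.symm (E (s x)) : H) : G)⁻¹ = x * v * x⁻¹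
        rw [MulEquiv.symm_apply_apply]
        have hc : (n : G) * ((s x : G) * v * (s x : G)⁻¹) = (s x : G) * v * (s x : G)⁻¹ * n :=
          commute_of_exp_two hN n.2 (Subgroup.Normal.conj_mem inferInstance _ v.2 _)
        calc (s x : G) * v * (s x : G)⁻¹
            = (s x : G) * v * (s x : G)⁻¹ * n * (n : G)⁻¹ := by group
          _ = (n : G) * ((s x : G) * v * (s x : G)⁻¹) * (n : G)⁻¹ := by rw [hc]
          _ = x * v * x⁻¹ := by rw [hn]; group
      have hTN := hmin T hTn (Subgroup.map_subtype_le _) fun h => hw1 (by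
        have : (w : G) ∈ T := Subgroup.mem_map.2 ⟨w, self_mem_orbitSpan w, rfl⟩
        rw [h, Subgroup.mem_bot] at this
        exact Subtype.ext this)
      have := hρ.card_orbitSpan_le hw
      rw [← hTN]
      exact (Nat.card_congr ((orbitSpan ρ w).equivMapOfInjective _ N.subtype_injective).toEquiv) ▸ this
    · have := hρ.sixteen_le ⊤ (fun _ _ _ => Subgroup.mem_top _) top_ne_bot
      rwa [Subgroup.card_top] at this
  let V := Multiplicative (Fin 2 → F)
  let τ : A5 →* MulAut V :=
    MonoidHom.mk' (fun σ => AddEquiv.toMultiplicative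
      { toFun := fun v => ((g.symm σ : Matrix.SpecialLinearGroup (Fin 2) F) : Matrix (Fin 2) (Fin 2) F).mulVec v
        invFun := fun v => ((g.symm σ⁻¹ : Matrix.SpecialLinearGroup (Fin 2) F) : Matrix (Fin 2) (Fin 2) F).mulVec v
        left_inv := fun v => by
          dsimp only
          rw [Matrix.mulVec_mulVec, ← Matrix.SpecialLinearGroup.coe_mul, ← map_mul, inv_mul_cancel, map_one,
            Matrix.SpecialLinearGroup.coe_one, Matrix.one_mulVec]
        right_inv := fun v => by
          dsimp only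
          rw [Matrix.mulVec_mulVec, ← Matrix.SpecialLinearGroup.coe_mul, ← map_mul, mul_inv_cancel, map_one,
            Matrix.SpecialLinearGroup.coe_one, Matrix.one_mulVec]
        map_add' := fun v w => Matrix.mulVec_add _ v w }) fun σ σ' => by
      refine MulEquiv.ext fun v => ?_
      show Multiplicative.ofAdd (((g.symm (σ * σ') : Matrix.SpecialLinearGroup (Fin 2) F) :
        Matrix (Fin 2) (Fin 2) F).mulVec (Multiplicative.toAdd v)) = Multiplicative.ofAdd
        (((g.symm σ : Matrix.SpecialLinearGroup (Fin 2) F) : Matrix (Fin 2) (Fin 2) F).mulVec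
          (((g.symm σ' : Matrix.SpecialLinearGroup (Fin 2) F) : Matrix (Fin 2) (Fin 2) F).mulVec
            (Multiplicative.toAdd v)))
      rw [map_mul, Matrix.SpecialLinearGroup.coe_mul, Matrix.mulVec_mulVec]
  have hfix : ∀ σ : A5, σ * σ ≠ 1 → ∀ v : V, τ σ v = v → v = 1 := by
    intro σ hσ v hv
    by_contra hv1
    have h := mulVec_fixed (M := g.symm σ) (v := Multiplicative.toAdd v) (fun h => hv1 h)
      (congrArg Multiplicative.toAdd hv)
    rw [← map_mul] at h
    exact hσ ((map_eq_one_iff _ g.symm.injective).1 h)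
  have hodd : ∀ {p : ℕ}, p = 3 ∨ p = 5 → ∀ σ : A5, σ ^ p = 1 → σ ≠ 1 → σ * σ ≠ 1 := by
    intro p hp σ h1 h2 h3
    rw [← pow_two] at h3
    rcases hp with rfl | rfl
    · exact h2 (by rwa [pow_succ, h3, one_mul] at h1)
    · exact h2 (by
        calc σ = σ ^ 5 * ((σ ^ 2) ^ 2)⁻¹ := by group
          _ = 1 := by rw [h1, h3, one_pow, inv_one, one_mul])
  have hτ : Fpf τ :=
    { two := fun v => by
        apply Multiplicative.toAdd.injective
        rw [toAdd_mul, toAdd_one]
        exact funext fun i => CharTwo.add_self_eq_zero _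
      three := fun σ h1 h2 => hfix σ (hodd (Or.inl rfl) σ h1 h2)
      five := fun σ h1 h2 => hfix σ (hodd (Or.inr rfl) σ h1 h2) }
  have hcardV : Nat.card V = 16 := by
    rw [Nat.card_congr Multiplicative.toAdd, Nat.card_fun, hF, Nat.card_fin]; norm_num
  obtain ⟨f, hf⟩ := hρ.exists_equiv hτ hcardN hcardV
  let Φ : G →* Matrix.SpecialLinearGroup (Fin 3) F :=
    MonoidHom.mk' (fun x => affine (g.symm (E (s x))) (Multiplicative.toAdd (f ⟨x * (s x : G)⁻¹, hs x⟩)))
      fun x y => by
        rw [affine_mul]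
        congr 1
        · rw [map_mul s, map_mul E, map_mul g.symm]
        have hy : (⟨x * y * ((s (x * y) : H) : G)⁻¹, hs (x * y)⟩ : N) =
            ⟨x * (s x : G)⁻¹, hs x⟩ * ρ (E (s x)) ⟨y * (s y : G)⁻¹, hs y⟩ := by
          apply Subtype.ext
          show x * y * ((s (x * y) : H) : G)⁻¹ = x * (s x : G)⁻¹ *
            (((E.symm (E (s x)) : H) : G) * (y * (s y : G)⁻¹) * ((E.symm (E (s x)) : H) : G)⁻¹)
          rw [MulEquiv.symm_apply_apply, map_mul s, Subgroup.coe_mul]
          group
        refine (congrArg (fun z => Multiplicative.toAdd (f z)) hy).trans ?_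
        rw [map_mul, toAdd_mul, hf]
        rfl
  have hinj : Function.Injective Φ := by
    rw [← MonoidHom.ker_eq_bot_iff, eq_bot_iff]
    intro x hx
    have h1 : affine (g.symm (E (s x))) (Multiplicative.toAdd (f ⟨x * (s x : G)⁻¹, hs x⟩)) = affine 1 0 := by
      refine (MonoidHom.mem_ker.1 hx).trans ?_
      apply Subtype.ext
      ext i j
      fin_cases i <;> fin_cases j <;> simp [affine]
    obtain ⟨h2, h3⟩ := affine_injective h1
    have h4 : s x = 1 := by
      rwa [map_eq_one_iff _ g.symm.injective, map_eq_one_iff _ E.injective] at h2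
    have h5 : f ⟨x * (s x : G)⁻¹, hs x⟩ = 1 := Multiplicative.toAdd.injective h3
    have h6 := congrArg Subtype.val ((map_eq_one_iff f f.injective).1 h5)
    simp [h4] at h6
    exact Subgroup.mem_bot.2 h6
  have hrange : Subgroup.closure (affineSet F) = Φ.range := by
    refine le_antisymm ((Subgroup.closure_le _).2 ?_) ?_
    · intro M hM
      obtain ⟨A, v, rfl⟩ := (mem_affineSet_iff M).1 hM
      set h := E.symm (g A)
      set n := f.symm (Multiplicative.ofAdd v)
      have hsx : s ((n : G) * h) = h := by rw [map_mul, hsN _ n.2, one_mul, hsH]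
      refine ⟨(n : G) * h, ?_⟩
      show affine (g.symm (E (s ((n : G) * h))))
        (Multiplicative.toAdd (f ⟨(n : G) * h * (s ((n : G) * h) : G)⁻¹, hs _⟩)) = affine A v
      congr 1
      · rw [hsx]; simp [h]
      · have : (⟨(n : G) * h * (s ((n : G) * h) : G)⁻¹, hs _⟩ : N) = n :=
          Subtype.ext (by
            show (n : G) * h * (s ((n : G) * h) : G)⁻¹ = n
            rw [hsx]; simp)
        rw [this]
        simp [n]
    · rintro _ ⟨x, rfl⟩
      exact Subgroup.subset_closure ((mem_affineSet_iff _).2 ⟨_, _, rfl⟩)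
  exact ⟨F, inferInstance, inferInstance, by rw [← Nat.card_eq_fintype_card, hF],
    ⟨(MonoidHom.ofInjective hinj).trans (MulEquiv.subgroupCongr hrange.symm)⟩⟩

end Cfsg.Agent.SmallSpec
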