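import Cfsg.Agent.Lib.SmallSpec.Basic
import Mathlib.Algebra.BigOperators.Group.Finset.Basic
import Mathlib.GroupTheory.PGroup

/-!
A normal `2`-subgroup with an inverted odd element is elementary abelian.
-/

set_option autoImplicit false
set_option linter.unusedSectionVars false
set_option linter.style.haveILetI false

namespace Cfsg.Agent.SmallSpec

universe u v

variable {G : Type u} [Group G] [Finite G]

/-- Translates of a fixed-point-free element multiply to one under a homomorphism to an abelian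
group. -/
theorem prod_orbit {A : Type v} [CommGroup A] {D : Subgroup G} [D.Normal] (ψ : D →* A) {s : G}
    {q : ℕ} (hsq : s ^ q = 1) (hfix : ∀ b ∈ D, Commute s b → b = 1) (y : D) :
    ∏ k ∈ Finset.range q,
      ψ ⟨s ^ k * y * (s ^ k)⁻¹, Subgroup.Normal.conj_mem inferInstance _ y.2 _⟩ = 1 := by
  obtain ⟨b, hb, hby⟩ := exists_conj_div (D := D) (r := s)
    (fun x hx => Subgroup.Normal.conj_mem inferInstance x hx s) hfix y y.2
  let c : ℕ → D := fun k => ⟨s ^ k * b * (s ^ k)⁻¹, Subgroup.Normal.conj_mem inferInstance _ hb _⟩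
  have h : ∀ k ∈ Finset.range q,
      ψ ⟨s ^ k * y * (s ^ k)⁻¹, Subgroup.Normal.conj_mem inferInstance _ y.2 _⟩ =
        ψ (c (k + 1)) / ψ (c k) := by
    intro k _
    rw [← map_div]
    refine congrArg ψ (Subtype.ext ?_)
    show s ^ k * y * (s ^ k)⁻¹ = s ^ (k + 1) * b * (s ^ (k + 1))⁻¹ / (s ^ k * b * (s ^ k)⁻¹)
    rw [div_eq_mul_inv, ← hby, pow_succ]
    group
  rw [Finset.prod_congr rfl h, Finset.prod_range_div (fun k => ψ (c k))]
  have : c q = c 0 := Subtype.ext (by simp [c, hsq])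
  rw [this, div_self']

/-- Odd elements centralize nothing nontrivial in a `2`-group. -/
theorem Small.fix_eq_one (hS : Small G) {D : Subgroup G} (hD : IsPGroup 2 D) {s : G}
    (hs : orderOf s = 3 ∨ orderOf s = 5) : ∀ b ∈ D, Commute s b → b = 1 := fun b hb hc => by
  obtain ⟨j, hj⟩ := hD ⟨b, hb⟩
  exact hS.commute_pow_two hs (congrArg Subtype.val hj) hc

theorem exp_two_aux : ∀ (n : ℕ) (G : Type u) [Group G] [Finite G], Small G →
    ∀ (D : Subgroup G) [D.Normal], IsPGroup 2 D → Nat.card D = n →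
    ∀ t r : G, (orderOf r = 3 ∨ orderOf r = 5) → orderOf t = 2 → t * r * t⁻¹ = r⁻¹ →
    ∀ d ∈ D, d * d = 1 := by
  intro n
  induction n using Nat.strong_induction_on with
  | _ n ih =>
  intro G _ _ hS D hDn hD hn t r hr ht hinv d hd
  by_cases hD1 : D = ⊥
  · rw [hD1, Subgroup.mem_bot] at hd
    rw [hd, one_mul]
  haveI : Nontrivial D := (Subgroup.nontrivial_iff_ne_bot D).2 hD1
  haveI : Nontrivial (Subgroup.center D) := hD.center_nontrivial
  set Z : Subgroup G := (Subgroup.center D).map D.subtype with hZ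
  haveI : Z.Normal := ConjAct.normal_of_characteristic_of_normal
  have hZD : Z ≤ D := Subgroup.map_subtype_le _
  have hZ1 : Z ≠ ⊥ := by
    rw [hZ, Ne, Subgroup.map_eq_bot_iff_of_injective _ D.subtype_injective]
    exact (Subgroup.nontrivial_iff_ne_bot _).1 inferInstance
  -- squares are central
  have hsq : ∀ a ∈ D, a * a ∈ Z := by
    intro a ha
    set π := QuotientGroup.mk' Z
    haveI : (D.map π).Normal := Subgroup.Normal.map inferInstance π (QuotientGroup.mk'_surjective Z)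
    have hlt : Nat.card (D.map π) < n := by
      have h1 := Subgroup.card_mul_index (Z.subgroupOf D)
      rw [Nat.card_congr (Subgroup.subgroupOfEquivOfLe hZD).toEquiv, hn] at h1
      have h2 : Nat.card (D.map π) = (Z.subgroupOf D).index := by
        rw [← Subgroup.relIndex, ← Subgroup.relIndex_ker, QuotientGroup.ker_mk']
      have h3 : 1 < Nat.card Z := (Subgroup.one_lt_card_iff_ne_bot Z).2 hZ1
      have h4 : 0 < (Z.subgroupOf D).index := Nat.pos_of_ne_zero Subgroup.FiniteIndex.index_ne_zero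
      rw [h2, ← h1]
      exact lt_mul_left h4 h3
    have htZ : t ∉ Z := fun h => by
      have hc : Commute r (t * r * t⁻¹ * r⁻¹) := by rw [hinv]; exact ((Commute.refl r).inv_right).mul_right (Commute.refl r).inv_right
      have hm : t * r * t⁻¹ * r⁻¹ ∈ D := by
        have := mul_mem (hZD h) (Subgroup.Normal.conj_mem hDn _ (inv_mem (hZD h)) r)
        simpa [mul_assoc] using this
      have h1 := hS.fix_eq_one hD hr _ hm hc
      rw [hinv, ← pow_two, ← orderOf_dvd_iff_pow_eq_one, orderOf_inv] at h1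
      rcases hr with hr | hr <;> rw [hr] at h1 <;> norm_num at h1
    have hto : orderOf (π t) = 2 := orderOf_eq_prime
      (by rw [← map_pow, ← ht, pow_orderOf_eq_one, map_one])
      (fun e => htZ ((QuotientGroup.eq_one_iff t).1 e))
    have hro : orderOf (π r) = orderOf r := by
      have hd' := orderOf_map_dvd π r
      have hne : orderOf (π r) ≠ 1 := fun e => by
        have hrZ := hZD ((QuotientGroup.eq_one_iff r).1 (orderOf_eq_one_iff.1 e))
        have := hS.fix_eq_one hD hr r hrZ (Commute.refl r)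
        rw [this, orderOf_one] at hr
        omega
      rcases hr with hr | hr <;> rw [hr] at hd' ⊢ <;>
        rcases (Nat.dvd_prime (by norm_num)).1 hd' with h | h <;> omega
    have hinv' : π t * π r * (π t)⁻¹ = (π r)⁻¹ := by
      rw [← map_inv, ← map_inv, ← map_mul, ← map_mul, hinv]
    have h := ih _ hlt (G ⧸ Z) (hS.quotient Z) (D.map π) (hD.map π) rfl (π t) (π r) (hro ▸ hr) hto
      hinv' (π a) ⟨a, ha, rfl⟩
    rw [← map_mul] at h
    exact (QuotientGroup.eq_one_iff _).1 h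
  -- central subgroup as a commutative group
  have hcent : ∀ z ∈ Z, ∀ a ∈ D, z * a = a * z := by
    rintro _ ⟨z, hz, rfl⟩ a ha
    exact (congrArg Subtype.val (Subgroup.mem_center_iff.1 hz ⟨a, ha⟩)).symm
  have hcomm : ∀ a ∈ D, ∀ b ∈ D, a * b * a⁻¹ * b⁻¹ ∈ Z := by
    intro a ha b hb
    have := mul_mem (mul_mem (hsq a ha) (hsq _ (mul_mem (inv_mem ha) hb))) (hsq _ (inv_mem hb))
    convert this using 1
    group
  letI : CommGroup Z :=
    { (inferInstance : Group Z) with mul_comm := fun a b => Subtype.ext (hcent a a.2 b (hZD b.2)) }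
  set s := r * r with hs
  have hs' : orderOf s = orderOf r := by
    rw [hs, ← pow_two, orderOf_pow' r two_ne_zero]
    rcases hr with h | h <;> rw [h] <;> norm_num
  have hfix := hS.fix_eq_one hD (s := s) (hs' ▸ hr)
  set q := orderOf r with hq
  have hsq1 : s ^ q = 1 := by rw [← hs', pow_orderOf_eq_one]
  let ψ : D →* Z := MonoidHom.mk' (fun e => ⟨(e : G) * d * (e : G)⁻¹ * d⁻¹, hcomm e e.2 d hd⟩)
    (fun a b => Subtype.ext (by
      show (a : G) * b * d * ((a : G) * b)⁻¹ * d⁻¹ =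
        (a : G) * d * (a : G)⁻¹ * d⁻¹ * ((b : G) * d * (b : G)⁻¹ * d⁻¹)
      rw [← hcent _ (hcomm b b.2 d hd) _
        (mul_mem (mul_mem (mul_mem a.2 hd) (inv_mem a.2)) (inv_mem hd))]
      have hc := hcent _ (hcomm b b.2 d hd) a a.2
      calc (a : G) * b * d * ((a : G) * b)⁻¹ * d⁻¹
          = (a * ((b : G) * d * (b : G)⁻¹ * d⁻¹)) * d * (a : G)⁻¹ * d⁻¹ := by group
        _ = _ := by rw [← hc]; group))
  set y : G := t * d * t⁻¹ with hy
  have hyD : y ∈ D := Subgroup.Normal.conj_mem hDn d hd t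
  let e : ℕ → D := fun k => ⟨s ^ k * y * (s ^ k)⁻¹, Subgroup.Normal.conj_mem hDn _ hyD _⟩
  have h1 : ∏ k ∈ Finset.range q, ψ (e k) = 1 := prod_orbit ψ hsq1 hfix ⟨y, hyD⟩
  have h2 : ∏ k ∈ Finset.range q, (⟨(e k : G) * (e k : G), hsq _ (e k).2⟩ : Z) = 1 := by
    have hy2 := hsq y hyD
    have h := prod_orbit (MonoidHom.id Z) hsq1
      (fun b hb hc => hfix b (hZD hb) hc) ⟨y * y, hy2⟩
    rw [← h]
    refine Finset.prod_congr rfl fun k _ => Subtype.ext ?_
    show s ^ k * y * (s ^ k)⁻¹ * (s ^ k * y * (s ^ k)⁻¹) = s ^ k * (y * y) * (s ^ k)⁻¹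
    group
  obtain ⟨j, hj⟩ := hD ⟨d, hd⟩
  have hd4 : d ^ 4 = 1 := hS.pow_four (congrArg Subtype.val hj)
  have key : ∀ k, ψ (e k) * ⟨(e k : G) * (e k : G), hsq _ (e k).2⟩ = ⟨d * d, hsq d hd⟩ := by
    intro k
    set u := s ^ k * t with hu
    have huu : u * u = 1 := by
      have hts : t * s ^ k = (s ^ k)⁻¹ * t := by
        have : t * s * t⁻¹ = s⁻¹ := by
          rw [hs, show t * (r * r) * t⁻¹ = (t * r * t⁻¹) * (t * r * t⁻¹) by group, hinv]; group
        calc t * s ^ k = (t * s * t⁻¹) ^ k * t := by rw [conj_pow]; group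
          _ = (s ^ k)⁻¹ * t := by rw [this, inv_pow]
      calc u * u = s ^ k * (t * s ^ k) * t := by rw [hu]; group
        _ = s ^ k * (s ^ k)⁻¹ * (t * t) := by rw [hts]; group
        _ = 1 := by rw [mul_inv_cancel, one_mul, ← pow_two, ← ht, pow_orderOf_eq_one]
    have hek : (e k : G) = u * d * u := by
      have hu' : u = u⁻¹ := eq_inv_of_mul_eq_one_left huu
      show s ^ k * y * (s ^ k)⁻¹ = _
      conv_rhs => arg 2; rw [hu']
      rw [hu, hy]; group
    set E := (e k : G) with hE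
    have hdu : (d * u) * (d * u) = d * E := by rw [hek]; group
    obtain ⟨i, hi⟩ := hD ⟨d * E, mul_mem hd (e k).2⟩
    have h4 : (d * u) ^ 4 = 1 := hS.pow_four (j := i + 1) (by
      rw [pow_succ', pow_mul, pow_two, hdu]; exact congrArg Subtype.val hi)
    rw [show (d * u) ^ 4 = (d * u) * (d * u) * ((d * u) * (d * u)) by simp only [pow_succ, pow_zero, one_mul, mul_assoc], hdu] at h4
    apply Subtype.ext
    show E * d * E⁻¹ * d⁻¹ * (E * E) = d * d
    have hz := hcomm E (e k).2 d hd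
    have hde : d * E * (d * E) = (E * d * E⁻¹ * d⁻¹) * (d * d) * (E * E) := by
      calc d * E * (d * E) = d * ((E * d * E⁻¹ * d⁻¹) * d * E) * E := by group
        _ = (d * (E * d * E⁻¹ * d⁻¹)) * d * (E * E) := by group
        _ = _ := by rw [← hcent _ hz d hd]; group
    rw [hde] at h4
    have hd2 : (d * d)⁻¹ = d * d := inv_eq_of_mul_eq_one_right (by
      rw [← hd4]; simp only [pow_succ, pow_zero, one_mul, mul_assoc])
    rw [← hd2]
    refine eq_inv_of_mul_eq_one_left ?_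
    rw [← h4, ← hcent _ (hsq d hd) _ (mul_mem (hZD hz) (mul_mem (e k).2 (e k).2))]
    have hz2 := hcent _ (hsq d hd) _ (hZD hz)
    calc d * d * (E * d * E⁻¹ * d⁻¹ * (E * E))
        = (d * d * (E * d * E⁻¹ * d⁻¹)) * (E * E) := by group
      _ = _ := by rw [hz2]
  have h3 : (⟨d * d, hsq d hd⟩ : Z) ^ q = 1 := by
    have h := Finset.prod_congr (s₁ := Finset.range q) rfl (fun k _ => key k)
    rw [Finset.prod_mul_distrib, h1, h2, Finset.prod_const, Finset.card_range, one_mul] at h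
    exact h.symm
  have h3' : (d * d) ^ q = 1 := congrArg Subtype.val h3
  have h4' : (d * d) ^ 2 = 1 := by rw [← hd4]; simp only [pow_succ, pow_zero, one_mul, mul_assoc]
  have hg := pow_gcd_eq_one.2 ⟨h3', h4'⟩
  rcases hr with h | h <;> rw [h] at hg <;> simpa using hg

/-- A `2`-subgroup normalized by an inverted odd element is elementary abelian. -/
theorem Small.exp_two (hS : Small G) (D : Subgroup G) [D.Normal] (hD : IsPGroup 2 D) {t r : G}
    (hr : orderOf r = 3 ∨ orderOf r = 5) (ht : orderOf t = 2) (hinv : t * r * t⁻¹ = r⁻¹) :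
    ∀ d ∈ D, d * d = 1 :=
  exp_two_aux _ G hS D hD rfl t r hr ht hinv

theorem commute_of_exp_two {D : Subgroup G} (h : ∀ d ∈ D, d * d = 1) {a b : G} (ha : a ∈ D)
    (hb : b ∈ D) : a * b = b * a := by
  have h1 : ∀ x ∈ D, x⁻¹ = x := fun x hx => inv_eq_of_mul_eq_one_right (h x hx)
  calc a * b = (a * b)⁻¹ := (h1 _ (mul_mem ha hb)).symm
    _ = b * a := by rw [mul_inv_rev, h1 a ha, h1 b hb]

/-- An involution inverting an odd element centralizes exactly half the rank. -/
theorem Small.card_fixed (hS : Small G) (D : Subgroup G) [D.Normal] (hD : IsPGroup 2 D) {t r : G}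
    (hr : orderOf r = 3 ∨ orderOf r = 5) (ht : orderOf t = 2) (hinv : t * r * t⁻¹ = r⁻¹) :
    Nat.card (D ⊓ Subgroup.centralizer ({t} : Set G) : Subgroup G) *
      Nat.card (D ⊓ Subgroup.centralizer ({t} : Set G) : Subgroup G) = Nat.card D := by
  set C := D ⊓ Subgroup.centralizer ({t} : Set G)
  have h2 := hS.exp_two D hD hr ht hinv
  have htt : t * t = 1 := by rw [← pow_two, ← ht, pow_orderOf_eq_one]
  have hti : t⁻¹ = t := inv_eq_of_mul_eq_one_right htt
  letI : CommGroup D :=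
    { (inferInstance : Group D) with
      mul_comm := fun a b => Subtype.ext (commute_of_exp_two h2 a.2 b.2) }
  let φ : D →* D := MonoidHom.mk'
    (fun d => d * ⟨t * d * t⁻¹, Subgroup.Normal.conj_mem inferInstance _ d.2 t⟩) fun a b => by
      rw [mul_mul_mul_comm]
      congr 1
      exact Subtype.ext (by show t * (a * b) * t⁻¹ = t * a * t⁻¹ * (t * b * t⁻¹); group)
  have hker : φ.ker = C.subgroupOf D := by
    ext ⟨d, hd⟩
    rw [MonoidHom.mem_ker, Subgroup.mem_subgroupOf, ← Subtype.coe_inj]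
    show d * (t * d * t⁻¹) = 1 ↔ _
    rw [Subgroup.mem_inf, Subgroup.mem_centralizer_singleton_iff, mul_eq_one_iff_inv_eq,
      inv_eq_of_mul_eq_one_right (h2 d hd), eq_mul_inv_iff_mul_eq]
    exact ⟨fun h => ⟨hd, h⟩, fun h => h.2⟩
  have hrange : φ.range ≤ C.subgroupOf D := by
    rintro _ ⟨⟨d, hd⟩, rfl⟩
    rw [← hker, MonoidHom.mem_ker, ← Subtype.coe_inj]
    show d * (t * d * t⁻¹) * (t * (d * (t * d * t⁻¹)) * t⁻¹) = 1
    calc d * (t * d * t⁻¹) * (t * (d * (t * d * t⁻¹)) * t⁻¹)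
        = d * (t * (d * d) * (t * d * t⁻¹ * t⁻¹)) := by group
      _ = d * (t * t * d * (t * t)⁻¹) := by rw [h2 d hd]; group
      _ = 1 := by rw [htt]; simpa using h2 d hd
  have hCD : Nat.card (C.subgroupOf D) = Nat.card C :=
    Nat.card_congr (Subgroup.subgroupOfEquivOfLe inf_le_left).toEquiv
  have hle : Nat.card D ≤ Nat.card C * Nat.card C := by
    rw [← Subgroup.card_mul_index φ.ker, Subgroup.index_ker, hker, hCD]
    exact Nat.mul_le_mul_left _ (hCD ▸ Subgroup.card_le_of_le hrange)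
  refine le_antisymm ?_ hle
  rw [← Nat.card_prod]
  refine Nat.card_le_card_of_injective (fun p : C × C => (⟨p.1 * (r * p.2 * r⁻¹),
    mul_mem p.1.2.1 (Subgroup.Normal.conj_mem inferInstance _ p.2.2.1 r)⟩ : D)) ?_
  rintro ⟨a, b⟩ ⟨a', b'⟩ h
  have h' : (a : G) * (r * b * r⁻¹) = a' * (r * b' * r⁻¹) := congrArg Subtype.val h
  set x : G := (a' : G)⁻¹ * a with hx
  set z : G := (b' : G) * (b : G)⁻¹ with hz
  have hxC : x ∈ C := mul_mem (inv_mem a'.2) a.2
  have hzC : z ∈ C := mul_mem b'.2 (inv_mem b.2)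
  have hxz : x = r * z * r⁻¹ := by
    calc x = (a' : G)⁻¹ * ((a : G) * (r * b * r⁻¹)) * (r * b * r⁻¹)⁻¹ := by rw [hx]; group
      _ = _ := by rw [h', hz]; group
  have hx' : Commute x t := Subgroup.mem_centralizer_singleton_iff.1 hxC.2
  have hz' : Commute z t := Subgroup.mem_centralizer_singleton_iff.1 hzC.2
  have hc : Commute (r * r) z := by
    have e1 : t * r = r⁻¹ * t := mul_inv_eq_iff_eq_mul.1 hinv
    have e2 : r⁻¹ * z * r = x := by
      calc r⁻¹ * z * r = r⁻¹ * (t * z * t⁻¹) * r := by rw [← hz'.eq]; group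
        _ = (r⁻¹ * t) * z * (r⁻¹ * t)⁻¹ := by group
        _ = (t * r) * z * (t * r)⁻¹ := by rw [e1]
        _ = t * (r * z * r⁻¹) * t⁻¹ := by group
        _ = x := by rw [← hxz, ← hx'.eq]; group
    show r * r * z = z * (r * r)
    calc r * r * z = r * (r * z * r⁻¹) * r := by group
      _ = r * (r⁻¹ * z * r) * r := by rw [e2, ← hxz]
      _ = z * (r * r) := by group
  have hrr : orderOf (r * r) = 3 ∨ orderOf (r * r) = 5 := by
    rw [← pow_two, orderOf_pow' r two_ne_zero]
    rcases hr with h | h <;> rw [h] <;> norm_num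
  have hz1 : z = 1 := hS.fix_eq_one hD hrr z hzC.1 hc
  have hx1 : x = 1 := by rw [hxz, hz1]; group
  exact Prod.ext (Subtype.ext (inv_mul_eq_one.1 hx1).symm)
    (Subtype.ext (mul_inv_eq_one.1 hz1).symm)

/-- No element squares an element of order five on a nontrivial `2`-group. -/
theorem Small.not_square (hS : Small G) (D : Subgroup G) [D.Normal] (hD : IsPGroup 2 D)
    (h2 : ∀ d ∈ D, d * d = 1) (hD1 : D ≠ ⊥) {r y : G} (hr : orderOf r = 5)
    (hy : y * r * y⁻¹ = r ^ 2) : False := by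
  have hr5 : r ^ 5 = 1 := hr ▸ pow_orderOf_eq_one r
  have hpow : ∀ i : ℕ, y ^ i * r * (y ^ i)⁻¹ = r ^ (2 ^ i) := by
    intro i
    induction i with
    | zero => simp
    | succ i ihi =>
      calc y ^ (i + 1) * r * (y ^ (i + 1))⁻¹ = y * (y ^ i * r * (y ^ i)⁻¹) * y⁻¹ := by group
        _ = (y * r * y⁻¹) ^ (2 ^ i) := by rw [ihi, conj_pow]
        _ = _ := by rw [hy, ← pow_mul, pow_succ']
  have hy4 : y ^ 4 = 1 := by
    have key : ∀ i, y ^ i = 1 → r ^ (2 ^ i) = r := fun i hi => by rw [← hpow i, hi]; group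
    have hne : ∀ i, (2 ^ i) % 5 ≠ 1 → y ^ i ≠ 1 := fun i hi h => by
      have := key i h
      rw [← pow_mod_orderOf, hr] at this
      have hh : r ^ ((2 ^ i) % 5) = r ^ 1 := by rw [this, pow_one]
      exact hi (pow_injOn_Iio_orderOf (by rw [hr]; exact Nat.mod_lt _ (by norm_num))
        (by rw [hr]; norm_num) hh)
    rcases hS.cases y with h | h | h | h | h
    · exact absurd (orderOf_eq_one_iff.1 h) (by simpa using hne 1 (by norm_num))
    · exact absurd (h ▸ pow_orderOf_eq_one y) (hne 2 (by norm_num))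
    · exact absurd (h ▸ pow_orderOf_eq_one y) (hne 3 (by norm_num))
    · exact h ▸ pow_orderOf_eq_one y
    · exact absurd (h ▸ pow_orderOf_eq_one y) (hne 5 (by norm_num))
  obtain ⟨⟨d, hd⟩, hd1⟩ := @exists_ne D ((Subgroup.nontrivial_iff_ne_bot D).2 hD1) 1
  letI : CommGroup D :=
    { (inferInstance : Group D) with
      mul_comm := fun a b => Subtype.ext (commute_of_exp_two h2 a.2 b.2) }
  have hcm : ∀ (g : G), g * d * g⁻¹ ∈ D := fun g => Subgroup.Normal.conj_mem inferInstance d hd g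
  let w : ℕ → ℕ → D := fun i k =>
    ⟨(r ^ k * y * (r ^ k)⁻¹) ^ i * d * ((r ^ k * y * (r ^ k)⁻¹) ^ i)⁻¹, hcm _⟩
  have hk : ∀ k, (⟨d, hd⟩ : D) * w 1 k * w 2 k * w 3 k = 1 := by
    intro k
    set u := r ^ k * y * (r ^ k)⁻¹ with hu
    have hu4 : u ^ 4 = 1 := by rw [hu, conj_pow, hy4]; group
    have hprod : (d * u) ^ 4 =
        d * (u ^ 1 * d * (u ^ 1)⁻¹) * (u ^ 2 * d * (u ^ 2)⁻¹) * (u ^ 3 * d * (u ^ 3)⁻¹) * u ^ 4 := by
      simp only [pow_succ, pow_zero, one_mul, mul_inv_rev]; group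
    have hmem : (d * u) ^ 4 ∈ D := by
      rw [hprod, hu4, mul_one]
      exact mul_mem (mul_mem (mul_mem hd (hcm _)) (hcm _)) (hcm _)
    obtain ⟨i, hi⟩ := hD ⟨_, hmem⟩
    have h4 := hS.pow_four (x := d * u) (j := i + 2) (by
      rw [pow_add, mul_comm, pow_mul]; exact congrArg Subtype.val hi)
    rw [hprod, hu4, mul_one] at h4
    exact Subtype.ext h4
  have horb : ∀ i ∈ ({1, 2, 3} : Finset ℕ), ∏ k ∈ Finset.range 5, w i k = 1 := by
    intro i hi
    -- conjugates of `y ^ i * d * (y ^ i)⁻¹` by powers of a power of `r`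
    obtain ⟨m, hm, hm'⟩ : ∃ m, r ^ m * r ^ (2 ^ i) = r ∧ orderOf (r ^ m) = 5 := by
      simp only [Finset.mem_insert, Finset.mem_singleton] at hi
      have hord : ∀ m, Nat.Coprime 5 m → orderOf (r ^ m) = 5 := fun m hm => by
        rw [Nat.Coprime.orderOf_pow (hr.symm ▸ hm), hr]
      rcases hi with rfl | rfl | rfl
      · exact ⟨4, by rw [← pow_add, ← pow_mod_orderOf, hr]; norm_num, hord _ (by norm_num)⟩
      · exact ⟨2, by rw [← pow_add, ← pow_mod_orderOf, hr]; norm_num, hord _ (by norm_num)⟩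
      · exact ⟨3, by rw [← pow_add, ← pow_mod_orderOf, hr]; norm_num, hord _ (by norm_num)⟩
    have h := prod_orbit (MonoidHom.id D) (s := r ^ m) (q := 5)
      (by rw [← hm', pow_orderOf_eq_one]) (hS.fix_eq_one hD (Or.inr hm')) ⟨_, hcm (y ^ i)⟩
    rw [← h]
    refine Finset.prod_congr rfl fun k _ => Subtype.ext ?_
    show (r ^ k * y * (r ^ k)⁻¹) ^ i * d * ((r ^ k * y * (r ^ k)⁻¹) ^ i)⁻¹ =
      (r ^ m) ^ k * (y ^ i * d * (y ^ i)⁻¹) * ((r ^ m) ^ k)⁻¹
    have e : r ^ k * y ^ i * (r ^ k)⁻¹ = (r ^ m) ^ k * y ^ i := by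
      have e1 : y ^ i * (r ^ k)⁻¹ = ((r ^ (2 ^ i)) ^ k)⁻¹ * y ^ i := by
        rw [← hpow i, conj_pow]; group
      have e2 : r ^ k * ((r ^ (2 ^ i)) ^ k)⁻¹ = (r ^ m) ^ k := by
        rw [mul_inv_eq_iff_eq_mul, ← ((Commute.refl r).pow_pow m (2 ^ i)).mul_pow, hm]
      rw [mul_assoc, e1, ← mul_assoc, e2]
    rw [conj_pow, e]
    group
  have h5 : (⟨d, hd⟩ : D) ^ 5 = 1 := by
    have h := Finset.prod_congr (s₁ := Finset.range 5) rfl (fun k _ => hk k)
    rw [Finset.prod_mul_distrib, Finset.prod_mul_distrib, Finset.prod_mul_distrib, horb 1 (by simp),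
      horb 2 (by simp), horb 3 (by simp), Finset.prod_const, Finset.card_range,
      Finset.prod_const_one] at h
    simpa using h
  apply hd1
  have h22 : (⟨d, hd⟩ : D) ^ 2 = 1 := by rw [pow_two]; exact Subtype.ext (h2 d hd)
  simpa using pow_gcd_eq_one.2 ⟨h5, h22⟩

end Cfsg.Agent.SmallSpec
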