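import Cfsg.Agent.Lib.SmallSpec.Generic
import Cfsg.Agent.S0992

/-!
The Sylow structure of a core of order sixteen with quotient of order sixty.
-/

set_option autoImplicit false
set_option linter.unusedSectionVars false
set_option linter.style.haveILetI false

namespace Cfsg.Agent.SmallSpec

universe u

variable {G : Type u} [Group G] [Finite G] {D T : Subgroup G} {r : G}

/-- A Sylow `2`-subgroup of the normalizer of `D` with an element of order three normalizing it. -/
structure Frame (D T : Subgroup G) (r : G) : Prop where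
  le : D ≤ T
  le_normalizer : T ≤ Subgroup.normalizer (D : Set G)
  card : Nat.card T = 64
  mem : r ∈ Subgroup.normalizer (D : Set G)
  order : orderOf r = 3
  stable : ∀ t ∈ T, r * t * r⁻¹ ∈ T
  sq : ∀ t ∈ T, t * t ∈ D
  maxed : ∀ X : Subgroup G, IsPGroup 2 X → X ≤ Subgroup.normalizer (D : Set G) →
    ∃ n ∈ Subgroup.normalizer (D : Set G), ∀ x ∈ X, n * x * n⁻¹ ∈ T
  five : ∃ q ∈ Subgroup.normalizer (D : Set G), orderOf q = 5

/-- The frame exists. -/
theorem Small.exists_frame (hS : Small G) (hD : CoreData D) (h16 : Nat.card D = 16)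
    (h60 : D.relIndex (Subgroup.normalizer (D : Set G)) = 60) :
    ∃ (T : Subgroup G) (r : G), Frame D T r := by
  classical
  haveI : Fact (Nat.Prime 2) := ⟨Nat.prime_two⟩
  haveI : Fact (Nat.Prime 3) := ⟨Nat.prime_three⟩
  set N := Subgroup.normalizer (D : Set G) with hN
  obtain ⟨-, hn, hsimp, hnc⟩ := (hD.cases.resolve_left (by rw [h60]; norm_num)).resolve_left
    (by rw [h60]; norm_num)
  haveI : (D.subgroupOf N).Normal := hn
  haveI := hsimp
  have hQ : Nat.card (N ⧸ D.subgroupOf N) = 60 := h60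
  have hDle : D ≤ N := Subgroup.le_normalizer
  have hNc : Nat.card N = 2 ^ 6 * 15 := by
    rw [← Subgroup.card_mul_index (D.subgroupOf N),
      Nat.card_congr (Subgroup.subgroupOfEquivOfLe hDle).toEquiv, h16, Subgroup.index, hQ]
    norm_num
  obtain ⟨T₀⟩ : Nonempty (Sylow 2 N) := inferInstance
  have hT₀ : Nat.card (T₀ : Subgroup N) = 2 ^ 6 :=
    Cfsg.Agent.Small.sylow_card hNc (by norm_num) T₀
  have hDT₀ : D.subgroupOf N ≤ (T₀ : Subgroup N) :=
    le_sylow_of_normal hn (hD.two.comap_subtype : IsPGroup 2 (D.subgroupOf N)) T₀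
  set π := QuotientGroup.mk' (D.subgroupOf N) with hπ
  set Tq := T₀.mapSurjective (QuotientGroup.mk'_surjective (D.subgroupOf N)) with hTq
  obtain ⟨hK, hrel⟩ := S0992.result hnc (by rw [hQ]; decide) (by rw [hQ]; norm_num) Tq
  obtain ⟨x, hx⟩ := exists_prime_orderOf_dvd_card' (p := 3)
    (G := Subgroup.normalizer ((Tq : Subgroup (N ⧸ D.subgroupOf N)) : Set (N ⧸ D.subgroupOf N)))
    (hrel ▸ (Subgroup.relIndex_dvd_card _ _))
  obtain ⟨r₀, hr₀⟩ := QuotientGroup.mk'_surjective (D.subgroupOf N) x.1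
  have hro : orderOf r₀ = 3 :=
    (hS.subgroup N).orderOf_lift π (Or.inl rfl) (by rw [hr₀, Subgroup.orderOf_coe, hx])
  have hback : ∀ y : N, π y ∈ (Tq : Subgroup (N ⧸ D.subgroupOf N)) → y ∈ (T₀ : Subgroup N) := by
    intro y hy
    rw [hTq, Sylow.coe_mapSurjective] at hy
    obtain ⟨z, hz, hzy⟩ := hy
    have := mul_mem hz (hDT₀ (QuotientGroup.eq.1 hzy))
    rwa [mul_inv_cancel_left] at this
  have hfwd : ∀ y : N, y ∈ (T₀ : Subgroup N) → π y ∈ (Tq : Subgroup (N ⧸ D.subgroupOf N)) := by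
    intro y hy
    rw [hTq, Sylow.coe_mapSurjective]
    exact ⟨y, hy, rfl⟩
  refine ⟨(T₀ : Subgroup N).map N.subtype, (r₀ : G),
    fun d hd => ⟨⟨d, hDle hd⟩, hDT₀ hd, rfl⟩, Subgroup.map_subtype_le _, ?_, r₀.2,
    by rw [Subgroup.orderOf_coe, hro], ?_, ?_, ?_, ?_⟩
  · rw [Subgroup.card_map_of_injective N.subtype_injective, hT₀]; norm_num
  · rintro _ ⟨t, ht, rfl⟩
    refine ⟨r₀ * t * r₀⁻¹, hback _ ?_, rfl⟩
    rw [map_mul, map_mul, map_inv, hr₀]
    exact (Subgroup.mem_normalizer_iff.1 x.2 _).1 (hfwd t ht)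
  · rintro _ ⟨t, ht, rfl⟩
    haveI := hK
    have h := IsKleinFour.mul_self (⟨π t, hfwd t ht⟩ : (Tq : Subgroup (N ⧸ D.subgroupOf N)))
    have h' : π t * π t = 1 := congrArg Subtype.val h
    rw [← map_mul, hπ, QuotientGroup.mk'_apply, QuotientGroup.eq_one_iff] at h'
    exact h'
  · intro X hX hXN
    obtain ⟨S, hXS⟩ := (hX.comap_subtype : IsPGroup 2 (X.subgroupOf N)).exists_le_sylow
    obtain ⟨n, hn'⟩ := MulAction.exists_smul_eq N S T₀
    refine ⟨n, n.2, fun x hxX => ⟨n * ⟨x, hXN hxX⟩ * n⁻¹, ?_, rfl⟩⟩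
    rw [← hn', Sylow.coe_subgroup_smul]
    exact Subgroup.smul_mem_pointwise_smul _ (MulAut.conj n) _ (hXS hxX)
  · haveI : Fact (Nat.Prime 5) := ⟨by norm_num⟩
    obtain ⟨q, hq⟩ := exists_prime_orderOf_dvd_card' (p := 5) (G := N) (by rw [hNc]; norm_num)
    exact ⟨q, q.2, by rw [Subgroup.orderOf_coe, hq]⟩

/-- The elements of `D` centralizing `T`. -/
abbrev fixZ (D T : Subgroup G) : Subgroup G := D ⊓ Subgroup.centralizer (T : Set G)

theorem fixZ_comm {z t : G} (hz : z ∈ fixZ D T) (ht : t ∈ T) : t * z = z * t :=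
  Subgroup.mem_centralizer_iff.1 hz.2 t ht

theorem Frame.two (F : Frame D T r) : IsPGroup 2 T := by
  haveI : Fact (Nat.Prime 2) := ⟨Nat.prime_two⟩
  exact IsPGroup.of_card (n := 6) (by rw [F.card]; norm_num)

theorem Frame.fpf (F : Frame D T r) (hS : Small G) {x : G} (hx : x ∈ T) (hc : Commute r x) : x = 1 :=
  hS.commute_pow_two (j := 6) (Or.inl F.order)
    (by
      have h := congrArg Subtype.val (pow_card_eq_one' (x := (⟨x, hx⟩ : T)))
      rw [F.card] at h
      simpa using h) hc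

theorem Frame.conj_mem_D (F : Frame D T r) {d : G} (hd : d ∈ D) : r * d * r⁻¹ ∈ D :=
  (Subgroup.mem_normalizer_iff.1 F.mem d).1 hd

theorem Frame.conj_not_mem (F : Frame D T r) {u : G} (hu : u ∉ D) : r * u * r⁻¹ ∉ D :=
  fun h => hu ((Subgroup.mem_normalizer_iff.1 F.mem u).2 h)

theorem Frame.stable_inv (F : Frame D T r) {t : G} (ht : t ∈ T) : r⁻¹ * t * r ∈ T := by
  have h2 : r⁻¹ = r * r := inv_eq_of_mul_eq_one_right (by
    rw [← pow_orderOf_eq_one r, F.order]
    simp only [pow_succ, pow_zero, one_mul, mul_assoc])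
  have := F.stable _ (F.stable t ht)
  rw [show r⁻¹ * t * r = r⁻¹ * t * (r⁻¹)⁻¹ by group, h2]
  rwa [show r * r * t * (r * r)⁻¹ = r * (r * t * r⁻¹) * r⁻¹ by group]

theorem Frame.conj_fixZ (F : Frame D T r) {z : G} (hz : z ∈ fixZ D T) : r * z * r⁻¹ ∈ fixZ D T := by
  refine ⟨F.conj_mem_D hz.1, Subgroup.mem_centralizer_iff.2 fun t ht => ?_⟩
  have h := fixZ_comm hz (F.stable_inv ht)
  calc t * (r * z * r⁻¹) = r * ((r⁻¹ * t * r) * z) * r⁻¹ := by group
    _ = r * (z * (r⁻¹ * t * r)) * r⁻¹ := by rw [h]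
    _ = _ := by group

theorem Frame.fixed (F : Frame D T r) (hD : CoreData D) (h16 : Nat.card D = 16) {u : G} (hu : u ∈ T)
    (huD : u ∉ D) : Nat.card (D ⊓ Subgroup.centralizer ({u} : Set G) : Subgroup G) = 4 :=
  Nat.mul_self_inj.1 ((hD.fixed u (F.le_normalizer hu) huD (F.sq u hu)).trans (by rw [h16]))

theorem Frame.exists_outside (F : Frame D T r) (h16 : Nat.card D = 16) : ∃ u ∈ T, u ∉ D := by
  by_contra hcon
  push Not at hcon
  have h := Subgroup.card_le_of_le (show T ≤ D from hcon)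
  rw [F.card, h16] at h
  omega

theorem Frame.card_fixZ (F : Frame D T r) (hS : Small G) (hD : CoreData D) (h16 : Nat.card D = 16) :
    Nat.card (fixZ D T) = 4 := by
  classical
  haveI : Fact (Nat.Prime 2) := ⟨Nat.prime_two⟩
  haveI : Nontrivial T := Finite.one_lt_card_iff_nontrivial.1 (by rw [F.card]; norm_num)
  haveI := F.two.center_nontrivial
  obtain ⟨⟨⟨z, hzT⟩, hzc⟩, hz1⟩ := exists_ne (1 : Subgroup.center T)
  have hz1 : z ≠ 1 := fun h => hz1 (Subtype.ext (Subtype.ext h))
  have hzC : z ∈ Subgroup.centralizer (T : Set G) := Subgroup.mem_centralizer_iff.2 fun t ht =>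
    congrArg Subtype.val (Subgroup.mem_center_iff.1 hzc ⟨t, ht⟩)
  have hz : z ∈ fixZ D T := ⟨hD.cent (Subgroup.centralizer_le F.le hzC), hzC⟩
  have hw := F.conj_fixZ hz
  obtain ⟨u, hu, huD⟩ := F.exists_outside h16
  have hle : fixZ D T ≤ D ⊓ Subgroup.centralizer ({u} : Set G) :=
    inf_le_inf_left _ (Subgroup.centralizer_le (Set.singleton_subset_iff.2 hu))
  have hdvd := Subgroup.card_dvd_of_le hle
  rw [F.fixed hD h16 hu huD] at hdvd
  have hne : r * z * r⁻¹ ≠ z := fun h => hz1 (F.fpf hS hzT (mul_inv_eq_iff_eq_mul.1 h))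
  have h3 : 3 ≤ Nat.card (fixZ D T) := by
    have hs : ({1, z, r * z * r⁻¹} : Finset G).card = 3 := by
      rw [Finset.card_insert_of_notMem, Finset.card_insert_of_notMem, Finset.card_singleton] <;>
        simp [Ne.symm hz1, Ne.symm hne, eq_comm (a := (1 : G)), conj_eq_one_iff, hz1]
    rw [← hs, ← Nat.card_eq_finsetCard]
    refine Nat.card_le_card_of_injective (fun y => (⟨y.1, ?_⟩ : fixZ D T)) fun a b h =>
      Subtype.ext (Subtype.mk.inj h)
    have := y.2
    simp only [Finset.mem_insert, Finset.mem_singleton] at this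
    rcases this with h | h | h <;> rw [h]
    exacts [one_mem _, hz, hw]
  have := Nat.le_of_dvd (by norm_num) hdvd
  interval_cases hc : Nat.card (fixZ D T) <;> first | rfl | (norm_num at hdvd)

theorem Frame.fixed_eq (F : Frame D T r) (hS : Small G) (hD : CoreData D) (h16 : Nat.card D = 16)
    {u : G} (hu : u ∈ T) (huD : u ∉ D) : D ⊓ Subgroup.centralizer ({u} : Set G) = fixZ D T := by
  refine (Subgroup.eq_of_le_of_card_ge
    (inf_le_inf_left _ (Subgroup.centralizer_le (Set.singleton_subset_iff.2 hu))) ?_).symm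
  rw [F.fixed hD h16 hu huD, F.card_fixZ hS hD h16]

theorem Frame.mem_fixZ (F : Frame D T r) (hS : Small G) (hD : CoreData D) (h16 : Nat.card D = 16)
    {u d : G} (hu : u ∈ T) (huD : u ∉ D) (hd : d ∈ D) (hc : d * u = u * d) : d ∈ fixZ D T :=
  (F.fixed_eq hS hD h16 hu huD).le ⟨hd, Subgroup.mem_centralizer_singleton_iff.2 hc⟩

theorem Frame.sq_mem (F : Frame D T r) (hS : Small G) (hD : CoreData D) (h16 : Nat.card D = 16)
    {t : G} (ht : t ∈ T) : t * t ∈ fixZ D T := by
  by_cases htD : t ∈ D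
  · rw [hD.exp t htD]; exact one_mem _
  · exact F.mem_fixZ hS hD h16 ht htD (F.sq t ht) (mul_assoc t t t)

theorem Frame.comm_mem (F : Frame D T r) (hS : Small G) (hD : CoreData D) (h16 : Nat.card D = 16)
    {x y : G} (hx : x ∈ T) (hy : y ∈ T) : x * y * x⁻¹ * y⁻¹ ∈ fixZ D T := by
  have := mul_mem (mul_mem (F.sq_mem hS hD h16 hx) (F.sq_mem hS hD h16 (mul_mem (inv_mem hx) hy)))
    (F.sq_mem hS hD h16 (inv_mem hy))
  convert this using 1
  group

/-- Involutions of `T` in one coset of `D` differ by an element of `fixZ D T`. -/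
theorem Frame.invol_coset (F : Frame D T r) (hS : Small G) (hD : CoreData D) (h16 : Nat.card D = 16)
    {u v : G} (hu : u ∈ T) (huD : u ∉ D) (hu2 : u * u = 1) (hv2 : v * v = 1) (h : u⁻¹ * v ∈ D) :
    u⁻¹ * v ∈ fixZ D T := by
  refine F.mem_fixZ hS hD h16 hu huD h ?_
  have h2 := hD.exp _ h
  have hui : u⁻¹ = u := inv_eq_of_mul_eq_one_right hu2
  have hvi : v⁻¹ = v := inv_eq_of_mul_eq_one_right hv2
  calc u⁻¹ * v * u = (u⁻¹ * v)⁻¹ * u := by rw [inv_eq_of_mul_eq_one_right h2]
    _ = v⁻¹ * u * u := by group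
    _ = v := by rw [mul_assoc, hu2, mul_one, hvi]
    _ = u * (u⁻¹ * v) := by group

/-- Three involutions representing the cosets of `D` in `T`, permuted by `r`. -/
structure Reps (D T : Subgroup G) (r a b c : G) : Prop where
  ha : a ∈ T ∧ a ∉ D ∧ a * a = 1
  hb : b ∈ T ∧ b ∉ D ∧ b * b = 1
  hc : c ∈ T ∧ c ∉ D ∧ c * c = 1
  hab : r * a * r⁻¹ = b
  hbc : r * b * r⁻¹ = c
  hca : r * c * r⁻¹ = a
  nab : a⁻¹ * b ∉ D
  nac : a⁻¹ * c ∉ D
  nbc : b⁻¹ * c ∉ D
  cover : ∀ t ∈ T, t ∈ D ∨ a⁻¹ * t ∈ D ∨ b⁻¹ * t ∈ D ∨ c⁻¹ * t ∈ D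

theorem Frame.exists_reps (F : Frame D T r) (hS : Small G) (hD : CoreData D) (h16 : Nat.card D = 16) :
    ∃ a b c, Reps D T r a b c := by
  classical
  obtain ⟨u, hu, huD⟩ := F.exists_outside h16
  obtain ⟨a, -, hao, hau⟩ := hD.invol u (F.le_normalizer hu) huD (F.sq u hu)
  have haT : a ∈ T := by
    have := mul_mem hu (inv_mem (F.le hau))
    simpa [mul_assoc] using this
  have haD : a ∉ D := fun h => huD (by
    have := mul_mem h hau
    rwa [mul_inv_cancel_left] at this)
  have haa := Invol.mul_self hao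
  have hstep : ∀ {x : G}, x ∈ T ∧ x ∉ D ∧ x * x = 1 →
      r * x * r⁻¹ ∈ T ∧ r * x * r⁻¹ ∉ D ∧ (r * x * r⁻¹) * (r * x * r⁻¹) = 1 := by
    rintro x ⟨h1, h2, h3⟩
    refine ⟨F.stable x h1, F.conj_not_mem h2, ?_⟩
    rw [show r * x * r⁻¹ * (r * x * r⁻¹) = r * (x * x) * r⁻¹ by group, h3]; group
  set b := r * a * r⁻¹ with hb
  set c := r * b * r⁻¹ with hc
  have hB := hstep ⟨haT, haD, haa⟩
  have hC := hstep hB
  have hr3 : r * r * r = 1 := by
    rw [← pow_orderOf_eq_one r, F.order]
    simp only [pow_succ, pow_zero, one_mul, mul_assoc]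
  have hca : r * c * r⁻¹ = a := by
    rw [hc, hb, show r * (r * (r * a * r⁻¹) * r⁻¹) * r⁻¹ = (r * r * r) * a * (r * r * r)⁻¹ by group,
      hr3]
    group
  have nab : a⁻¹ * b ∉ D := by
    intro h
    have hz := F.invol_coset hS hD h16 haT haD haa hB.2.2 h
    obtain ⟨w, hw, hwz⟩ := exists_conj_div (D := fixZ D T) (r := r) (fun x hx => F.conj_fixZ hx)
      (fun x hx hxc => F.fpf hS (F.le hx.1) hxc) _ (inv_mem hz)
    apply haD
    have h1 : a * w = 1 := F.fpf hS (mul_mem haT (F.le hw.1)) (by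
      refine mul_inv_eq_iff_eq_mul.1 ?_
      calc r * (a * w) * r⁻¹ = (r * a * r⁻¹) * (r * w * r⁻¹ * w⁻¹) * w := by group
        _ = b * (a⁻¹ * b)⁻¹ * w := by rw [hwz]
        _ = a * w := by group)
    rw [eq_inv_of_mul_eq_one_left h1]
    exact inv_mem hw.1
  have nbc : b⁻¹ * c ∉ D := by
    intro h
    refine nab ((Subgroup.mem_normalizer_iff.1 F.mem _).2 ?_)
    rwa [show r * (a⁻¹ * b) * r⁻¹ = (r * a * r⁻¹)⁻¹ * (r * b * r⁻¹) by group, ← hb, ← hc]
  have nac : a⁻¹ * c ∉ D := by
    intro h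
    apply nab
    have := inv_mem ((Subgroup.mem_normalizer_iff.1 F.mem _).1 h)
    rwa [show (r * (a⁻¹ * c) * r⁻¹)⁻¹ = (r * c * r⁻¹)⁻¹ * (r * a * r⁻¹) by group, hca, ← hb] at this
  refine ⟨a, b, c, ⟨⟨haT, haD, haa⟩, hB, hC, rfl, rfl, hca, nab, nac, nbc, ?_⟩⟩
  intro t ht
  let q : T → T ⧸ D.subgroupOf T := fun x => (x : T ⧸ D.subgroupOf T)
  let f : Fin 4 → T ⧸ D.subgroupOf T := ![q 1, q ⟨a, haT⟩, q ⟨b, hB.1⟩, q ⟨c, hC.1⟩]
  have hq : ∀ x y : T, q x = q y → (x : G)⁻¹ * y ∈ D := fun x y h => by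
    have h' := QuotientGroup.eq (s := D.subgroupOf T) (a := x) (b := y) |>.1 h
    exact h'
  have hf : Function.Injective f := by
    intro i j h
    fin_cases i <;> fin_cases j <;>
      first
      | rfl
      | (exfalso
         simp only [f, Matrix.cons_val_zero, Matrix.cons_val_one, Matrix.cons_val, Matrix.head_cons] at h
         have h' := hq _ _ h
         have h'' := hq _ _ h.symm
         simp only [Subgroup.coe_one, inv_one, one_mul, mul_one] at h' h''
         first
           | exact haD h'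
           | exact haD h''
           | exact hB.2.1 h'
           | exact hB.2.1 h''
           | exact hC.2.1 h'
           | exact hC.2.1 h''
           | exact nab h'
           | exact nab h''
           | exact nac h'
           | exact nac h''
           | exact nbc h'
           | exact nbc h'')
  have hidx : Nat.card (T ⧸ D.subgroupOf T) = 4 := by
    have h := Subgroup.card_mul_index (D.subgroupOf T)
    rw [Nat.card_congr (Subgroup.subgroupOfEquivOfLe F.le).toEquiv, h16, F.card] at h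
    show (D.subgroupOf T).index = 4
    omega
  haveI := Fintype.ofFinite (T ⧸ D.subgroupOf T)
  obtain ⟨i, hi⟩ := ((Fintype.bijective_iff_injective_and_card f).2
    ⟨hf, by rw [Fintype.card_fin, ← Nat.card_eq_fintype_card, hidx]⟩).2 (q ⟨t, ht⟩)
  have h' := fun x (e : q x = q ⟨t, ht⟩) => hq x ⟨t, ht⟩ e
  fin_cases i
  · left; simpa using h' _ hi
  · right; left; exact h' _ hi
  · right; right; left; exact h' _ hi
  · right; right; right; exact h' _ hi

/-- An involution of `T` outside `D` is a representative times an element of `fixZ D T`. -/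
theorem Reps.of_invol {a b c : G} (R : Reps D T r a b c) (F : Frame D T r) (hS : Small G)
    (hD : CoreData D) (h16 : Nat.card D = 16) {u : G} (hu : u ∈ T) (huD : u ∉ D) (hu2 : u * u = 1) :
    a⁻¹ * u ∈ fixZ D T ∨ b⁻¹ * u ∈ fixZ D T ∨ c⁻¹ * u ∈ fixZ D T := by
  rcases R.cover u hu with h | h | h | h
  · exact absurd h huD
  · exact Or.inl (F.invol_coset hS hD h16 R.ha.1 R.ha.2.1 R.ha.2.2 hu2 h)
  · exact Or.inr (Or.inl (F.invol_coset hS hD h16 R.hb.1 R.hb.2.1 R.hb.2.2 hu2 h))
  · exact Or.inr (Or.inr (F.invol_coset hS hD h16 R.hc.1 R.hc.2.1 R.hc.2.2 hu2 h))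

/-- Either commuting outside involutions share their coset, or they form a second elementary group. -/
theorem Frame.dichotomy (F : Frame D T r) (hS : Small G) (hD : CoreData D) (h16 : Nat.card D = 16) :
    (∀ u v, u ∈ T → u ∉ D → u * u = 1 → v ∈ T → v ∉ D → v * v = 1 → u * v = v * u → u⁻¹ * v ∈ D) ∨
    ∃ E : Subgroup G, Nat.card E = 16 ∧
      ∀ x, x ∈ E ↔ x ∈ fixZ D T ∨ (x ∈ T ∧ x ∉ D ∧ x * x = 1) := by
  classical
  obtain ⟨a, b, c, R⟩ := F.exists_reps hS hD h16
  have hrot : ∀ {x y x' y' : G}, r * x * r⁻¹ = x' → r * y * r⁻¹ = y' → x * y = y * x →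
      x' * y' = y' * x' := by
    rintro x y _ _ rfl rfl h
    calc r * x * r⁻¹ * (r * y * r⁻¹) = r * (x * y) * r⁻¹ := by group
      _ = r * (y * x) * r⁻¹ := by rw [h]
      _ = _ := by group
  by_cases hab : a * b = b * a
  · right
    have hbc : b * c = c * b := hrot R.hab R.hbc hab
    have hca : c * a = a * c := hrot R.hbc R.hca hbc
    refine ⟨T ⊓ Subgroup.centralizer ({a, b} : Set G), ?_, ?_⟩
    case refine_2 =>
      intro x
      simp only [Subgroup.mem_inf, Subgroup.mem_centralizer_iff, Set.mem_insert_iff,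
        Set.mem_singleton_iff, forall_eq_or_imp, forall_eq]
      constructor
      · rintro ⟨hxT, hxa, hxb⟩
        rcases R.cover x hxT with h | h | h | h
        · exact Or.inl (F.mem_fixZ hS hD h16 R.ha.1 R.ha.2.1 h hxa.symm)
        all_goals
          by_cases hxD : x ∈ D
          · exact Or.inl (F.mem_fixZ hS hD h16 R.ha.1 R.ha.2.1 hxD hxa.symm)
          refine Or.inr ⟨hxT, hxD, ?_⟩
        · have hz := F.mem_fixZ hS hD h16 R.ha.1 R.ha.2.1 h (by
            rw [mul_assoc, ← hxa]; group)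
          have e : x = a * (a⁻¹ * x) := by group
          rw [e, Commute.mul_mul_mul_comm (fixZ_comm hz R.ha.1).symm, R.ha.2.2, hD.exp _ hz.1, one_mul]
        · have hz := F.mem_fixZ hS hD h16 R.hb.1 R.hb.2.1 h (by
            rw [mul_assoc, ← hxb]; group)
          have e : x = b * (b⁻¹ * x) := by group
          rw [e, Commute.mul_mul_mul_comm (fixZ_comm hz R.hb.1).symm, R.hb.2.2, hD.exp _ hz.1, one_mul]
        · have hz := F.mem_fixZ hS hD h16 R.ha.1 R.ha.2.1 h (by
            calc c⁻¹ * x * a = c⁻¹ * (x * a) := by group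
              _ = c⁻¹ * (a * x) := by rw [hxa]
              _ = (c⁻¹ * a) * x := by group
              _ = (a * c⁻¹) * x := by rw [(Commute.inv_left (show Commute c a from hca)).eq]
              _ = _ := by group)
          have e : x = c * (c⁻¹ * x) := by group
          rw [e, Commute.mul_mul_mul_comm (fixZ_comm hz R.hc.1).symm, R.hc.2.2, hD.exp _ hz.1, one_mul]
      · rintro (hz | ⟨hxT, hxD, hx2⟩)
        · exact ⟨F.le hz.1, fixZ_comm hz R.ha.1, fixZ_comm hz R.hb.1⟩
        refine ⟨hxT, ?_⟩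
        have key : ∀ y, a * y = y * a → b * y = y * b → y⁻¹ * x ∈ fixZ D T →
            a * x = x * a ∧ b * x = x * b := by
          intro y h1 h2 hz
          rw [show x = y * (y⁻¹ * x) by group]
          exact ⟨(Commute.mul_right h1 (fixZ_comm hz R.ha.1)).eq,
            (Commute.mul_right h2 (fixZ_comm hz R.hb.1)).eq⟩
        rcases R.of_invol F hS hD h16 hxT hxD hx2 with h | h | h
        · exact key a rfl hab.symm h
        · exact key b hab rfl h
        · exact key c hca.symm hbc h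
    case refine_1 =>
      set E := T ⊓ Subgroup.centralizer ({a, b} : Set G) with hE
      have hmem : ∀ x ∈ E, x ∈ T ∧ (x ∈ D → x ∈ fixZ D T) := fun x hx =>
        ⟨hx.1, fun hxD => F.mem_fixZ hS hD h16 R.ha.1 R.ha.2.1 hxD
          (Subgroup.mem_centralizer_iff.1 hx.2 a (Set.mem_insert a _)).symm⟩
      have hrep : ∀ y ∈ T, a * y = y * a → b * y = y * b → y ∈ E := fun y hy h1 h2 =>
        ⟨hy, Subgroup.mem_centralizer_iff.2 (by rintro g (rfl | rfl); exacts [h1, h2])⟩
      have haE : a ∈ E := hrep a R.ha.1 rfl hab.symm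
      have hbE : b ∈ E := hrep b R.hb.1 hab rfl
      have hcE : c ∈ E := hrep c R.hc.1 hca.symm hbc
      have hidx : D.relIndex E = 4 := by
        haveI : Fact (Nat.Prime 2) := ⟨Nat.prime_two⟩
        let q : E → E ⧸ D.subgroupOf E := fun x => (x : E ⧸ D.subgroupOf E)
        have hsurj : Function.Surjective
            (![q 1, q ⟨a, haE⟩, q ⟨b, hbE⟩, q ⟨c, hcE⟩] : Fin 4 → E ⧸ D.subgroupOf E) := by
          intro y
          obtain ⟨⟨x, hx⟩, rfl⟩ := Quotient.exists_rep y
          rcases R.cover x hx.1 with h | h | h | h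
          exacts [⟨0, QuotientGroup.eq.2 (show ((1 : G))⁻¹ * x ∈ D by simpa using h)⟩,
            ⟨1, QuotientGroup.eq.2 h⟩, ⟨2, QuotientGroup.eq.2 h⟩, ⟨3, QuotientGroup.eq.2 h⟩]
        have h1 := Nat.card_le_card_of_surjective _ hsurj
        rw [Nat.card_fin] at h1
        have hle : D.relIndex E ≤ 4 := h1
        have h2 : 2 < D.relIndex E := by
          have hinj : Function.Injective (![q 1, q ⟨a, haE⟩, q ⟨b, hbE⟩] : Fin 3 → E ⧸ D.subgroupOf E) := by
            intro i j h
            fin_cases i <;> fin_cases j <;>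
              first
              | rfl
              | (exfalso
                 have h' := QuotientGroup.eq.1 h
                 have h'' := QuotientGroup.eq.1 h.symm
                 simp [Subgroup.mem_subgroupOf] at h' h''
                 first
                   | exact R.ha.2.1 h'
                   | exact R.ha.2.1 h''
                   | exact R.hb.2.1 h'
                   | exact R.hb.2.1 h''
                   | exact R.nab h'
                   | exact R.nab h'')
          have := Nat.card_le_card_of_injective _ hinj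
          rw [Nat.card_fin] at this
          exact this
        obtain ⟨k, hk⟩ : ∃ k, D.relIndex E = 2 ^ k :=
          (F.two.to_le inf_le_left : IsPGroup 2 E).index (D.subgroupOf E)
        rw [hk] at hle h2 ⊢
        rcases k with - | - | - | k
        · norm_num at h2
        · norm_num at h2
        · rfl
        · rw [pow_add] at hle
          have := Nat.one_le_pow k 2 (by norm_num)
          omega
      have hDE : D ⊓ E = fixZ D T := le_antisymm (fun x hx => (hmem x hx.2).2 hx.1) fun z hz =>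
        ⟨hz.1, hrep z (F.le hz.1) (fixZ_comm hz R.ha.1) (fixZ_comm hz R.hb.1)⟩
      rw [card_eq_relIndex_mul D E, hidx, hDE, F.card_fixZ hS hD h16]
  · left
    intro u v hu huD hu2 hv hvD hv2 huv
    by_contra hne
    have key : ∀ x y : G, x ∈ T → y ∈ T → x⁻¹ * u ∈ fixZ D T → y⁻¹ * v ∈ fixZ D T →
        x * y = y * x := by
      intro x y hx hy hzu hzv
      have h1 : Commute (x⁻¹ * u) y := (fixZ_comm hzu hy).symm
      have h2 : Commute u (y⁻¹ * v) := fixZ_comm hzv hu
      have h3 : Commute u y := by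
        have := (show Commute u v from huv).mul_right h2.inv_right
        rwa [show v * (y⁻¹ * v)⁻¹ = y by group] at this
      have := h3.mul_left h1.inv_left
      rwa [show u * (x⁻¹ * u)⁻¹ = x by group] at this
    have same : ∀ x, x⁻¹ * u ∈ fixZ D T → x⁻¹ * v ∈ fixZ D T → False := fun x h1 h2 => hne (by
      have := mul_mem (inv_mem (Subgroup.mem_inf.1 h1).1) (Subgroup.mem_inf.1 h2).1
      simpa [mul_assoc] using this)
    have hr : ∀ {x y : G}, x * y = y * x → y * x = x * y := fun h => h.symm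
    have hba : a * b = b * a → False := hab
    have hbc : b * c = c * b → False := fun h => hba (hrot R.hca R.hab (hrot R.hbc R.hca h))
    have hca : c * a = a * c → False := fun h => hba (hrot R.hca R.hab h)
    rcases R.of_invol F hS hD h16 hu huD hu2 with h | h | h <;>
      rcases R.of_invol F hS hD h16 hv hvD hv2 with h' | h' | h'
    · exact same a h h'
    · exact hba (key a b R.ha.1 R.hb.1 h h')
    · exact hca (key a c R.ha.1 R.hc.1 h h').symm
    · exact hba (key b a R.hb.1 R.ha.1 h h').symm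
    · exact same b h h'
    · exact hbc (key b c R.hb.1 R.hc.1 h h')
    · exact hca (key c a R.hc.1 R.ha.1 h h')
    · exact hbc (key c b R.hc.1 R.hb.1 h h').symm
    · exact same c h h'

end Cfsg.Agent.SmallSpec
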