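import Cfsg.Agent.Lib.SmallSpec.Core
import Cfsg.Agent.Lib.Small.SylowToolkit
import Cfsg.Agent.Lib.Involutions.Dihedral
import Cfsg.Agent.S0848

/-!
Maximal intersections: the generic case and the dihedral case.
-/

set_option autoImplicit false
set_option linter.unusedSectionVars false
set_option linter.style.haveILetI false

namespace Cfsg.Agent.SmallSpec

universe u

variable {G : Type u} [Group G] [Finite G] {D : Subgroup G}

/-- Conjugation of a subgroup. -/
abbrev conjBy (g : G) (X : Subgroup G) : Subgroup G := X.map (MulAut.conj g).toMonoidHom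

theorem mem_conjBy {g x : G} {X : Subgroup G} : x ∈ conjBy g X ↔ g⁻¹ * x * g ∈ X :=
  Invol.mem_conj_map

theorem card_conjBy (g : G) (X : Subgroup G) : Nat.card (conjBy g X) = Nat.card X :=
  Subgroup.card_map_of_injective (MulAut.conj g).injective

/-- The order of a `2`-subgroup of the normalizer containing `D`. -/
theorem card_two_group_dvd (hD : CoreData D) {τ : ℕ}
    (hτ : ∀ k, 2 ^ k ∣ D.relIndex (Subgroup.normalizer (D : Set G)) → 2 ^ k ∣ τ)
    {X : Subgroup G} (hX : IsPGroup 2 X) (hXN : X ≤ Subgroup.normalizer (D : Set G)) :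
    D.relIndex X ∣ τ := by
  haveI : Fact (Nat.Prime 2) := ⟨Nat.prime_two⟩
  set N := Subgroup.normalizer (D : Set G)
  haveI : (D.subgroupOf N).Normal := Subgroup.normal_subgroupOf_of_le_normalizer le_rfl
  have h1 : (D.subgroupOf N).relIndex (X.subgroupOf N) ∣ (D.subgroupOf N).index :=
    Subgroup.relIndex_dvd_index_of_normal _ _
  rw [Subgroup.relIndex_subgroupOf hXN] at h1
  obtain ⟨k, hk⟩ : ∃ k, D.relIndex X = 2 ^ k := hX.index (D.subgroupOf X)
  rw [hk]
  exact hτ k (hk ▸ h1)

theorem card_eq_relIndex_mul (X Y : Subgroup G) :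
    Nat.card Y = Nat.card (X ⊓ Y : Subgroup G) * X.relIndex Y := by
  rw [← Subgroup.card_mul_index (X.subgroupOf Y), ← Subgroup.relIndex,
    ← Subgroup.inf_subgroupOf_right,
    Nat.card_congr (Subgroup.subgroupOfEquivOfLe (inf_le_right : X ⊓ Y ≤ Y)).toEquiv]

/-- The product of a subgroup with `D` when they meet trivially. -/
theorem card_mul_le {A X : Subgroup G} (hAX : A ≤ X) (hDX : D ≤ X) (h : A ⊓ D = ⊥) :
    Nat.card A * Nat.card D ≤ Nat.card X := by
  rw [← Nat.card_prod]
  refine Nat.card_le_card_of_injective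
    (fun p : A × D => (⟨p.1 * p.2, mul_mem (hAX p.1.2) (hDX p.2.2)⟩ : X)) ?_
  rintro ⟨a, d⟩ ⟨a', d'⟩ he
  have he' : (a : G) * d = a' * d' := congrArg Subtype.val he
  have hmem : (a' : G)⁻¹ * a ∈ A ⊓ D := Subgroup.mem_inf.2 ⟨mul_mem (inv_mem a'.2) a.2, by
    rw [show (a' : G)⁻¹ * a = d' * (d : G)⁻¹ by
      calc (a' : G)⁻¹ * a = (a' : G)⁻¹ * ((a : G) * d) * (d : G)⁻¹ := by group
        _ = _ := by rw [he']; group]
    exact mul_mem d'.2 (inv_mem d.2)⟩
  rw [h, Subgroup.mem_bot, inv_mul_eq_one] at hmem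
  obtain rfl : a' = a := Subtype.ext hmem
  exact Prod.ext rfl (Subtype.ext (mul_left_cancel he'))

section Simple

variable [IsSimpleGroup G]

/-- Weak closure and trivial-intersection hypotheses give a contradiction. -/
theorem Small.no_unique (hS : Small G) (hnc : ¬ IsMulCommutative G) (hD : CoreData D)
    (hUniq : ∀ X : Subgroup G, IsPGroup 2 X → D ≤ X → X ≤ Subgroup.normalizer (D : Set G) →
      ∀ g : G, (∀ d ∈ D, g * d * g⁻¹ ∈ X) → g ∈ Subgroup.normalizer (D : Set G))
    (hMeet : ∀ X : Subgroup G, IsPGroup 2 X → D ≤ X → X ≤ Subgroup.normalizer (D : Set G) →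
      ∀ u ∈ Subgroup.normalizer (D : Set G), orderOf u = 2 → u ∉ D →
      ∀ g : G, (∀ z ∈ D ⊓ Subgroup.centralizer ({u} : Set G), g * z * g⁻¹ ∈ X) →
      ∃ z ∈ D ⊓ Subgroup.centralizer ({u} : Set G), z ≠ 1 ∧ g * z * g⁻¹ ∈ D) : False := by
  classical
  haveI : Fact (Nat.Prime 2) := ⟨Nat.prime_two⟩
  set N := Subgroup.normalizer (D : Set G) with hN
  have hXN : ∀ X : Subgroup G, IsPGroup 2 X → D ≤ X → X ≤ N := by
    intro X hX hDX
    by_contra hle
    have hlt : (X ⊓ N).subgroupOf X < ⊤ := by
      rw [lt_top_iff_ne_top, Ne, Subgroup.subgroupOf_eq_top]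
      exact fun h => hle (h.trans inf_le_right)
    haveI := hX.isNilpotent
    obtain ⟨x, hxn, hx⟩ := SetLike.exists_of_lt
      (Group.normalizerCondition_of_isNilpotent (G := X) _ hlt)
    apply hx
    refine ⟨x.2, hUniq (X ⊓ N) (hX.to_le inf_le_left) (le_inf hDX Subgroup.le_normalizer) inf_le_right _
      fun d hd => ?_⟩
    exact (Subgroup.mem_normalizer_iff.1 hxn ⟨d, hDX hd⟩).1 ⟨hDX hd, Subgroup.le_normalizer hd⟩
  have hW : ∀ X : Subgroup G, IsPGroup 2 X → D ≤ X → ∀ g : G,
      (∀ d ∈ D, g * d * g⁻¹ ∈ X) → g ∈ N := fun X hX hDX => hUniq X hX hDX (hXN X hX hDX)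
  refine hS.no_weakly_closed hnc hD hW fun u hu huo huD => ?_
  obtain ⟨S, hCS⟩ := (hS.isPGroup_centralizer_invol huo).exists_le_sylow
  obtain ⟨S₀, hDS₀⟩ := hD.two.exists_le_sylow
  obtain ⟨g, hg⟩ := MulAction.exists_smul_eq G S₀ S
  have hgS : ∀ x ∈ (S₀ : Subgroup G), g * x * g⁻¹ ∈ (S : Subgroup G) := fun x hx => by
    rw [← hg, Sylow.coe_subgroup_smul]
    exact Subgroup.smul_mem_pointwise_smul x (MulAut.conj g) _ hx
  set Y := conjBy g⁻¹ (S : Subgroup G) with hY
  have hY2 : IsPGroup 2 Y := S.isPGroup'.map _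
  have hDY : D ≤ Y := fun d hd => mem_conjBy.2 (by rw [inv_inv]; exact hgS d (hDS₀ hd))
  obtain ⟨z, hz, hz1, hzD⟩ := hMeet Y hY2 hDY (hXN Y hY2 hDY) u hu huo huD g⁻¹ fun z hz =>
    mem_conjBy.2 (by
      rw [inv_inv]
      have := hCS hz.2
      simpa [mul_assoc] using this)
  exact ⟨S, g, z, S.isPGroup', hCS, fun d hd => hgS d (hDS₀ hd), hz.1, hz1, by simpa using hzD⟩

/-- The generic case: the fixed points are larger than the Sylow subgroup of the quotient. -/
theorem Small.no_generic (hS : Small G) (hnc : ¬ IsMulCommutative G) (hD : CoreData D) {τ c : ℕ}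
    (hc : Nat.card D = c * c) (hτ0 : 0 < τ) (hτc : τ < c)
    (hτ : ∀ k, 2 ^ k ∣ D.relIndex (Subgroup.normalizer (D : Set G)) → 2 ^ k ∣ τ) : False := by
  set N := Subgroup.normalizer (D : Set G) with hN
  have hfix : ∀ u ∈ N, u ∉ D → u * u ∈ D →
      Nat.card (D ⊓ Subgroup.centralizer ({u} : Set G) : Subgroup G) = c := fun u hu huD hu2 =>
    Nat.mul_self_inj.1 ((hD.fixed u hu huD hu2).trans hc)
  refine hS.no_unique hnc hD ?_ ?_
  · intro X hX hDX hXN g hg
    set E := conjBy g D
    have hEX : E ≤ X := by rintro _ ⟨d, hd, rfl⟩; exact hg d hd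
    have hED : E ≤ D := by
      intro e he
      by_contra heD
      obtain ⟨d, hd, rfl⟩ := id he
      have he2 : (g * d * g⁻¹) * (g * d * g⁻¹) = 1 := by
        rw [show (g * d * g⁻¹) * (g * d * g⁻¹) = g * (d * d) * g⁻¹ by group, hD.exp d hd]; group
      have heN : g * d * g⁻¹ ∈ N := hXN (hg d hd)
      have hle : D ⊓ E ≤ D ⊓ Subgroup.centralizer ({g * d * g⁻¹} : Set G) := by
        rintro x ⟨hxD, hxE⟩
        refine ⟨hxD, Subgroup.mem_centralizer_singleton_iff.2 ?_⟩
        obtain ⟨y, hy, rfl⟩ := hxE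
        show g * y * g⁻¹ * (g * d * g⁻¹) = g * d * g⁻¹ * (g * y * g⁻¹)
        have h := commute_of_exp_two hD.exp hy hd
        calc g * y * g⁻¹ * (g * d * g⁻¹) = g * (y * d) * g⁻¹ := by group
          _ = g * (d * y) * g⁻¹ := by rw [h]
          _ = _ := by group
      have h1 := (Subgroup.card_le_of_le hle).trans_eq (hfix _ heN heD (by rw [he2]; exact one_mem D))
      have h2 := Nat.le_of_dvd hτ0 (card_two_group_dvd hD hτ (hX.to_le hEX) (hEX.trans hXN))
      have h3 := card_eq_relIndex_mul D E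
      rw [card_conjBy, hc] at h3
      have : c * c ≤ c * τ := h3 ▸ Nat.mul_le_mul h1 h2
      nlinarith
    have hEeq : E = D := Subgroup.eq_of_le_of_card_ge hED (card_conjBy g D).ge
    rw [Subgroup.mem_normalizer_iff_map_conj_eq]
    exact hEeq
  · intro X hX hDX hXN u hu huo huD g hg
    by_contra hcon
    push Not at hcon
    set A := conjBy g (D ⊓ Subgroup.centralizer ({u} : Set G))
    have hAX : A ≤ X := by rintro _ ⟨z, hz, rfl⟩; exact hg z hz
    have hbot : A ⊓ D = ⊥ := by
      rw [eq_bot_iff]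
      rintro _ ⟨⟨z, hz, rfl⟩, hzD⟩
      rw [Subgroup.mem_bot]
      by_cases hz1 : z = 1
      · rw [hz1, map_one]
      · exact absurd hzD (hcon z hz hz1)
    have h1 := card_mul_le hAX hDX hbot
    rw [card_conjBy, hfix u hu huD (by rw [Invol.mul_self huo]; exact one_mem D)] at h1
    have h2 := card_eq_relIndex_mul D X
    rw [inf_of_le_left hDX] at h2
    have h3 := Nat.le_of_dvd hτ0 (card_two_group_dvd hD hτ hX hXN)
    rw [h2] at h1
    have h0 : 0 < Nat.card D := Nat.card_pos
    nlinarith

/-- A maximal intersection of order four gives a group of order 360. -/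
theorem Small.card_eq_dihedral (hS : Small G) (hnc : ¬ IsMulCommutative G) (hD : CoreData D)
    (h4 : Nat.card D = 4) : Nat.card G = 360 := by
  classical
  haveI : Fact (Nat.Prime 2) := ⟨Nat.prime_two⟩
  set N := Subgroup.normalizer (D : Set G) with hN
  have hcm := fun (a : G) (ha : a ∈ D) (b : G) (hb : b ∈ D) => commute_of_exp_two hD.exp ha hb
  -- the quotient permutes the three involutions faithfully
  have hR : D.relIndex N ≤ 6 := by
    haveI : Fintype D := Fintype.ofFinite _
    have hcard : Fintype.card {d : D // d ≠ 1} = 3 := by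
      rw [Fintype.card_subtype_compl, Fintype.card_subtype_eq, ← Nat.card_eq_fintype_card, h4]
    let φ : N →* MulAut D := Subgroup.normalizerMonoidHom D
    let ψ : MulAut D → Equiv.Perm {d : D // d ≠ 1} := fun a =>
      (MulEquiv.toEquiv a).subtypeEquiv fun d => by simp
    have hψ : Function.Injective ψ := fun a b h => MulEquiv.ext fun d => by
      by_cases hd : d = 1
      · rw [hd, map_one, map_one]
      · exact congrArg Subtype.val (Equiv.Perm.ext_iff.1 h ⟨d, hd⟩)
    have h := Nat.card_le_card_of_injective _ (hψ.comp (QuotientGroup.kerLift_injective φ))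
    rw [Nat.card_eq_fintype_card (α := Equiv.Perm _), Fintype.card_perm, hcard] at h
    have hker : φ.ker ≤ D.subgroupOf N := by
      rw [Subgroup.normalizerMonoidHom_ker]
      exact fun x hx => hD.cent hx
    calc D.relIndex N ≤ φ.ker.index :=
          Nat.le_of_dvd (Nat.pos_of_ne_zero Subgroup.FiniteIndex.index_ne_zero)
            (Subgroup.index_dvd_of_le hker)
      _ = Nat.card (N ⧸ φ.ker) := rfl
      _ ≤ 6 := h
  have hR6 : D.relIndex N = 6 := by
    rcases hD.cases with h | h | ⟨h, -⟩ <;> rw [← hN] at h <;> omega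
  obtain ⟨t, r, htN, hrN, htD, hto, hr, hinv⟩ := hD.lift
  obtain ⟨d, hd, hdt⟩ : ∃ d ∈ D, d * t ≠ t * d := by
    by_contra hcon
    push Not at hcon
    exact htD (hD.cent (Subgroup.mem_centralizer_iff.2 hcon))
  have hd1 : d ≠ 1 := fun h => hdt (by rw [h, one_mul, mul_one])
  have hdo : orderOf d = 2 := Invol.order_two_of_sq (hD.exp d hd) hd1
  have hti := Invol.inv_self hto
  have htt := Invol.mul_self hto
  have hdd := hD.exp d hd
  set d' := t * d * t⁻¹ with hd'
  have hd'D : d' ∈ D := (Subgroup.mem_normalizer_iff.1 htN d).1 hd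
  have hne : d' ≠ d := fun h => hdt (mul_inv_eq_iff_eq_mul.1 h).symm
  set z := d' * d with hz
  have hzD : z ∈ D := mul_mem hd'D hd
  have hz1 : z ≠ 1 := fun h => hne (by
    rw [hz, mul_eq_one_iff_eq_inv, Invol.inv_self hdo] at h; exact h)
  have hzo : orderOf z = 2 := Invol.order_two_of_sq (hD.exp z hzD) hz1
  have hsq : t * d * (t * d) = z := by rw [hz, hd', hti]; group
  have hq : orderOf (t * d) = 4 := by
    refine orderOf_eq_prime_pow (p := 2) (n := 1) ?_ ?_
    · rw [pow_one, pow_two, hsq]; exact hz1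
    · rw [show 2 ^ (1 + 1) = 2 * 2 by norm_num, pow_mul, pow_two, pow_two, hsq]; exact hD.exp z hzD
  have hdtne : t ≠ d := fun h => htD (h ▸ hd)
  -- the Sylow subgroup
  set T : Subgroup G := (Invol.dihHom hto hdo).range with hT
  have hTc : Nat.card T = 8 := by
    rw [hT, ← Nat.card_congr (MonoidHom.ofInjective (Invol.dihHom_injective hto hdo hdtne)).toEquiv,
      DihedralGroup.nat_card, hq]
  have htT : t ∈ T := by rw [hT, Invol.dihHom_range]; exact Subgroup.subset_closure (by simp)
  have hdT : d ∈ T := by rw [hT, Invol.dihHom_range]; exact Subgroup.subset_closure (by simp)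
  have hTN : T ≤ N := by
    rw [hT, Invol.dihHom_range, Subgroup.closure_le]
    rintro x (rfl | rfl)
    exacts [htN, Subgroup.le_normalizer hd]
  have hT2 : IsPGroup 2 T := IsPGroup.of_card (n := 3) (by rw [hTc]; norm_num)
  have hDset : ∀ x ∈ D, x = 1 ∨ x = z ∨ x = d ∨ x = d' := by
    intro x hx
    by_contra hcon
    push Not at hcon
    obtain ⟨h1, h2, h3, h4'⟩ := hcon
    have hzd : z ≠ d := fun h => by
      rw [hz] at h
      have : d' = 1 := by simpa using h
      rw [hd', conj_eq_one_iff] at this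
      exact hd1 this
    have hzd' : z ≠ d' := fun h => by
      rw [hz] at h
      exact hd1 (by simpa using h)
    have hs : ({1, z, d, d', x} : Finset G).card = 5 := by
      have hd'1 : d' ≠ 1 := fun h => hd1 (conj_eq_one_iff.1 (hd' ▸ h))
      rw [Finset.card_insert_of_notMem, Finset.card_insert_of_notMem, Finset.card_insert_of_notMem,
        Finset.card_insert_of_notMem, Finset.card_singleton] <;>
        simp [Ne.symm h1, Ne.symm h2, Ne.symm h3, Ne.symm h4', Ne.symm hz1, Ne.symm hd1, hzd, hzd',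
          Ne.symm hd'1, Ne.symm hne]
    have hle : ({1, z, d, d', x} : Finset G).card ≤ Nat.card D := by
      rw [← Nat.card_eq_finsetCard]
      refine Nat.card_le_card_of_injective (fun y => (⟨y.1, ?_⟩ : D)) fun a b h =>
        Subtype.ext (Subtype.mk.inj h)
      have := y.2
      simp only [Finset.mem_insert, Finset.mem_singleton] at this
      rcases this with h | h | h | h | h <;> rw [h]
      exacts [one_mem D, hzD, hd, hd'D, hx]
    omega
  have hDT : D ≤ T := fun x hx => by
    have hd'T : d' ∈ T := mul_mem (mul_mem htT hdT) (inv_mem htT)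
    rcases hDset x hx with rfl | rfl | rfl | rfl
    exacts [one_mem T, mul_mem hd'T hdT, hdT, hd'T]
  -- the Sylow subgroup of the normalizer is a Sylow subgroup of G
  have hmaxN : ∀ X : Subgroup G, IsPGroup 2 X → T ≤ X → X ≤ N → X = T := by
    intro X hX hTX hXN
    refine (Subgroup.eq_of_le_of_card_ge hTX ?_).symm
    have h := card_two_group_dvd hD (τ := 2) (fun k hk => by
      rw [hR6] at hk
      exact ((Nat.Coprime.pow_left k (by norm_num : Nat.Coprime 2 3))).dvd_of_dvd_mul_right
        (show 2 ^ k ∣ 2 * 3 from hk)) hX hXN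
    have h2 := card_eq_relIndex_mul D X
    rw [inf_of_le_left (hDT.trans hTX), h4] at h2
    have := Nat.le_of_dvd (by norm_num) h
    rw [hTc, h2]
    omega
  obtain ⟨S, hTS⟩ := hT2.exists_le_sylow
  have hcz : ∀ y ∈ T, y * z = z * y := by
    intro y hy
    rw [hT, Invol.dihHom_range] at hy
    have hle : Subgroup.closure ({t, d} : Set G) ≤ Subgroup.centralizer ({z} : Set G) := by
      rw [Subgroup.closure_le, Set.insert_subset_iff, Set.singleton_subset_iff]
      constructor <;> rw [SetLike.mem_coe, Subgroup.mem_centralizer_singleton_iff]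
      · calc t * z = t * (d * d') := by rw [hz, hcm d' hd'D d hd]
          _ = (t * d * t⁻¹) * (t * t) * d * (t⁻¹ * t⁻¹) * t := by rw [hd']; group
          _ = d' * d * t := by rw [← hd', htt, hti, htt]; group
          _ = z * t := by rw [hz]
      · exact hcm _ hd z hzD
    exact Subgroup.mem_centralizer_singleton_iff.1 (hle hy)
  -- the fixed points of an involution outside `D`
  have hfix : ∀ u ∈ T, u ∉ D → u * u = 1 → ∀ e ∈ D, e * u = u * e → e = 1 ∨ e = z := by
    intro u hu huD hu2 e he hec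
    have h := hD.fixed u (hTN hu) huD (by rw [hu2]; exact one_mem D)
    rw [h4] at h
    set C := D ⊓ Subgroup.centralizer ({u} : Set G)
    have hC2 : Nat.card C = 2 := by nlinarith
    have hzC : z ∈ C := ⟨hzD, Subgroup.mem_centralizer_singleton_iff.2 (hcz u hu).symm⟩
    have heC : e ∈ C := ⟨he, Subgroup.mem_centralizer_singleton_iff.2 hec⟩
    obtain ⟨b, hb⟩ := (Nat.card_eq_two_iff' (1 : C)).1 hC2
    by_cases he1 : e = 1
    · exact Or.inl he1
    · exact Or.inr (congrArg Subtype.val ((hb.2 ⟨e, heC⟩ fun h => he1 (congrArg Subtype.val h)).trans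
        (hb.2 ⟨z, hzC⟩ fun h => hz1 (congrArg Subtype.val h)).symm))
  have hidx : (D.subgroupOf T).index = 2 := by
    have h := card_eq_relIndex_mul D T
    rw [inf_of_le_left hDT, h4, hTc] at h
    show D.relIndex T = 2
    omega
  have hpow : ∀ a ∈ (S : Subgroup G), a ^ 4 = 1 := fun a ha => by
    obtain ⟨k, hk⟩ := S.isPGroup' ⟨a, ha⟩
    exact hS.pow_four (congrArg Subtype.val hk : a ^ 2 ^ k = 1)
  have hST : (S : Subgroup G) = T := by
    by_contra hne'
    have hlt : T.subgroupOf (S : Subgroup G) < ⊤ := by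
      rw [lt_top_iff_ne_top, Ne, Subgroup.subgroupOf_eq_top]
      exact fun h => hne' (le_antisymm h hTS)
    haveI := S.isPGroup'.isNilpotent
    obtain ⟨⟨x0, hx0S⟩, hx0n, hx0T⟩ := SetLike.exists_of_lt
      (Group.normalizerCondition_of_isNilpotent (G := (S : Subgroup G)) _ hlt)
    have hx0T : x0 ∉ T := hx0T
    have hc0 : ∀ y ∈ T, x0 * y * x0⁻¹ ∈ T := fun y hy => by
      simpa [Subgroup.mem_subgroupOf] using
        (Subgroup.mem_normalizer_iff.1 hx0n ⟨y, hTS hy⟩).1 hy
    obtain ⟨x, hxS, hxT, hconj, hx2⟩ : ∃ x ∈ (S : Subgroup G), x ∉ T ∧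
        (∀ y ∈ T, x * y * x⁻¹ ∈ T) ∧ x * x ∈ T := by
      by_cases h : x0 * x0 ∈ T
      · exact ⟨x0, hx0S, hx0T, hc0, h⟩
      · refine ⟨x0 * x0, mul_mem hx0S hx0S, h, fun y hy => ?_, ?_⟩
        · rw [show x0 * x0 * y * (x0 * x0)⁻¹ = x0 * (x0 * y * x0⁻¹) * x0⁻¹ by group]
          exact hc0 _ (hc0 y hy)
        · rw [show x0 * x0 * (x0 * x0) = x0 ^ 4 by simp only [pow_succ, pow_zero, one_mul, mul_assoc],
            hpow x0 hx0S]
          exact one_mem T
    have hxN : x ∉ N := fun h => hxT ((hmaxN ((S : Subgroup G) ⊓ N) (S.isPGroup'.to_le inf_le_left)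
      (le_inf hTS hTN) inf_le_right).le ⟨hxS, h⟩)
    have hxz : x * z * x⁻¹ = z := by
      have hxT' : ∀ y ∈ T, y * (x * z * x⁻¹) = x * z * x⁻¹ * y := by
        intro y hy
        have hy' : x⁻¹ * y * x ∈ T := by
          rw [show x⁻¹ * y * x = (x * x)⁻¹ * (x * y * x⁻¹) * (x * x) by group]
          exact mul_mem (mul_mem (inv_mem hx2) (hconj y hy)) hx2
        calc y * (x * z * x⁻¹) = x * ((x⁻¹ * y * x) * z) * x⁻¹ := by group
          _ = x * (z * (x⁻¹ * y * x)) * x⁻¹ := by rw [hcz _ hy']
          _ = _ := by group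
      have hmem : x * z * x⁻¹ ∈ D :=
        hD.cent (Subgroup.mem_centralizer_iff.2 fun y hy => hxT' y (hDT hy))
      exact (hfix t htT htD htt _ hmem (hxT' t htT).symm).resolve_left
        fun h => hz1 (conj_eq_one_iff.1 h)
    have hzd : d ≠ z := fun h => hdt (h ▸ (hcz t htT).symm)
    set u := x * d * x⁻¹ with hu
    have huT : u ∈ T := hconj d (hDT hd)
    have hd'z : d' = z * d := by rw [hz, mul_assoc, hdd, mul_one]
    have huD : u ∉ D := fun h => hxN (by
      rw [hN, Subgroup.mem_normalizer_iff_map_conj_eq]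
      refine Subgroup.eq_of_le_of_card_ge ?_ (card_conjBy x D).ge
      rintro _ ⟨y, hy, rfl⟩
      show x * y * x⁻¹ ∈ D
      rcases hDset y hy with rfl | rfl | rfl | rfl
      · simpa using one_mem D
      · rw [hxz]; exact hzD
      · exact h
      · rw [hd'z, show x * (z * d) * x⁻¹ = x * z * x⁻¹ * u by rw [hu]; group, hxz]
        exact mul_mem hzD h)
    have hout : ∀ e ∈ D, e ≠ 1 → e ≠ z → x * e * x⁻¹ ∉ D := by
      intro e he he1 hez h
      rcases hDset e he with rfl | rfl | rfl | rfl
      · exact he1 rfl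
      · exact hez rfl
      · exact huD h
      · apply huD
        rw [hd'z, show x * (z * d) * x⁻¹ = x * z * x⁻¹ * u by rw [hu]; group, hxz] at h
        simpa using mul_mem (inv_mem hzD) h
    have hu2 : u * u = 1 := by
      rw [hu, show x * d * x⁻¹ * (x * d * x⁻¹) = x * (d * d) * x⁻¹ by group, hdd]; group
    have hxu : x * u * x⁻¹ ∈ D := by
      rw [hu, show x * (x * d * x⁻¹) * x⁻¹ = x * x * d * (x * x)⁻¹ by group]
      exact (Subgroup.mem_normalizer_iff.1 (hTN hx2) d).1 hd
    have hud : u * d * u⁻¹ = z * d := by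
      have hmem : u * d * u⁻¹ ∈ D := (Subgroup.mem_normalizer_iff.1 (hTN huT) d).1 hd
      rcases hDset _ hmem with h | h | h | h
      · exact absurd (conj_eq_one_iff.1 h) hd1
      · exfalso
        apply hzd
        calc d = u⁻¹ * (u * d * u⁻¹) * u := by group
          _ = z := by rw [h, mul_assoc, ← hcz u huT]; group
      · exfalso
        rcases hfix u huT huD hu2 d hd (mul_inv_eq_iff_eq_mul.1 h).symm with h' | h'
        exacts [hd1 h', hzd h']
      · rw [h, hd'z]
    -- the square of `x`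
    have hxx : x * x = 1 ∨ x * x = z := by
      by_cases hxxD : x * x ∈ D
      · by_contra hcon
        push Not at hcon
        apply hout _ hxxD hcon.1 hcon.2
        rw [show x * (x * x) * x⁻¹ = x * x by group]
        exact hxxD
      exfalso
      have h4x : x * x * (x * x) = 1 := by
        rw [← hpow x hxS]; simp only [pow_succ, pow_zero, one_mul, mul_assoc]
      have hui : u⁻¹ = u := inv_eq_of_mul_eq_one_right hu2
      set e := u * (x * x) with he
      have heD : e ∈ D := (Subgroup.mul_mem_iff_of_index_two (H := D.subgroupOf T) hidx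
        (a := ⟨u, huT⟩) (b := ⟨x * x, hx2⟩)).2 (iff_of_false huD hxxD)
      have hue : x * x = u * e := by rw [he, ← mul_assoc, hu2, one_mul]
      have heu : e * u = u * e := by
        have h1 : u * e * (u * e) = 1 := by rw [← hue]; exact h4x
        have h2 : e * e = 1 := hD.exp e heD
        calc e * u = e * u * (e * e) := by rw [h2, mul_one]
          _ = u * (u * e * (u * e)) * e := by
            rw [show u * (u * e * (u * e)) * e = (u * u) * (e * u * (e * e)) by group, hu2, one_mul]
          _ = u * e := by rw [h1, mul_one]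
      have h1 : x * (u * e) * x⁻¹ ∈ D := by
        rw [show x * (u * e) * x⁻¹ = (x * u * x⁻¹) * (x * e * x⁻¹) by group]
        refine mul_mem hxu ?_
        rcases hfix u huT huD hu2 e heD heu with h | h <;> rw [h]
        · simpa using one_mem D
        · rw [hxz]; exact hzD
      rw [← hue, show x * (x * x) * x⁻¹ = x * x by group] at h1
      exact hxxD h1
    have hx2c : ∀ y ∈ T, (x * x) * y = y * (x * x) := by
      intro y hy
      rcases hxx with h | h <;> rw [h]
      · rw [one_mul, mul_one]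
      · exact (hcz y hy).symm
    have hsq2 : x * d * (x * d) = x * x * (u * d) := by
      calc x * d * (x * d) = u * (x * x) * d := by rw [hu]; group
        _ = _ := by rw [← hx2c u huT, mul_assoc]
    have hxd := hpow (x * d) (mul_mem hxS (hTS hdT))
    rw [show (x * d) ^ 4 = x * d * (x * d) * (x * d * (x * d)) by
      simp only [pow_succ, pow_zero, one_mul, mul_assoc], hsq2] at hxd
    apply hz1
    have hxx2 : x * x * (x * x) = 1 := by
      rcases hxx with h | h <;> rw [h]
      · exact one_mul 1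
      · exact hD.exp z hzD
    calc z = (z * d) * d := by rw [mul_assoc, hdd, mul_one]
      _ = u * d * u⁻¹ * d := by rw [hud]
      _ = u * d * (u * d) := by rw [inv_eq_of_mul_eq_one_right hu2, mul_assoc]
      _ = (x * x * (x * x)) * (u * d * (u * d)) := by rw [hxx2, one_mul]
      _ = x * x * (u * d) * (x * x * (u * d)) :=
        Commute.mul_mul_mul_comm (hx2c _ (mul_mem huT (hDT hd))) _ _
      _ = 1 := hxd
  have hC : Subgroup.centralizer ({z} : Set G) = T := by
    rw [← hST]
    refine S.3 (hS.isPGroup_centralizer_invol hzo) ?_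
    rw [hST]
    exact fun y hy => Subgroup.mem_centralizer_singleton_iff.2 (hcz y hy)
  have e : DihedralGroup 4 ≃* Subgroup.centralizer ({z} : Set G) :=
    ((hq ▸ MulEquiv.refl _ : DihedralGroup 4 ≃* DihedralGroup (orderOf (t * d))).trans
      (MonoidHom.ofInjective (Invol.dihHom_injective hto hdo hdtne))).trans
      (MulEquiv.subgroupCongr hC.symm)
  have hperf : commutator G = ⊤ := (IsSimpleGroup.eq_bot_or_eq_top_of_normal (commutator G)
    inferInstance).resolve_left fun h => hnc ⟨⟨fun a b => (commutatorElement_eq_one_iff_mul_comm.1 <|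
      Subgroup.mem_bot.1 (h ▸ Subgroup.commutator_mem_commutator (Subgroup.mem_top a) (Subgroup.mem_top b)))⟩⟩
  rcases S0848.result hperf z hzo e.symm with h | h
  · exfalso
    rcases hS.prime_le (p := 7) (by norm_num) (h ▸ by norm_num) with h' | h' | h' <;> norm_num at h'
  · exact h

end Simple

end Cfsg.Agent.SmallSpec
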