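import Cfsg.Agent.Lib.SmallSpec.Almost
import Cfsg.Agent.S3992
import Cfsg.Agent.S0144

/-!
Non-solvable groups with element orders at most five, given their simple sections.
-/

set_option autoImplicit false
set_option linter.unusedSectionVars false
set_option linter.style.haveILetI false

namespace Cfsg.Agent.SmallSpec

universe u

/-- The simple groups of order below `n`. -/
def SimpleBelow (n : ℕ) : Prop :=
  ∀ (H : Type u) [Group H] [Finite H], Small H → IsSimpleGroup H → ¬ IsMulCommutative H →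
    Nat.card H < n → Nat.card H = 60 ∨ Nat.card H = 360

variable {G : Type u} [Group G] [Finite G]

theorem Small.isPPow (hS : Small G) : ∀ g : G, g ≠ 1 → IsPrimePow (orderOf g) :=
  fun g hg => hS.isPrimePow g hg

theorem Small.two_dvd (hS : Small G) (hns : ¬ Group.IsSolvable G) : 2 ∣ Nat.card G := by
  obtain ⟨a, b, c, h⟩ := hS.card_eq
  rcases Nat.eq_zero_or_pos a with rfl | ha
  · refine absurd (Cfsg.Agent.S0144.result (G := G) 3 5 b c Nat.prime_three (by norm_num) ?_) hns
    simpa using h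
  · rw [h, mul_assoc]
    exact dvd_mul_of_dvd_left (dvd_pow_self 2 ha.ne') _

/-- The largest solvable normal subgroup is a `2`-group. -/
theorem Small.radical_two (hS : Small G) (hns : ¬ Group.IsSolvable G) (R : Subgroup G) [R.Normal]
    [Group.IsSolvable R] (hmax : ∀ N : Subgroup G, N.Normal → Group.IsSolvable N → N ≤ R) :
    IsPGroup 2 R := by
  by_cases hR : R = ⊥
  · exact hR ▸ IsPGroup.of_bot
  obtain ⟨p, hp, hRp⟩ := S3992.radical_isPGroup hns hS.isPPow R
  by_contra h2
  have hp2 : p ≠ 2 := fun h => h2 (h ▸ hRp)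
  haveI := Fact.mk hp
  haveI : Nontrivial R := (Subgroup.nontrivial_iff_ne_bot R).2 hR
  obtain ⟨⟨y0, hy0⟩, hy1⟩ := exists_ne (1 : R)
  have hy0k : ∀ y ∈ R, ∃ k, y ^ p ^ k = 1 := fun y hy => by
    obtain ⟨k, hk⟩ := hRp ⟨y, hy⟩
    exact ⟨k, congrArg Subtype.val hk⟩
  have hodd : ∀ y ∈ R, Odd (orderOf y) := fun y hy => by
    obtain ⟨k, hk⟩ := hy0k y hy
    exact Odd.of_dvd_nat ((hp.odd_of_ne_two hp2).pow) (orderOf_dvd_of_pow_eq_one hk)
  have hinv : ∀ t : G, orderOf t = 2 → ∀ y ∈ R, t * y * t⁻¹ = y⁻¹ := by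
    intro t ht y hy
    obtain ⟨b, hb, hby⟩ := exists_conj_div (D := R) (r := t)
      (fun z hz => Subgroup.Normal.conj_mem inferInstance z hz t) (fun z hz hc => by
        by_contra hz1
        refine hS.not_commute (Invol.ne_one ht) hz1 hc ?_
        rw [ht]
        exact Nat.coprime_two_left.2 (hodd z hz)) y hy
    have hti : t⁻¹ = t := Invol.inv_self ht
    have htt := Invol.mul_self ht
    rw [← hby]
    calc t * (t * b * t⁻¹ * b⁻¹) * t⁻¹ = t * t * b * (t⁻¹ * b⁻¹ * t⁻¹) := by group
      _ = b * t * b⁻¹ * t⁻¹ := by rw [htt, hti]; group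
      _ = _ := by group
  have hC : ∀ c : G, (∀ y ∈ R, c * y * c⁻¹ = y) → c ∈ R := by
    intro c hc
    have hcC : c ∈ Subgroup.centralizer (R : Set G) := Subgroup.mem_centralizer_iff.2 fun y hy =>
      ((mul_inv_eq_iff_eq_mul.1 (hc y hy))).symm
    obtain ⟨k, hk⟩ := hy0k y0 hy0
    have hCp : IsPGroup p (Subgroup.centralizer (R : Set G)) :=
      (hS.isPGroup_centralizer hp (fun h => hy1 (Subtype.ext h)) hk).to_le
        (Subgroup.centralizer_le (Set.singleton_subset_iff.2 hy0))
    haveI := hCp.isNilpotent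
    exact hmax _ inferInstance inferInstance hcC
  obtain ⟨t, ht⟩ := exists_prime_orderOf_dvd_card' (p := 2) (hS.two_dvd hns)
  have hall : ∀ u : G, orderOf u = 2 → u * t ∈ R := fun u hu => hC _ fun y hy => by
    calc u * t * y * (u * t)⁻¹ = u * (t * y * t⁻¹) * u⁻¹ := by group
      _ = (u * y * u⁻¹)⁻¹ := by rw [hinv t ht y hy]; group
      _ = y := by rw [hinv u hu y hy, inv_inv]
  have hcent : (t : G ⧸ R) ∈ Subgroup.center (G ⧸ R) := by
    rw [Subgroup.mem_center_iff]
    intro x
    obtain ⟨g, rfl⟩ := QuotientGroup.mk'_surjective R x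
    have h := hall (g * t * g⁻¹) ((Invol.order_conj g t).trans ht)
    rw [← QuotientGroup.eq_one_iff] at h
    simp only [QuotientGroup.mk_mul, QuotientGroup.mk_inv, QuotientGroup.mk'_apply] at h ⊢
    have htt : (t : G ⧸ R) * t = 1 := by
      rw [← QuotientGroup.mk_mul, Invol.mul_self ht, QuotientGroup.mk_one]
    calc (g : G ⧸ R) * t = (g : G ⧸ R) * t * (g : G ⧸ R)⁻¹ * ((t : G ⧸ R) * t) * g := by
          rw [htt]; group
      _ = ((g : G ⧸ R) * t * (g : G ⧸ R)⁻¹ * t) * t * g := by group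
      _ = (t : G ⧸ R) * g := by rw [h, one_mul]
  set N := (Subgroup.center (G ⧸ R)).comap (QuotientGroup.mk' R) with hN
  have hNs : Group.IsSolvable N := by
    haveI : Group.IsSolvable (Subgroup.center (G ⧸ R)) :=
      Group.isSolvable_of_comm fun a b => Subtype.ext (Subgroup.mem_center_iff.1 b.2 a)
    refine Group.isSolvable_of_ker_le_range
      (Subgroup.inclusion (show R ≤ N from fun x hx => by
        rw [hN, Subgroup.mem_comap,
          show QuotientGroup.mk' R x = 1 from (QuotientGroup.eq_one_iff x).2 hx]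
        exact one_mem _))
      ((QuotientGroup.mk' R).subgroupComap (Subgroup.center (G ⧸ R))) ?_
    intro x hx
    have h1 : QuotientGroup.mk' R (x : G) = 1 := congrArg Subtype.val hx
    exact ⟨⟨x, (QuotientGroup.eq_one_iff _).1 h1⟩, Subtype.ext rfl⟩
  have htR : t ∈ R := hmax N (Subgroup.Normal.comap inferInstance _) hNs hcent
  have := hodd t htR
  rw [ht] at this
  exact absurd this (by decide)

/-- The structure of a non-solvable group, given the simple groups below. -/
theorem Small.structure_nonsolvable (hS : Small G) (hns : ¬ Group.IsSolvable G) {n : ℕ}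
    (hIH : SimpleBelow.{u} n) (hn : Nat.card G < n) :
    ∃ (R : Subgroup G) (_ : R.Normal), IsPGroup 2 R ∧ IsSimpleGroup (G ⧸ R) ∧
      ¬ IsMulCommutative (G ⧸ R) ∧
      (Nat.card (G ⧸ R) = 60 ∨ (Nat.card (G ⧸ R) = 360 ∧ R = ⊥)) := by
  classical
  haveI : Finite (Subgroup G) := BaerSuzuki.finite_subgroups
  obtain ⟨R, ⟨hRn, hRs⟩, hRmax⟩ := Set.Finite.exists_maximalFor (fun N : Subgroup G => Nat.card N)
    {N : Subgroup G | N.Normal ∧ Group.IsSolvable N} (Set.toFinite _)
    ⟨⊥, inferInstance, inferInstance⟩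
  haveI := hRn
  haveI := hRs
  have hmax : ∀ N : Subgroup G, N.Normal → Group.IsSolvable N → N ≤ R := by
    intro N hN hNs
    haveI := hNs
    have hsol := Components.isSolvable_sup R N (Subgroup.normalizer_eq_top R ▸ le_top)
    have hle : Nat.card (R ⊔ N : Subgroup G) ≤ Nat.card R :=
      hRmax ⟨Subgroup.sup_normal R N, hsol⟩ (Subgroup.card_le_of_le le_sup_left)
    exact (Subgroup.eq_of_le_of_card_ge le_sup_left hle).ge.trans' le_sup_right
  have hR2 := hS.radical_two hns R hmax
  haveI : Nontrivial (G ⧸ R) := by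
    rw [QuotientGroup.nontrivial_iff]
    intro h
    exact hns (Group.isSolvable_of_surjective (f := R.subtype) fun g => ⟨⟨g, h ▸ Subgroup.mem_top g⟩, rfl⟩)
  have hrad : ∀ N : Subgroup (G ⧸ R), N.Normal → Group.IsSolvable N → N = ⊥ := by
    intro N hN hNs
    haveI := hNs
    set f := QuotientGroup.mk' R
    have hsol : Group.IsSolvable (N.comap f) := by
      refine Group.isSolvable_of_ker_le_range
        (Subgroup.inclusion (show R ≤ N.comap f from fun x hx => by
          rw [Subgroup.mem_comap, show f x = 1 from (QuotientGroup.eq_one_iff x).2 hx]; exact N.one_mem)) (f.subgroupComap N) ?_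
      intro x hx
      have h1 : f (x : G) = 1 := congrArg Subtype.val hx
      exact ⟨⟨x, (QuotientGroup.eq_one_iff _).1 h1⟩, Subtype.ext rfl⟩
    have := hmax _ (hN.comap f) hsol
    rw [← Subgroup.map_comap_eq_self_of_surjective (QuotientGroup.mk'_surjective R) N, eq_bot_iff]
    rintro _ ⟨x, hx, rfl⟩
    exact Subgroup.mem_bot.2 ((QuotientGroup.eq_one_iff x).2 (this hx))
  have hSQ := hS.quotient R
  obtain ⟨M, hMn, hMs, hMc, hMmin⟩ := S3992.exists_simple_socle hSQ.isPPow hrad
  haveI := hMn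
  haveI := hMs
  have hcent : Subgroup.centralizer (M : Set (G ⧸ R)) = ⊥ := by
    by_contra hne
    have h := hMmin _ inferInstance hne
    exact hMc ⟨⟨fun a b => Subtype.ext ((Subgroup.mem_centralizer_iff.1 (h b.2)) a a.2)⟩⟩
  have hcard : Nat.card M = 60 ∨ Nat.card M = 360 := by
    refine hIH M (hSQ.subgroup M) hMs hMc (lt_of_le_of_lt ?_ hn)
    exact (Subgroup.card_le_card_group M).trans
      (Nat.le_of_dvd Nat.card_pos (Subgroup.card_quotient_dvd_card R))
  have htop := hSQ.eq_top_almost hcent hcard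
  subst htop
  haveI : IsSimpleGroup (G ⧸ R) :=
    IsSimpleGroup.isSimpleGroup_of_surjective (Subgroup.topEquiv (G := G ⧸ R)).toMonoidHom
      (Subgroup.topEquiv (G := G ⧸ R)).surjective
  have hnc : ¬ IsMulCommutative (G ⧸ R) := fun h =>
    hMc ⟨⟨fun a b => Subtype.ext (mul_comm' (a : G ⧸ R) b)⟩⟩
  rw [Subgroup.card_top] at hcard
  refine ⟨R, hRn, hR2, inferInstance, hnc, ?_⟩
  rcases hcard with h | h
  · exact Or.inl h
  refine Or.inr ⟨h, ?_⟩
  by_contra hR
  haveI : Fact (Nat.Prime 3) := ⟨Nat.prime_three⟩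
  obtain ⟨P⟩ : Nonempty (Sylow 3 G) := inferInstance
  have h9 : 3 ^ 2 ∣ Nat.card (P : Subgroup G) := P.pow_dvd_card_of_pow_dvd_card (by
    rw [Subgroup.card_eq_card_quotient_mul_card_subgroup R, h]
    exact dvd_mul_of_dvd_left (by norm_num) _)
  have h3 := hS.card_le_of_normalize hR2 hR Nat.prime_three (by norm_num) P.isPGroup'
    (Subgroup.normalizer_eq_top R ▸ le_top)
  exact absurd (h9.trans h3) (by norm_num)

end Cfsg.Agent.SmallSpec
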