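import Cfsg.Agent.Lib.SmallSpec.Elementary
import Cfsg.Agent.Lib.SmallSpec.Radical
import Cfsg.Agent.S1475

/-!
A normal `2`-subgroup which is the `2`-core, in a group with element orders at most five.
-/

set_option autoImplicit false
set_option linter.unusedSectionVars false
set_option linter.style.haveILetI false

namespace Cfsg.Agent.SmallSpec

universe u

variable {G : Type u} [Group G] [Finite G]

/-- A normal subgroup of a solvable group contains a nontrivial normal subgroup of prime exponent. -/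
theorem exists_normal_exponent [Group.IsSolvable G] [Nontrivial G] :
    ∃ (V : Subgroup G) (p : ℕ), p.Prime ∧ V.Normal ∧ V ≠ ⊥ ∧ IsPGroup p V := by
  obtain ⟨V, p, hp, hVn, hV, -, -, -, hVp, -⟩ :=
    SolvBasic.exists_minimal_normal_abelian (G := G) (N := (⊤ : Subgroup G)) inferInstance top_ne_bot
  exact ⟨V, p, hp, hVn, hV, hVp⟩

theorem Small.centralizer_le_core (hS : Small G) (D : Subgroup G) [D.Normal] (hD : IsPGroup 2 D)
    (hD1 : D ≠ ⊥) (hO2 : ∀ K : Subgroup G, K.Normal → IsPGroup 2 K → K ≤ D) :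
    Subgroup.centralizer (D : Set G) ≤ D := by
  haveI : Nontrivial D := (Subgroup.nontrivial_iff_ne_bot D).2 hD1
  obtain ⟨⟨z, hz⟩, hz1⟩ := exists_ne (1 : D)
  obtain ⟨k, hk⟩ := hD ⟨z, hz⟩
  exact hO2 _ inferInstance ((hS.isPGroup_centralizer Nat.prime_two (fun h => hz1 (Subtype.ext h))
    (congrArg Subtype.val hk : z ^ 2 ^ k = 1)).to_le
    (Subgroup.centralizer_le (Set.singleton_subset_iff.2 hz)))

section Core

variable (hS : Small G) (D : Subgroup G) [D.Normal] (hD : IsPGroup 2 D)
  (hO2 : ∀ K : Subgroup G, K.Normal → IsPGroup 2 K → K ≤ D)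

include hS hD hO2

/-- A quotient involution inverts an odd element. -/
theorem Small.quotient_inverts {a : G ⧸ D} (ha : orderOf a = 2) :
    ∃ x : G ⧸ D, (orderOf x = 3 ∨ orderOf x = 5) ∧ a * x * a⁻¹ = x⁻¹ := by
  refine (hS.quotient D).exists_inverts ha fun K hK hK2 haK => ?_
  have h2 : IsPGroup 2 (K.comap (QuotientGroup.mk' D)) :=
    hK2.comap_of_ker_isPGroup _ (by rw [QuotientGroup.ker_mk']; exact hD)
  obtain ⟨g, rfl⟩ := QuotientGroup.mk'_surjective D a
  have hg : g ∈ D := hO2 _ (hK.comap _) h2 haK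
  rw [show QuotientGroup.mk' D g = 1 from (QuotientGroup.eq_one_iff g).2 hg, orderOf_one] at ha
  omega

theorem Small.order_two_mk {u : G} (hu : u ∉ D) (hu2 : u * u ∈ D) : orderOf (u : G ⧸ D) = 2 :=
  orderOf_eq_prime (by rw [pow_two, ← QuotientGroup.mk_mul]; exact (QuotientGroup.eq_one_iff _).2 hu2)
    (fun h => hu ((QuotientGroup.eq_one_iff u).1 h))

/-- Each coset of order two contains an involution inverting an odd element. -/
theorem Small.exists_invol_lift {u : G} (hu : u ∉ D) (hu2 : u * u ∈ D) :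
    ∃ t r : G, orderOf t = 2 ∧ (orderOf r = 3 ∨ orderOf r = 5) ∧ t * r * t⁻¹ = r⁻¹ ∧ t⁻¹ * u ∈ D := by
  obtain ⟨x, hx, hux⟩ := Small.quotient_inverts hS D hD hO2 (Small.order_two_mk hS D hD hO2 hu hu2)
  obtain ⟨t, r, ht, hr, hinv, htu, -⟩ :=
    hS.exists_inverted D hD (Small.order_two_mk hS D hD hO2 hu hu2) hx hux
  exact ⟨t, r, ht, hr.symm ▸ hx, hinv, QuotientGroup.eq.1 htu⟩

theorem Small.core_exp_two (h2 : 2 ∣ Nat.card (G ⧸ D)) : ∀ d ∈ D, d * d = 1 := by
  obtain ⟨a, ha⟩ := exists_prime_orderOf_dvd_card' (p := 2) h2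
  obtain ⟨x, hx, hax⟩ := Small.quotient_inverts hS D hD hO2 ha
  obtain ⟨t, r, ht, hr, hinv, -, -⟩ := hS.exists_inverted D hD ha hx hax
  exact hS.exp_two D hD (hr.symm ▸ hx) ht hinv

/-- An element of order two modulo `D` centralizes half the rank of `D`. -/
theorem Small.card_fixed_core {u : G} (hu : u ∉ D) (hu2 : u * u ∈ D) :
    Nat.card (D ⊓ Subgroup.centralizer ({u} : Set G) : Subgroup G) *
      Nat.card (D ⊓ Subgroup.centralizer ({u} : Set G) : Subgroup G) = Nat.card D := by
  obtain ⟨t, r, ht, hr, hinv, htu⟩ := Small.exists_invol_lift hS D hD hO2 hu hu2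
  have h2 := hS.exp_two D hD hr ht hinv
  have heq : D ⊓ Subgroup.centralizer ({u} : Set G) = D ⊓ Subgroup.centralizer ({t} : Set G) := by
    ext z
    simp only [Subgroup.mem_inf, Subgroup.mem_centralizer_singleton_iff, and_congr_right_iff]
    intro hz
    have hc := commute_of_exp_two h2 hz htu
    constructor
    · intro h
      calc z * t = z * (u * (t⁻¹ * u)⁻¹) := by group
        _ = u * z * (t⁻¹ * u)⁻¹ := by rw [← mul_assoc, h]
        _ = u * ((t⁻¹ * u)⁻¹ * z) := by rw [mul_assoc, (show Commute z (t⁻¹ * u) from hc).inv_right.eq]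
        _ = t * z := by group
    · intro h
      calc z * u = z * (t * (t⁻¹ * u)) := by group
        _ = t * z * (t⁻¹ * u) := by rw [← mul_assoc, h]
        _ = t * ((t⁻¹ * u) * z) := by rw [mul_assoc, hc]
        _ = u * z := by group
  rw [heq]
  exact hS.card_fixed D hD hr ht hinv

/-- The possible quotients by the core. -/
theorem Small.core_cases (hD1 : D ≠ ⊥) (h2 : 2 ∣ Nat.card (G ⧸ D)) {n : ℕ} (hIH : SimpleBelow.{u} n)
    (hn : Nat.card (G ⧸ D) < n) :
    Nat.card (G ⧸ D) = 6 ∨ Nat.card (G ⧸ D) = 10 ∨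
      (IsSimpleGroup (G ⧸ D) ∧ ¬ IsMulCommutative (G ⧸ D) ∧ Nat.card (G ⧸ D) = 60) := by
  classical
  have hexp := Small.core_exp_two hS D hD hO2 h2
  have hQ2 : ∀ K : Subgroup (G ⧸ D), K.Normal → IsPGroup 2 K → K = ⊥ := by
    intro K hK hK2
    have h := hO2 _ (hK.comap (QuotientGroup.mk' D))
      (hK2.comap_of_ker_isPGroup _ (by rw [QuotientGroup.ker_mk']; exact hD))
    rw [← Subgroup.map_comap_eq_self_of_surjective (QuotientGroup.mk'_surjective D) K, eq_bot_iff]
    rintro _ ⟨x, hx, rfl⟩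
    exact Subgroup.mem_bot.2 ((QuotientGroup.eq_one_iff x).2 (h hx))
  have hSQ := hS.quotient D
  have hdvd : ∀ q : ℕ, q.Prime → q ≠ 2 → ¬ q ^ 2 ∣ Nat.card (G ⧸ D) := by
    intro q hq hq2 hdvd
    haveI := Fact.mk hq
    obtain ⟨P⟩ : Nonempty (Sylow q G) := inferInstance
    have h := P.pow_dvd_card_of_pow_dvd_card
      (hdvd.trans (Subgroup.card_quotient_dvd_card D))
    have h' := (h.trans (hS.card_le_of_normalize hD hD1 hq hq2 P.isPGroup'
      (Subgroup.normalizer_eq_top D ▸ le_top)))
    have := Nat.le_of_dvd hq.pos h'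
    rw [pow_two] at this
    nlinarith [hq.two_le]
  haveI : Nontrivial (G ⧸ D) := Finite.one_lt_card_iff_nontrivial.1
    (lt_of_lt_of_le one_lt_two (Nat.le_of_dvd Nat.card_pos h2))
  by_cases hsol : Group.IsSolvable (G ⧸ D)
  · haveI := hsol
    obtain ⟨K, q, hq, hKn, hK1, hKq⟩ := exists_normal_exponent (G := G ⧸ D)
    haveI := hKn
    haveI := Fact.mk hq
    have hq2 : q ≠ 2 := fun h => hK1 (hQ2 K hKn (h ▸ hKq))
    obtain ⟨k, hk⟩ := IsPGroup.iff_card.1 hKq
    have hk1 : k = 1 := by
      have h1 : k ≠ 0 := by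
        rintro rfl
        exact hK1 (Subgroup.card_eq_one.1 (by rw [hk, pow_zero]))
      by_contra h
      exact hdvd q hq hq2 ((pow_dvd_pow q (by omega : 2 ≤ k)).trans
        (hk ▸ Subgroup.card_subgroup_dvd_card K))
    subst hk1
    rw [pow_one] at hk
    have hq5 : q = 3 ∨ q = 5 := by
      rcases hSQ.prime_le hq (hk ▸ Subgroup.card_subgroup_dvd_card K) with h | h | h
      · exact absurd h hq2
      · exact Or.inl h
      · exact Or.inr h
    obtain ⟨i, e, he, hN, hC⟩ := hSQ.card_normalizer (p := q) K hk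
    rw [Subgroup.normalizer_eq_top, Subgroup.card_top] at hN
    have hi : i = 1 := by
      have h1 : q ∣ q ^ i := by
        rw [← hC]
        exact hk.symm.dvd.trans (Subgroup.card_dvd_of_le (Cfsg.Agent.Small.le_centralizer_self _ hk))
      rcases i with - | i
      · rw [pow_zero] at h1
        exact absurd (Nat.eq_one_of_dvd_one h1) hq.ne_one
      rcases i with - | i
      · rfl
      · exact absurd (hN ▸ dvd_mul_of_dvd_left (pow_dvd_pow q (by omega : 2 ≤ i + 2)) e) (hdvd q hq hq2)
    rw [hi, pow_one] at hN hC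
    rw [hN] at h2
    have he2 : 2 ∣ e := (Nat.prime_two.dvd_mul.1 h2).resolve_left fun h =>
      hq2 ((Nat.prime_dvd_prime_iff_eq Nat.prime_two hq).1 h).symm
    rcases hq5 with rfl | rfl
    · have : e = 2 := by
        have := Nat.le_of_dvd (by norm_num) he
        have := Nat.pos_of_dvd_of_pos he (by norm_num)
        omega
      exact Or.inl (by rw [hN, this])
    · have hcases : e = 2 ∨ e = 4 := by
        have := Nat.le_of_dvd (by norm_num) he
        have := Nat.pos_of_dvd_of_pos he (by norm_num)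
        interval_cases e <;> omega
      rcases hcases with rfl | rfl
      · exact Or.inr (Or.inl hN)
      exfalso
      -- an element of order four in the automorphism group
      haveI : IsCyclic K := isCyclic_of_prime_card (p := 5) hk
      obtain ⟨⟨x, hxK⟩, hx⟩ := IsCyclic.exists_ofOrder_eq_natCard (α := K)
      rw [Subgroup.orderOf_mk, hk] at hx
      have hcoset : ∀ g : G ⧸ D, ∃ m : Fin 5, g * x * g⁻¹ = x ^ (m : ℕ) := by
        intro g
        have hz : g * x * g⁻¹ ∈ Subgroup.zpowers x := by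
          have hKx : Subgroup.zpowers x = K := Subgroup.eq_of_le_of_card_ge
            (Subgroup.zpowers_le.2 hxK) (by rw [Nat.card_zpowers, hx, hk])
          rw [hKx]; exact hKn.conj_mem x hxK g
        obtain ⟨m, hm⟩ := mem_powers_iff_mem_zpowers.2 hz
        exact ⟨⟨m % 5, Nat.mod_lt _ (by norm_num)⟩, by
          show _ = x ^ (m % 5)
          rw [← hx, pow_mod_orderOf]; exact hm.symm⟩
      choose f hf using hcoset
      have hinj : ∀ g g', f g = f g' → g⁻¹ * g' ∈ Subgroup.centralizer (K : Set (G ⧸ D)) := by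
        intro g g' h
        have he : g * x * g⁻¹ = g' * x * g'⁻¹ := by rw [hf, hf, h]
        have hc : Commute (g⁻¹ * g') x := by
          refine mul_inv_eq_iff_eq_mul.1 ?_
          calc g⁻¹ * g' * x * (g⁻¹ * g')⁻¹ = g⁻¹ * (g' * x * g'⁻¹) * g := by group
            _ = x := by rw [← he]; group
        rw [Subgroup.mem_centralizer_iff]
        intro y hy
        have hKx : Subgroup.zpowers x = K := Subgroup.eq_of_le_of_card_ge
          (Subgroup.zpowers_le.2 hxK) (by rw [Nat.card_zpowers, hx, hk])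
        obtain ⟨m, rfl⟩ := Subgroup.mem_zpowers_iff.1 (hKx.ge hy)
        exact ((hc.symm).zpow_left m).eq
      obtain ⟨g, hg⟩ : ∃ g, f g = 2 := by
        by_contra hcon
        push Not at hcon
        have h0 : ∀ g, f g ≠ 0 := fun g h => by
          have := hf g
          rw [h, Fin.val_zero, pow_zero, conj_eq_one_iff] at this
          rw [this, orderOf_one] at hx
          omega
        set C := Subgroup.centralizer (K : Set (G ⧸ D))
        let F : (G ⧸ D) ⧸ C → {m : Fin 5 // m ≠ 0 ∧ m ≠ 2} :=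
          fun c => ⟨f c.out, h0 _, hcon _⟩
        have hFi : Function.Injective F := by
          intro a b h
          rw [← QuotientGroup.out_eq' a, ← QuotientGroup.out_eq' b]
          exact QuotientGroup.eq.2 (hinj _ _ (congrArg Subtype.val h))
        have h4 := Nat.card_le_card_of_injective F hFi
        have h := Subgroup.card_eq_card_quotient_mul_card_subgroup C
        rw [hN, hC] at h
        rw [Nat.card_eq_fintype_card (α := {m : Fin 5 // m ≠ 0 ∧ m ≠ 2}),
          show Fintype.card {m : Fin 5 // m ≠ 0 ∧ m ≠ 2} = 3 from by decide] at h4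
        change 5 * 4 = Nat.card ((G ⧸ D) ⧸ C) * 5 at h
        omega
      obtain ⟨y, rfl⟩ := QuotientGroup.mk'_surjective D g
      obtain ⟨r, rfl⟩ := QuotientGroup.mk'_surjective D x
      have hr : orderOf r = 5 := hS.orderOf_lift (QuotientGroup.mk' D) (Or.inr rfl) hx
      have h := hf (QuotientGroup.mk' D y)
      rw [hg] at h
      have hmem : y * r * y⁻¹ * (r ^ 2)⁻¹ ∈ D := by
        rw [← QuotientGroup.eq_one_iff]
        simp only [QuotientGroup.mk'_apply] at h
        simp [h]
      obtain ⟨t, -, ht⟩ := hS.exists_lift D hD (Or.inr hr) hmem (by rw [hr]; norm_num)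
      exact hS.not_square D hD hexp hD1 hr ht
  · right; right
    obtain ⟨R, hR, hR2, hsimp, hnc, hc⟩ := hSQ.structure_nonsolvable hsol hIH hn
    obtain rfl := hQ2 R hR hR2
    have e : (G ⧸ D) ⧸ (⊥ : Subgroup (G ⧸ D)) ≃* G ⧸ D := QuotientGroup.quotientBot
    haveI := hsimp
    refine ⟨IsSimpleGroup.isSimpleGroup_of_surjective e.toMonoidHom e.surjective, fun h => hnc
      ⟨⟨fun a b => e.injective (by rw [map_mul, map_mul]; exact mul_comm' _ _)⟩⟩, ?_⟩
    rw [← Nat.card_congr e.toEquiv]
    rcases hc with h | ⟨h, -⟩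
    · exact h
    · refine absurd ?_ (hdvd 3 Nat.prime_three (by norm_num))
      rw [← Nat.card_congr e.toEquiv, h]
      norm_num

end Core

end Cfsg.Agent.SmallSpec
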