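import Cfsg.Agent.Lib.SmallSpec.Special
import Cfsg.Agent.Lib.Involutions.Counting
import Mathlib.Data.Set.Card

/-!
Counting pairs of involutions when the core has order sixteen.
-/

set_option autoImplicit false
set_option linter.unusedSectionVars false
set_option linter.style.haveILetI false

namespace Cfsg.Agent.SmallSpec

universe u

theorem arith_table : ∀ i : Fin 7, ∀ j : Fin 5, ∀ a ∈ ([0, 1, 2, 4, 8, 16, 32] : List ℕ),
    ∀ b ∈ ([0, 1, 2, 4, 8, 16, 32] : List ℕ), 1 ≤ (i : ℕ) → 1 ≤ (j : ℕ) →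
      (a = 0 ∨ 64 ≤ a * (3 ^ (i : ℕ) - 1)) → (b = 0 ∨ 64 ≤ b * (5 ^ (j : ℕ) - 1)) →
      3 ^ (i : ℕ) * 5 ^ (j : ℕ) ≠ 123 + a * (3 ^ (i : ℕ) - 1) + b * (5 ^ (j : ℕ) - 1) := by
  decide +kernel

theorem arith_none {i j a b : ℕ} (hi : 1 ≤ i) (hj : 1 ≤ j)
    (ha : a ∈ ([0, 1, 2, 4, 8, 16, 32] : List ℕ)) (hb : b ∈ ([0, 1, 2, 4, 8, 16, 32] : List ℕ))
    (ha' : a = 0 ∨ 64 ≤ a * (3 ^ i - 1)) (hb' : b = 0 ∨ 64 ≤ b * (5 ^ j - 1)) :
    3 ^ i * 5 ^ j ≠ 123 + a * (3 ^ i - 1) + b * (5 ^ j - 1) := by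
  intro h
  have ha32 : a ≤ 32 := by simp at ha; omega
  have hb32 : b ≤ 32 := by simp at hb; omega
  suffices hij : i < 7 ∧ j < 5 from arith_table ⟨i, hij.1⟩ ⟨j, hij.2⟩ a ha b hb hi hj ha' hb' h
  have hP : 3 ≤ 3 ^ i := le_self_pow (by norm_num) (by omega)
  have hQ : 5 ≤ 5 ^ j := le_self_pow (by norm_num) (by omega)
  have hA : a * (3 ^ i - 1) ≤ 32 * (3 ^ i - 1) := Nat.mul_le_mul_right _ ha32
  have hB : b * (5 ^ j - 1) ≤ 32 * (5 ^ j - 1) := Nat.mul_le_mul_right _ hb32
  by_cases hi4 : i < 4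
  · have hP' : 3 ^ i ≤ 27 := (Nat.pow_le_pow_right (by norm_num) (by omega : i ≤ 3)).trans (by norm_num)
    refine ⟨by omega, ?_⟩
    by_contra hj5
    have hQ5 : 3125 ≤ 5 ^ j := le_trans (by norm_num) (Nat.pow_le_pow_right (by norm_num) (by omega : 5 ≤ j))
    rcases Nat.lt_or_ge b (3 ^ i) with hbP | hbP
    · have : b * (5 ^ j - 1) + (5 ^ j - 1) ≤ 3 ^ i * (5 ^ j - 1) := by
        rw [← Nat.succ_mul]; exact Nat.mul_le_mul_right _ hbP
      have e : 3 ^ i * (5 ^ j - 1) + 3 ^ i = 3 ^ i * 5 ^ j := by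
        rw [← Nat.mul_succ]; congr 1; omega
      omega
    · have : 3 ^ i * (5 ^ j - 1) ≤ b * (5 ^ j - 1) := Nat.mul_le_mul_right _ hbP
      have e : 3 ^ i * (5 ^ j - 1) + 3 ^ i = 3 ^ i * 5 ^ j := by
        rw [← Nat.mul_succ]; congr 1; omega
      omega
  have hP81 : 81 ≤ 3 ^ i := le_trans (by norm_num) (Nat.pow_le_pow_right (by norm_num) (by omega : 4 ≤ i))
  by_cases hj3 : j < 3
  · have hQ' : 5 ^ j ≤ 25 := (Nat.pow_le_pow_right (by norm_num) (by omega : j ≤ 2)).trans (by norm_num)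
    refine ⟨?_, by omega⟩
    by_contra hi7
    have hP7 : 2187 ≤ 3 ^ i := le_trans (by norm_num) (Nat.pow_le_pow_right (by norm_num) (by omega : 7 ≤ i))
    have e : (3 ^ i - 1) * 5 ^ j + 5 ^ j = 3 ^ i * 5 ^ j := by
      rw [← Nat.succ_mul]; congr 1; omega
    rcases Nat.lt_or_ge a (5 ^ j) with haQ | haQ
    · have : a * (3 ^ i - 1) + (3 ^ i - 1) ≤ 5 ^ j * (3 ^ i - 1) := by
        rw [← Nat.succ_mul]; exact Nat.mul_le_mul_right _ haQ
      rw [mul_comm (5 ^ j)] at this
      omega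
    · have : 5 ^ j * (3 ^ i - 1) ≤ a * (3 ^ i - 1) := Nat.mul_le_mul_right _ haQ
      rw [mul_comm (5 ^ j)] at this
      omega
  exfalso
  have hQ125 : 125 ≤ 5 ^ j := le_trans (by norm_num) (Nat.pow_le_pow_right (by norm_num) (by omega : 3 ≤ j))
  have h1 := Nat.mul_le_mul hP81 hQ125
  have h2 := Nat.mul_le_mul_right (5 ^ j) hP81
  have h3 := Nat.mul_le_mul_left (3 ^ i) hQ125
  omega

variable {G : Type u} [Group G] [Finite G] {D E T : Subgroup G} {r : G}

theorem conj_commute {g x y : G} (h : x * y = y * x) :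
    g * x * g⁻¹ * (g * y * g⁻¹) = g * y * g⁻¹ * (g * x * g⁻¹) := by
  calc g * x * g⁻¹ * (g * y * g⁻¹) = g * (x * y) * g⁻¹ := by group
    _ = g * (y * x) * g⁻¹ := by rw [h]
    _ = _ := by group

theorem card_pairs_conj (g x : G) :
    Nat.card (Invol.Pairs (g * x * g⁻¹)) = Nat.card (Invol.Pairs x) := by
  refine (Nat.card_congr (((MulAut.conj g).toEquiv.prodCongr (MulAut.conj g).toEquiv).subtypeEquiv ?_)).symm
  rintro ⟨s, t⟩
  show _ ↔ orderOf (g * s * g⁻¹) = 2 ∧ orderOf (g * t * g⁻¹) = 2 ∧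
    g * s * g⁻¹ * (g * t * g⁻¹) = g * x * g⁻¹
  rw [Invol.order_conj, Invol.order_conj, show g * s * g⁻¹ * (g * t * g⁻¹) = g * (s * t) * g⁻¹ by group,
    mul_left_inj, mul_right_inj]

/-- Pairs of involutions whose product squares to `w`. -/
abbrev Quads (w : G) : Type _ :=
  {p : G × G // orderOf p.1 = 2 ∧ orderOf p.2 = 2 ∧ p.1 * p.2 * (p.1 * p.2) = w}

theorem card_quads_conj (g w : G) : Nat.card (Quads (g * w * g⁻¹)) = Nat.card (Quads w) := by
  refine (Nat.card_congr (((MulAut.conj g).toEquiv.prodCongr (MulAut.conj g).toEquiv).subtypeEquiv ?_)).symm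
  rintro ⟨s, t⟩
  show _ ↔ orderOf (g * s * g⁻¹) = 2 ∧ orderOf (g * t * g⁻¹) = 2 ∧
    g * s * g⁻¹ * (g * t * g⁻¹) * (g * s * g⁻¹ * (g * t * g⁻¹)) = g * w * g⁻¹
  rw [Invol.order_conj, Invol.order_conj,
    show g * s * g⁻¹ * (g * t * g⁻¹) * (g * s * g⁻¹ * (g * t * g⁻¹)) = g * (s * t * (s * t)) * g⁻¹ by group,
    mul_left_inj, mul_right_inj]

/-- The contribution of the elements of odd prime order. -/
theorem Small.odd_contribution [Fintype G] (hS : Small G) {p k : ℕ} (hp : p.Prime) (hp3 : 3 ≤ p)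
    (hk : (Nat.card G).factorization p = k) {I : ℕ} (hI : 64 * I = Nat.card G)
    (hC : ∀ s : G, orderOf s = 2 → Nat.card (Subgroup.centralizer ({s} : Set G)) = 64) :
    ∃ a ∈ ([0, 1, 2, 4, 8, 16, 32] : List ℕ), (a = 0 ∨ 64 ≤ a * (p ^ k - 1)) ∧
      ∑ x ∈ Finset.univ.filter (fun x : G => orderOf x = p), Nat.card (Invol.Pairs x) =
        a * I * (p ^ k - 1) := by
  classical
  haveI := Fact.mk hp
  by_cases hreal : ∀ x : G, orderOf x = p → Nat.card (Invol.Pairs x) = 0
  · exact ⟨0, by simp, Or.inl rfl, by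
      rw [Finset.sum_eq_zero fun x hx => hreal x (Finset.mem_filter.1 hx).2]; simp⟩
  push Not at hreal
  obtain ⟨x, hxo, hx⟩ := hreal
  obtain ⟨pr⟩ : Nonempty (Invol.Pairs x) := (Nat.card_ne_zero.1 hx).1
  set s := pr.1.1 with hs
  have hso : orderOf s = 2 := pr.2.1
  have hsx : s * x * s⁻¹ = x⁻¹ := Invol.pair_fst_inverts pr
  have hx1 : x ≠ 1 := fun h => by rw [h, orderOf_one] at hxo; omega
  have hcop : ∀ y : G, (∃ n, y ^ p ^ n = 1) → Commute s y → y = 1 := by
    rintro y ⟨n, hn⟩ hc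
    by_contra hy
    refine hS.not_commute (Invol.ne_one hso) hy hc ?_
    rw [hso]
    obtain ⟨i, -, hi⟩ := (Nat.dvd_prime_pow hp).1 (orderOf_dvd_of_pow_eq_one hn)
    rw [hi]
    exact Nat.coprime_two_left.2 ((hp.odd_of_ne_two (by omega)).pow)
  have hC' : ∀ y : G, y ≠ 1 → (∃ n, y ^ p ^ n = 1) →
      IsPGroup p (Subgroup.centralizer ({y} : Set G)) := by
    rintro y hy ⟨n, hn⟩
    exact hS.isPGroup_centralizer hp hy hn
  have hinv : ∀ y : G, y ≠ 1 → (∃ n, y ^ p ^ n = 1) → s * y * s⁻¹ = y⁻¹ →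
      ∀ c ∈ Subgroup.centralizer ({y} : Set G), s * c * s⁻¹ = c⁻¹ := by
    intro y hy hyp hsy c hc
    have hstab : ∀ b ∈ Subgroup.centralizer ({y} : Set G), s * b * s⁻¹ ∈ Subgroup.centralizer ({y} : Set G) := by
      intro b hb
      rw [Subgroup.mem_centralizer_singleton_iff] at hb ⊢
      have hb' : b * y⁻¹ = y⁻¹ * b := (Commute.inv_right hb).eq
      have := conj_commute (g := s) hb'
      rwa [show s * y⁻¹ * s⁻¹ = (s * y * s⁻¹)⁻¹ by group, hsy, inv_inv] at this
    have hfix : ∀ b ∈ Subgroup.centralizer ({y} : Set G), Commute s b → b = 1 := fun b hb hbc => by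
      obtain ⟨n, hn⟩ := hC' y hy hyp ⟨b, hb⟩
      exact hcop b ⟨n, congrArg Subtype.val hn⟩ hbc
    obtain ⟨b, hb, rfl⟩ := exists_conj_div hstab hfix c hc
    have hss : s⁻¹ = s := Invol.inv_self hso
    have hs2 := Invol.mul_self hso
    calc s * (s * b * s⁻¹ * b⁻¹) * s⁻¹ = s * s * b * (s⁻¹ * b⁻¹ * s⁻¹) := by group
      _ = b * s * b⁻¹ * s⁻¹ := by rw [hs2, hss]; group
      _ = _ := by group
  have habel : ∀ y : G, y ≠ 1 → (∃ n, y ^ p ^ n = 1) → s * y * s⁻¹ = y⁻¹ →
      ∀ c ∈ Subgroup.centralizer ({y} : Set G), ∀ d ∈ Subgroup.centralizer ({y} : Set G),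
        c * d = d * c := by
    intro y hy hyp hsy c hc d hd
    have e := hinv y hy hyp hsy _ (mul_mem hc hd)
    rw [show s * (c * d) * s⁻¹ = s * c * s⁻¹ * (s * d * s⁻¹) by group, hinv y hy hyp hsy c hc,
      hinv y hy hyp hsy d hd] at e
    have := congrArg (·⁻¹) e
    simpa using this.symm
  -- the centralizer is a Sylow subgroup
  have hxp : ∃ n, x ^ p ^ n = 1 := ⟨1, by rw [pow_one, ← hxo, pow_orderOf_eq_one]⟩
  obtain ⟨Q, hCQ⟩ := (hC' x hx1 hxp).exists_le_sylow
  have hxC : x ∈ Subgroup.centralizer ({x} : Set G) := Subgroup.mem_centralizer_singleton_iff.2 rfl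
  haveI : Nontrivial (Q : Subgroup G) :=
    ⟨⟨⟨x, hCQ hxC⟩, 1, fun h => hx1 (congrArg Subtype.val h)⟩⟩
  haveI := Q.isPGroup'.center_nontrivial
  obtain ⟨⟨⟨y, hyQ⟩, hyc⟩, hy1⟩ := exists_ne (1 : Subgroup.center (Q : Subgroup G))
  have hy1 : y ≠ 1 := fun h => hy1 (Subtype.ext (Subtype.ext h))
  have hycom : ∀ q ∈ (Q : Subgroup G), q * y = y * q := fun q hq =>
    congrArg Subtype.val (Subgroup.mem_center_iff.1 hyc ⟨q, hq⟩)
  have hQp : ∀ q ∈ (Q : Subgroup G), ∃ n, q ^ p ^ n = 1 := fun q hq => by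
    obtain ⟨n, hn⟩ := Q.isPGroup' ⟨q, hq⟩
    exact ⟨n, congrArg Subtype.val hn⟩
  have hyC : y ∈ Subgroup.centralizer ({x} : Set G) :=
    Subgroup.mem_centralizer_singleton_iff.2 (hycom x (hCQ hxC)).symm
  have hsy : s * y * s⁻¹ = y⁻¹ := hinv x hx1 hxp hsx y hyC
  have hQC : Subgroup.centralizer ({x} : Set G) = (Q : Subgroup G) := by
    refine le_antisymm hCQ fun q hq => Subgroup.mem_centralizer_singleton_iff.2 ?_
    exact habel y hy1 (hQp y hyQ) hsy q (Subgroup.mem_centralizer_singleton_iff.2 (hycom q hq))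
      x (Subgroup.mem_centralizer_singleton_iff.2 (hycom x (hCQ hxC)))
  have hQinv : ∀ q ∈ (Q : Subgroup G), s * q * s⁻¹ = q⁻¹ := fun q hq =>
    hinv x hx1 hxp hsx q (hQC.ge hq)
  have hQC' : ∀ q ∈ (Q : Subgroup G), q ≠ 1 → Subgroup.centralizer ({q} : Set G) = (Q : Subgroup G) :=
    fun q hq hq1 => Q.3 (hC' q hq1 (hQp q hq)) fun w hw => Subgroup.mem_centralizer_singleton_iff.2
      (habel x hx1 hxp hsx w (hQC.ge hw) q (hQC.ge hq))
  have hsQ : s ∉ (Q : Subgroup G) := fun h =>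
    Invol.ne_one hso (hcop s (hQp s h) (Commute.refl s))
  have hQo : ∀ q ∈ (Q : Subgroup G), q ≠ 1 → orderOf q = p := by
    intro q hq hq1
    obtain ⟨n, hn⟩ := hQp q hq
    obtain ⟨i, -, hi⟩ := (Nat.dvd_prime_pow hp).1 (orderOf_dvd_of_pow_eq_one hn)
    have h5 := hS q
    rcases i with - | - | i
    · exact absurd (orderOf_eq_one_iff.1 (by rw [hi, pow_zero])) hq1
    · rw [hi, pow_one]
    · exfalso
      have : 3 ^ 2 ≤ p ^ (i + 1 + 1) := (Nat.pow_le_pow_left hp3 2).trans (Nat.pow_le_pow_right hp.pos (by omega))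
      omega
  have hQk : Nat.card (Q : Subgroup G) = p ^ k := by rw [Q.card_eq_multiplicity, hk]
  have hPq : ∀ q ∈ (Q : Subgroup G), q ≠ 1 → Nat.card (Invol.Pairs q) = p ^ k := by
    intro q hq hq1
    have hq2 : q ^ 2 ≠ 1 := fun h => by
      have := Nat.le_of_dvd (by norm_num) (orderOf_dvd_of_pow_eq_one h)
      rw [hQo q hq hq1] at this
      omega
    rw [Invol.card_pairs_eq_inverting q hq2, ← hQk, ← hQC' q hq hq1,
      ← Invol.card_inverting_eq q s (hQinv q hq)]
    refine Nat.card_congr (Equiv.subtypeEquivRight fun g => ⟨fun h => h.2, fun h => ⟨?_, h⟩⟩)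
    have hc : s⁻¹ * g ∈ (Q : Subgroup G) := by
      rw [← hQC' q hq hq1, Subgroup.mem_centralizer_singleton_iff]
      calc s⁻¹ * g * q = s⁻¹ * (g * q * g⁻¹) * g := by group
        _ = s⁻¹ * (s * q * s⁻¹) * g := by rw [h, hQinv q hq]
        _ = _ := by group
    refine Invol.order_two_of_sq ?_ fun h1 => hsQ ?_
    · have := Invol.mul_inverted_sq hso (hQinv _ hc)
      rwa [mul_inv_cancel_left] at this
    · rw [h1, mul_one] at hc
      simpa using inv_mem hc
  -- all elements of order `p` are conjugate into `Q`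
  have hall : ∀ x' : G, orderOf x' = p → ∃ g, ∃ q ∈ (Q : Subgroup G), q ≠ 1 ∧ x' = g * q * g⁻¹ := by
    intro x' hx'
    obtain ⟨R, hR⟩ := (IsPGroup.of_card (n := 1) (by rw [Nat.card_zpowers, hx', pow_one]) :
      IsPGroup p (Subgroup.zpowers x')).exists_le_sylow
    obtain ⟨g, hg⟩ := MulAction.exists_smul_eq G R Q
    refine ⟨g⁻¹, g * x' * g⁻¹, ?_, ?_, by group⟩
    · rw [← hg, Sylow.coe_subgroup_smul]
      exact Subgroup.smul_mem_pointwise_smul _ (MulAut.conj g) _ (hR (Subgroup.mem_zpowers x'))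
    · rw [Ne, conj_eq_one_iff]
      exact fun h => by rw [h, orderOf_one] at hx'; omega
  have hsum : ∑ x ∈ Finset.univ.filter (fun x : G => orderOf x = p), Nat.card (Invol.Pairs x) =
      Nat.card {x : G // orderOf x = p} * p ^ k := by
    rw [Finset.sum_congr rfl (g := fun _ => p ^ k), Finset.sum_const, smul_eq_mul,
      Nat.card_eq_fintype_card, Fintype.card_subtype]
    intro x' hx'
    obtain ⟨g, q, hq, hq1, rfl⟩ := hall x' (Finset.mem_filter.1 hx').2
    rw [card_pairs_conj, hPq q hq hq1]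
  set N := Subgroup.normalizer ((Q : Subgroup G) : Set G) with hN
  have hX : Nat.card {x : G // orderOf x = p} = N.index * (p ^ k - 1) := by
    have h1 : Nat.card {q : (Q : Subgroup G) // q ≠ 1} = p ^ k - 1 := by
      haveI := Fintype.ofFinite (Q : Subgroup G)
      rw [Nat.card_eq_fintype_card, Fintype.card_subtype_compl, Fintype.card_subtype_eq,
        ← Nat.card_eq_fintype_card, hQk]
    rw [← h1, Subgroup.index, ← Nat.card_prod]
    refine (Nat.card_congr (Equiv.ofBijective (fun w : (G ⧸ N) × {q : (Q : Subgroup G) // q ≠ 1} =>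
      (⟨w.1.out * w.2.1 * w.1.out⁻¹, by
        rw [Invol.order_conj]
        exact hQo _ w.2.1.2 fun h => w.2.2 (Subtype.ext h)⟩ : {x : G // orderOf x = p})) ⟨?_, ?_⟩)).symm
    · rintro ⟨a, ⟨⟨q, hq⟩, hq1⟩⟩ ⟨b, ⟨⟨w, hw⟩, hw1⟩⟩ h
      have h' : a.out * q * a.out⁻¹ = b.out * w * b.out⁻¹ := congrArg Subtype.val h
      have hq1' : q ≠ 1 := fun e => hq1 (Subtype.ext e)
      have hw1' : w ≠ 1 := fun e => hw1 (Subtype.ext e)
      set n := b.out⁻¹ * a.out with hn
      have hnq : n * q * n⁻¹ = w := by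
        calc n * q * n⁻¹ = b.out⁻¹ * (a.out * q * a.out⁻¹) * b.out := by rw [hn]; group
          _ = w := by rw [h']; group
      have hnN : n ∈ N := by
        rw [hN, Subgroup.mem_normalizer_iff_map_conj_eq]
        refine Subgroup.eq_of_le_of_card_ge ?_ (card_conjBy n (Q : Subgroup G)).ge
        rintro _ ⟨v, hv, rfl⟩
        show n * v * n⁻¹ ∈ (Q : Subgroup G)
        rw [← hQC' w hw hw1', Subgroup.mem_centralizer_singleton_iff, ← hnq]
        exact conj_commute (habel x hx1 hxp hsx v (hQC.ge hv) q (hQC.ge hq))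
      obtain rfl : a = b := by
        rw [← QuotientGroup.out_eq' a, ← QuotientGroup.out_eq' b]
        exact QuotientGroup.eq.2 (by simpa [hn] using inv_mem hnN)
      obtain rfl : q = w := mul_left_cancel (mul_right_cancel h')
      rfl
    · rintro ⟨x', hx'⟩
      obtain ⟨g, q, hq, hq1, rfl⟩ := hall x' hx'
      set a : G ⧸ N := (g : G ⧸ N) with ha
      have hn : a.out⁻¹ * g ∈ N := QuotientGroup.eq.1 (QuotientGroup.out_eq' a)
      refine ⟨⟨a, ⟨⟨a.out⁻¹ * g * q * (a.out⁻¹ * g)⁻¹, (Subgroup.mem_normalizer_iff.1 hn q).1 hq⟩,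
        fun e => hq1 (conj_eq_one_iff.1 (congrArg Subtype.val e))⟩⟩, Subtype.ext ?_⟩
      show a.out * (a.out⁻¹ * g * q * (a.out⁻¹ * g)⁻¹) * a.out⁻¹ = g * q * g⁻¹
      group
  set H := N ⊓ Subgroup.centralizer ({s} : Set G) with hH
  have hQN : (Q : Subgroup G) ≤ N := Subgroup.le_normalizer
  have hfree : ∀ q ∈ (Q : Subgroup G), q ∈ H → q = 1 := fun q hq hqH =>
    hcop q (hQp q hq) (Subgroup.mem_centralizer_singleton_iff.1 hqH.2).symm
  have hsN : s ∈ N := by
    rw [hN, Subgroup.mem_normalizer_iff_map_conj_eq]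
    refine Subgroup.eq_of_le_of_card_ge ?_ (card_conjBy s (Q : Subgroup G)).ge
    rintro _ ⟨v, hv, rfl⟩
    show s * v * s⁻¹ ∈ (Q : Subgroup G)
    rw [hQinv v hv]
    exact inv_mem hv
  have hNc : Nat.card N = p ^ k * Nat.card H := by
    rw [← hQk, ← Nat.card_prod]
    refine (Nat.card_congr (Equiv.ofBijective (fun w : ↥(Q : Subgroup G) × ↥H =>
      (⟨w.1 * w.2, mul_mem (hQN w.1.2) (Subgroup.mem_inf.1 w.2.2).1⟩ : N)) ⟨?_, ?_⟩)).symm
    · rintro ⟨q, h⟩ ⟨q', h'⟩ e
      have e' : (q : G) * h = q' * h' := congrArg Subtype.val e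
      have hm : (q' : G)⁻¹ * q = h' * (h : G)⁻¹ := by
        calc (q' : G)⁻¹ * q = (q' : G)⁻¹ * (q * h) * (h : G)⁻¹ := by group
          _ = _ := by rw [e']; group
      have h1 := hfree _ (mul_mem (inv_mem q'.2) q.2) (hm ▸ mul_mem h'.2 (inv_mem h.2))
      obtain rfl : q' = q := Subtype.ext (inv_mul_eq_one.1 h1)
      exact Prod.ext rfl (Subtype.ext (mul_left_cancel e'))
    · rintro ⟨n, hn⟩
      set t := n * s * n⁻¹ with ht
      have hnQ : ∀ v ∈ (Q : Subgroup G), n⁻¹ * v * n ∈ (Q : Subgroup G) := fun v hv => by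
        simpa using (Subgroup.mem_normalizer_iff.1 (inv_mem hn) v).1 hv
      have hw : s⁻¹ * t ∈ (Q : Subgroup G) := by
        rw [← hQC, Subgroup.mem_centralizer_singleton_iff]
        have htx : t * x * t⁻¹ = x⁻¹ := by
          have h1 := hQinv _ (hnQ x (hCQ hxC))
          calc t * x * t⁻¹ = n * (s * (n⁻¹ * x * n) * s⁻¹) * n⁻¹ := by rw [ht]; group
            _ = x⁻¹ := by rw [h1]; group
        calc s⁻¹ * t * x = s⁻¹ * (t * x * t⁻¹) * t := by group
          _ = s⁻¹ * (s * x * s⁻¹) * t := by rw [htx, hsx]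
          _ = _ := by group
      set w := s⁻¹ * t with hwdef
      have hwodd : Odd (orderOf w) := by
        by_cases h1 : w = 1
        · simp [h1]
        · rw [hQo w hw h1]; exact hp.odd_of_ne_two (by omega)
      obtain ⟨m, hm⟩ := Invol.exists_sqrt hwodd
      set c := (w ^ m)⁻¹ with hc
      have hcQ : c ∈ (Q : Subgroup G) := inv_mem (pow_mem hw m)
      have hct : c * s * c⁻¹ = t := by
        have h1 : s * c * s⁻¹ = c⁻¹ := hQinv c hcQ
        calc c * s * c⁻¹ = s * (s⁻¹ * c * s) * c⁻¹ := by group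
          _ = s * (s * c * s⁻¹) * c⁻¹ := by rw [Invol.inv_self hso]
          _ = s * ((w ^ m) ^ 2) := by rw [h1, hc, inv_inv, pow_two, mul_assoc]
          _ = t := by rw [hm, hwdef]; group
      have hH' : c⁻¹ * n ∈ H := by
        refine ⟨N.mul_mem (N.inv_mem (hQN hcQ)) hn, Subgroup.mem_centralizer_singleton_iff.2 ?_⟩
        calc c⁻¹ * n * s = c⁻¹ * t * n := by rw [ht]; group
          _ = _ := by rw [← hct]; group
      exact ⟨(⟨c, hcQ⟩, ⟨_, hH'⟩), Subtype.ext (mul_inv_cancel_left c n)⟩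
  obtain ⟨a, ha⟩ : Nat.card H ∣ 64 := hC s hso ▸ Subgroup.card_dvd_of_le inf_le_right
  have hsH : s ∈ H := ⟨hsN, Subgroup.mem_centralizer_singleton_iff.2 rfl⟩
  have hH2 : 2 ≤ Nat.card H := by
    haveI : Nontrivial H := ⟨⟨⟨s, hsH⟩, 1, fun h => Invol.ne_one hso (congrArg Subtype.val h)⟩⟩
    exact Finite.one_lt_card
  have hHP : Nat.card H ≤ p ^ k - 1 := by
    have h1 : Nat.card {q : (Q : Subgroup G) // q ≠ 1} = p ^ k - 1 := by
      haveI := Fintype.ofFinite (Q : Subgroup G)
      rw [Nat.card_eq_fintype_card, Fintype.card_subtype_compl, Fintype.card_subtype_eq,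
        ← Nat.card_eq_fintype_card, hQk]
    rw [← h1]
    refine Nat.card_le_card_of_injective (fun h : H =>
      (⟨⟨h * x * (h : G)⁻¹, (Subgroup.mem_normalizer_iff.1 (Subgroup.mem_inf.1 h.2).1 x).1 (hCQ hxC)⟩,
        fun e => hx1 (conj_eq_one_iff.1 (congrArg Subtype.val e))⟩ :
          {q : (Q : Subgroup G) // q ≠ 1})) ?_
    intro h h' e
    have e' : (h : G) * x * (h : G)⁻¹ = h' * x * (h' : G)⁻¹ :=
      congrArg (fun v : {q : (Q : Subgroup G) // q ≠ 1} => (v.1 : G)) e
    refine Subtype.ext (inv_mul_eq_one.1 (hfree _ (hCQ (Subgroup.mem_centralizer_singleton_iff.2 ?_))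
      (mul_mem (inv_mem h.2) h'.2)))
    calc (h : G)⁻¹ * h' * x = (h : G)⁻¹ * (h' * x * (h' : G)⁻¹) * h' := by group
      _ = (h : G)⁻¹ * (h * x * (h : G)⁻¹) * h' := by rw [e']
      _ = _ := by group
  have ha32 : a ≤ 32 := by nlinarith
  refine ⟨a, ?_, Or.inr (ha.le.trans ?_), ?_⟩
  · have hdvd : a ∣ 64 := ⟨Nat.card H, by rw [ha, mul_comm]⟩
    interval_cases a <;> first | (simp; done) | (norm_num at hdvd)
  · rw [mul_comm]; exact Nat.mul_le_mul_left _ hHP
  · rw [hsum, hX]
    refine Nat.eq_of_mul_eq_mul_left (show 0 < Nat.card H by omega) ?_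
    have hg : N.index * (p ^ k * Nat.card H) = 64 * I := by
      rw [hI, ← hNc, mul_comm, Subgroup.card_mul_index]
    calc Nat.card H * (N.index * (p ^ k - 1) * p ^ k) = N.index * (p ^ k * Nat.card H) * (p ^ k - 1) := by ring
      _ = Nat.card H * a * I * (p ^ k - 1) := by rw [hg, ha]
      _ = _ := by ring

section Simple

variable [IsSimpleGroup G]

/-- The count is impossible. -/
theorem Special.false (S : Special D E T r) (hS : Small G) : False := by
  classical
  have := Fintype.ofFinite G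
  haveI : Fact (Nat.Prime 2) := ⟨Nat.prime_two⟩
  obtain ⟨F, hD, h16, hE16, hmem, hsyl, hconj⟩ := S
  set Z := fixZ D T with hZ
  have hZc : Nat.card Z = 4 := F.card_fixZ hS hD h16
  have hET : ∀ x ∈ E, x ∈ T := fun x hx => ((hmem x).1 hx).elim (fun h => F.le h.1) fun h => h.1
  have hEexp : ∀ x ∈ E, x * x = 1 := fun x hx =>
    ((hmem x).1 hx).elim (fun h => hD.exp x h.1) fun h => h.2.2
  have hDE : ∀ x, x ∈ D → x ∈ E → x ∈ Z := fun x hxD hxE =>
    ((hmem x).1 hxE).resolve_right fun h => h.2.1 hxD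
  have hZE : ∀ x ∈ Z, x ∈ E := fun x hx => (hmem x).2 (Or.inl hx)
  -- the involutions of `T`
  have hTinv : ∀ x, x ∈ T → x * x = 1 → x ∈ D ∨ x ∈ E := fun x hx hx2 => or_iff_not_imp_left.2 fun hxD =>
    (hmem x).2 (Or.inr ⟨hx, hxD, hx2⟩)
  have hord : ∀ x ∈ Z, x ≠ 1 → orderOf x = 2 := fun x hx h1 => Invol.order_two_of_sq (hD.exp x hx.1) h1
  -- the three central involutions
  obtain ⟨⟨z, hz⟩, hz1⟩ : ∃ z : Z, z ≠ 1 := by
    haveI : Nontrivial Z := Finite.one_lt_card_iff_nontrivial.1 (by rw [hZc]; norm_num)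
    exact exists_ne 1
  have hz1 : z ≠ 1 := fun h => hz1 (Subtype.ext h)
  have hzo := hord z hz hz1
  have hZ'c : Nat.card {w : Z // w ≠ 1} = 3 := by
    haveI := Fintype.ofFinite Z
    rw [Nat.card_eq_fintype_card, Fintype.card_subtype_compl, Fintype.card_subtype_eq,
      ← Nat.card_eq_fintype_card, hZc]
  have horbit : ∀ w ∈ Z, w ≠ 1 → ∃ g : G, w = g * z * g⁻¹ := by
    intro w hw hw1
    have hpow : ∀ i : ℕ, r ^ i * z * (r ^ i)⁻¹ ∈ Z := by
      intro i
      induction i with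
      | zero => simpa using hz
      | succ i ih =>
        rw [show r ^ (i + 1) * z * (r ^ (i + 1))⁻¹ = r * (r ^ i * z * (r ^ i)⁻¹) * r⁻¹ by
          rw [pow_succ']; group]
        exact F.conj_fixZ ih
    let f : Fin 3 → {w : Z // w ≠ 1} := fun i =>
      ⟨⟨_, hpow i⟩, fun e => hz1 (conj_eq_one_iff.1 (congrArg Subtype.val e))⟩
    have hf : Function.Injective f := by
      intro i j e
      by_contra hne
      wlog hij : i < j generalizing i j
      · exact this e.symm (Ne.symm hne) (lt_of_le_of_ne (not_lt.1 hij) (Ne.symm hne))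
      obtain ⟨d, hd⟩ := Nat.exists_eq_add_of_le (Fin.val_fin_le.2 hij.le)
      have e' : r ^ (i : ℕ) * z * (r ^ (i : ℕ))⁻¹ = r ^ (j : ℕ) * z * (r ^ (j : ℕ))⁻¹ :=
        congrArg (fun v : {w : Z // w ≠ 1} => (v.1 : G)) e
      rw [hd, pow_add] at e'
      have hc : Commute (r ^ d) z := by
        refine mul_inv_eq_iff_eq_mul.1
          (mul_left_cancel (a := r ^ (i : ℕ)) (mul_right_cancel (b := (r ^ (i : ℕ))⁻¹) ?_))
        rw [e']; group
      have hd0 : d ≠ 0 := by
        have : (i : ℕ) < j := hij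
        omega
      have hd3 : d < 3 := by have := j.2; omega
      refine hz1 (hS.commute_pow_two (j := 1) (Or.inl ?_) (by rw [pow_one, pow_two]; exact hD.exp z hz.1) hc)
      rw [Nat.Coprime.orderOf_pow, F.order]
      rw [F.order]
      exact (Nat.Prime.coprime_iff_not_dvd (by norm_num)).2 fun h => by
        have := Nat.le_of_dvd (Nat.pos_of_ne_zero hd0) h
        omega
    haveI := Fintype.ofFinite {w : Z // w ≠ 1}
    obtain ⟨i, hi⟩ := ((Fintype.bijective_iff_injective_and_card f).2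
      ⟨hf, by rw [Fintype.card_fin, ← Nat.card_eq_fintype_card, hZ'c]⟩).2 ⟨⟨w, hw⟩, fun e => hw1 (congrArg Subtype.val e)⟩
    exact ⟨r ^ (i : ℕ), (congrArg (fun v : {w : Z // w ≠ 1} => (v.1 : G)) hi).symm⟩
  have hconjz : ∀ t : G, orderOf t = 2 → ∃ g : G, t = g * z * g⁻¹ := by
    intro t ht
    obtain ⟨g, hg⟩ := hconj t ht
    obtain ⟨g', hg'⟩ := horbit _ hg fun e => Invol.ne_one ht (conj_eq_one_iff.1 e)
    exact ⟨g⁻¹ * g', by
      rw [show g⁻¹ * g' * z * (g⁻¹ * g')⁻¹ = g⁻¹ * (g' * z * g'⁻¹) * g by group, ← hg']; group⟩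
  have hCz : Subgroup.centralizer ({z} : Set G) = T :=
    hsyl _ (hS.isPGroup_centralizer_invol hzo) fun t ht =>
      Subgroup.mem_centralizer_singleton_iff.2 (fixZ_comm hz ht)
  have hC : ∀ s : G, orderOf s = 2 → Nat.card (Subgroup.centralizer ({s} : Set G)) = 64 := by
    intro s hs
    obtain ⟨g, rfl⟩ := hconjz s hs
    have e : Subgroup.centralizer ({g * z * g⁻¹} : Set G) =
        conjBy g (Subgroup.centralizer ({z} : Set G)) := by
      ext y
      rw [mem_conjBy, Subgroup.mem_centralizer_singleton_iff, Subgroup.mem_centralizer_singleton_iff]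
      constructor <;> intro h
      · have := conj_commute (g := g⁻¹) h
        simpa [mul_assoc] using this
      · have := conj_commute (g := g) h
        simpa [mul_assoc] using this
    rw [e, card_conjBy, hCz, F.card]
  set I := Invol.numInvol G with hIdef
  have hI : 64 * I = Nat.card G := by
    rw [← Subgroup.card_mul_index (Subgroup.centralizer ({z} : Set G)), hCz, F.card]
    congr 1
    rw [← hCz, Subgroup.index, hIdef]
    refine (Nat.card_congr (Equiv.ofBijective (fun q : G ⧸ Subgroup.centralizer ({z} : Set G) =>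
      (⟨q.out * z * q.out⁻¹, (Invol.order_conj _ _).trans hzo⟩ : {t : G // orderOf t = 2})) ⟨?_, ?_⟩)).symm
    · intro a b h
      have h' : a.out * z * a.out⁻¹ = b.out * z * b.out⁻¹ := congrArg Subtype.val h
      rw [← QuotientGroup.out_eq' a, ← QuotientGroup.out_eq' b, QuotientGroup.eq,
        Subgroup.mem_centralizer_singleton_iff]
      calc a.out⁻¹ * b.out * z = a.out⁻¹ * (b.out * z * b.out⁻¹) * b.out := by group
        _ = a.out⁻¹ * (a.out * z * a.out⁻¹) * b.out := by rw [h']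
        _ = _ := by group
    · rintro ⟨t, ht⟩
      obtain ⟨g, rfl⟩ := hconjz t ht
      refine ⟨(g : G ⧸ Subgroup.centralizer ({z} : Set G)), Subtype.ext ?_⟩
      have h := QuotientGroup.eq.1 (QuotientGroup.out_eq' (g : G ⧸ Subgroup.centralizer ({z} : Set G)))
      rw [Subgroup.mem_centralizer_singleton_iff] at h
      set o := (g : G ⧸ Subgroup.centralizer ({z} : Set G)).out
      show o * z * o⁻¹ = g * z * g⁻¹
      calc o * z * o⁻¹ = o * (z * (o⁻¹ * g)) * g⁻¹ := by group
        _ = o * (o⁻¹ * g * z) * g⁻¹ := by rw [h]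
        _ = _ := by group
  have hI0 : 0 < I := by
    have : 0 < Nat.card G := Nat.card_pos
    omega
  -- sums by order
  let S : ℕ → ℕ := fun n => ∑ x ∈ Finset.univ.filter (fun x : G => orderOf x = n), Nat.card (Invol.Pairs x)
  have hS1 : S 1 = I := by
    have : (Finset.univ.filter fun x : G => orderOf x = 1) = {1} := by
      ext x; simp
    show Finset.sum _ _ = _
    rw [this, Finset.sum_singleton, Invol.card_pairs_one]
  have hS2 : S 2 = 26 * I := by
    have hP : Nat.card (Invol.Pairs z) = 26 := by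
      have hinj : Function.Injective (fun p : Invol.Pairs z => p.1.1) := Invol.pair_fst_injective z
      have hrange : Set.range (fun p : Invol.Pairs z => p.1.1) = ((D : Set G) ∪ E) \ {1, z} := by
        ext s
        constructor
        · rintro ⟨⟨⟨a, b⟩, ha, hb, hab⟩, rfl⟩
          have hsz : a * z * a⁻¹ = z⁻¹ := Invol.pair_fst_inverts (⟨(a, b), ha, hb, hab⟩ : Invol.Pairs z)
          rw [Invol.inv_self hzo] at hsz
          have haT : a ∈ T := hCz.le (Subgroup.mem_centralizer_singleton_iff.2 (mul_inv_eq_iff_eq_mul.1 hsz))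
          refine ⟨hTinv a haT (Invol.mul_self ha), ?_⟩
          rintro (h | h)
          · exact Invol.ne_one ha h
          · simp only [Set.mem_singleton_iff] at h
            subst h
            exact Invol.ne_one hb (mul_left_cancel (hab.trans (mul_one a).symm))
        · rintro ⟨hs, hs'⟩
          simp only [Set.mem_insert_iff, Set.mem_singleton_iff, not_or] at hs'
          have hsT : s ∈ T := hs.elim (fun h => F.le h) (hET s)
          have hs2 : s * s = 1 := hs.elim (hD.exp s) (hEexp s)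
          have hc : Commute s z := fixZ_comm hz hsT
          refine ⟨⟨(s, s * z), Invol.order_two_of_sq hs2 hs'.1, Invol.order_two_of_sq ?_ ?_, ?_⟩, rfl⟩
          · rw [hc.symm.mul_mul_mul_comm, hs2, hD.exp z hz.1, one_mul]
          · intro h
            apply hs'.2
            rw [eq_inv_of_mul_eq_one_left h, Invol.inv_self hzo]
          · rw [← mul_assoc, hs2, one_mul]
      rw [← Nat.card_range_of_injective hinj, Nat.card_coe_set_eq, hrange,
        Set.ncard_sdiff (by
          rintro w (rfl | rfl)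
          · exact Or.inl (one_mem D)
          · exact Or.inl hz.1),
        Set.ncard_pair (Ne.symm hz1)]
      have h := Set.ncard_union_add_ncard_inter (D : Set G) (E : Set G)
      have hi : (D : Set G) ∩ E = (Z : Set G) :=
        Set.ext fun w => ⟨fun h => hDE w h.1 h.2, fun h => ⟨h.1, hZE w h⟩⟩
      rw [hi, ← Nat.card_coe_set_eq, ← Nat.card_coe_set_eq, ← Nat.card_coe_set_eq, ← Nat.card_coe_set_eq] at h
      rw [← Nat.card_coe_set_eq]
      change _ + Nat.card Z = Nat.card D + Nat.card E at h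
      omega
    show Finset.sum _ _ = _
    rw [Finset.sum_congr rfl (g := fun _ => 26), Finset.sum_const, smul_eq_mul, mul_comm, hIdef,
      Invol.numInvol, Nat.card_eq_fintype_card (α := {t : G // orderOf t = 2}), Fintype.card_subtype]
    intro t ht
    obtain ⟨g, rfl⟩ := hconjz t (Finset.mem_filter.1 ht).2
    rw [card_pairs_conj, hP]
  have hS4 : S 4 = 96 * I := by
    have hQ : Nat.card (Quads z) = 96 := by
      set A : Set G := (D : Set G) \ Z with hA
      set B : Set G := (E : Set G) \ Z with hB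
      let φ : (Σ w : {w : Z // w ≠ 1}, Quads (w.1 : G)) → G × G := fun v => v.2.1
      have hinj : Function.Injective φ := by
        rintro ⟨⟨⟨w, hw⟩, hw1⟩, p, hp⟩ ⟨⟨⟨w', hw'⟩, hw1'⟩, p', hp'⟩ h
        obtain rfl : p = p' := h
        obtain rfl : w = w' := hp.2.2.symm.trans hp'.2.2
        rfl
      have hrange : Set.range φ = (A ×ˢ B) ∪ (B ×ˢ A) := by
        ext ⟨s, t⟩
        constructor
        · rintro ⟨⟨⟨⟨w, hw⟩, hw1⟩, ⟨a, b⟩, ha, hb, hab⟩, heq⟩
          obtain ⟨rfl, rfl⟩ := Prod.mk.inj heq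
          have hw1' : w ≠ 1 := fun e => hw1 (Subtype.ext e)
          change a * b * (a * b) = w at hab
          have haa := Invol.mul_self ha
          have hbb := Invol.mul_self hb
          have hwC : Subgroup.centralizer ({w} : Set G) = T :=
            hsyl _ (hS.isPGroup_centralizer_invol (hord w hw hw1')) fun t ht =>
              Subgroup.mem_centralizer_singleton_iff.2 (fixZ_comm hw ht)
          have hww : w⁻¹ = w := Invol.inv_self (hord w hw hw1')
          have haT : a ∈ T := hwC.le (Subgroup.mem_centralizer_singleton_iff.2 (by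
            calc a * w = a * (a * b * (a * b))⁻¹ := by rw [hab, hww]
              _ = a * b⁻¹ * a⁻¹ * b⁻¹ * a⁻¹ := by group
              _ = a * b * a * b * a := by rw [Invol.inv_self ha, Invol.inv_self hb]
              _ = w * a := by rw [← hab]; group))
          have hbT : b ∈ T := hwC.le (Subgroup.mem_centralizer_singleton_iff.2 (by
            calc b * w = b * (a * b * (a * b)) := by rw [hab]
              _ = b * a * b * a * b := by group
              _ = (a * b * (a * b))⁻¹ * b := by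
                rw [mul_inv_rev, mul_inv_rev, Invol.inv_self ha, Invol.inv_self hb]; group
              _ = w * b := by rw [hab, hww]))
          have hnc : a * b ≠ b * a := fun e => hw1' (by
            rw [← hab]; nth_rewrite 2 [e]
            rw [mul_assoc, ← mul_assoc b b, hbb, one_mul, haa])
          have hna : a ∉ Z := fun h => hnc (fixZ_comm h hbT).symm
          have hnb : b ∉ Z := fun h => hnc (fixZ_comm h haT)
          rcases hTinv a haT haa with hA' | hA' <;> rcases hTinv b hbT hbb with hB' | hB'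
          · exact absurd (commute_of_exp_two hD.exp hA' hB') hnc
          · exact Or.inl ⟨⟨hA', hna⟩, hB', hnb⟩
          · exact Or.inr ⟨⟨hA', hna⟩, hB', hnb⟩
          · exact absurd (commute_of_exp_two hEexp hA' hB') hnc
        · intro h
          have hst : s ∈ T ∧ t ∈ T ∧ orderOf s = 2 ∧ orderOf t = 2 ∧ s * t ≠ t * s := by
            have key : ∀ {a b : G}, a ∈ A → b ∈ B →
                a ∈ T ∧ b ∈ T ∧ orderOf a = 2 ∧ orderOf b = 2 ∧ a * b ≠ b * a := by
              rintro a b ⟨ha, haZ⟩ ⟨hb, hbZ⟩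
              have hbD : b ∉ D := fun h => hbZ (hDE b h hb)
              refine ⟨F.le ha, hET b hb, Invol.order_two_of_sq (hD.exp a ha) fun e => haZ (e ▸ one_mem Z),
                Invol.order_two_of_sq (hEexp b hb) fun e => hbZ (e ▸ one_mem Z), fun e => haZ ?_⟩
              exact F.mem_fixZ hS hD h16 (hET b hb) hbD ha e
            rcases h with h | h
            · exact key h.1 h.2
            · obtain ⟨h1, h2, h3, h4, h5⟩ := key h.2 h.1
              exact ⟨h2, h1, h4, h3, h5.symm⟩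
          obtain ⟨hsT, htT, hso, hto, hne⟩ := hst
          have hw := F.sq_mem hS hD h16 (mul_mem hsT htT)
          refine ⟨⟨⟨⟨_, hw⟩, fun e => hne ?_⟩, ⟨(s, t), hso, hto, rfl⟩⟩, rfl⟩
          have e' : s * t * (s * t) = 1 := congrArg Subtype.val e
          calc s * t = (s * t)⁻¹ := (inv_eq_of_mul_eq_one_right e').symm
            _ = t * s := by rw [mul_inv_rev, Invol.inv_self hso, Invol.inv_self hto]
      have h288 : Nat.card (Σ w : {w : Z // w ≠ 1}, Quads (w.1 : G)) = 288 := by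
        have hAc : A.ncard = 12 := by
          rw [hA, Set.ncard_sdiff (fun w hw => hw.1), ← Nat.card_coe_set_eq, ← Nat.card_coe_set_eq]
          change Nat.card D - Nat.card Z = 12
          rw [h16, hZc]
        have hBc : B.ncard = 12 := by
          rw [hB, Set.ncard_sdiff (fun w hw => hZE w hw), ← Nat.card_coe_set_eq, ← Nat.card_coe_set_eq]
          change Nat.card E - Nat.card Z = 12
          rw [hE16, hZc]
        rw [← Nat.card_range_of_injective hinj, Nat.card_coe_set_eq, hrange, Set.ncard_union_eq (by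
          rw [Set.disjoint_left]
          rintro ⟨a, b⟩ h1 h2
          exact h1.1.2 (hDE a h1.1.1 h2.1.1)), Set.ncard_prod, Set.ncard_prod, hAc, hBc]
      rw [Nat.card_sigma, Finset.sum_congr rfl (g := fun _ => Nat.card (Quads z)) (fun w _ => by
          obtain ⟨g, hg⟩ := horbit w.1 w.1.2 (fun e => w.2 (Subtype.ext e))
          rw [hg, card_quads_conj]), Finset.sum_const, Finset.card_univ, ← Nat.card_eq_fintype_card,
        hZ'c, smul_eq_mul] at h288
      omega
    let e : (Σ x : {x : G // orderOf x = 4}, Invol.Pairs (x : G)) ≃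
        (Σ w : {t : G // orderOf t = 2}, Quads (w : G)) :=
      { toFun := fun v => ⟨⟨v.1.1 * v.1.1, Invol.order_two_of_sq
          (by rw [← pow_two v.1.1, ← pow_two, ← pow_mul, show 2 * 2 = orderOf v.1.1 from v.1.2.symm]; exact pow_orderOf_eq_one _)
          (fun h => by
            have := orderOf_dvd_of_pow_eq_one (n := 2) (show v.1.1 ^ 2 = 1 by rw [pow_two]; exact h)
            rw [v.1.2] at this
            norm_num at this)⟩, ⟨v.2.1, v.2.2.1, v.2.2.2.1, by
              show v.2.1.1 * v.2.1.2 * (v.2.1.1 * v.2.1.2) = v.1.1 * v.1.1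
              rw [v.2.2.2.2]⟩⟩
        invFun := fun v => ⟨⟨v.2.1.1 * v.2.1.2, orderOf_eq_prime_pow (p := 2) (n := 1)
          (by rw [pow_one, pow_two, v.2.2.2.2]; exact Invol.ne_one v.1.2)
          (by rw [show 2 ^ (1 + 1) = 2 * 2 by norm_num, pow_mul, pow_two (v.2.1.1 * v.2.1.2), v.2.2.2.2,
            pow_two]; exact Invol.mul_self v.1.2)⟩, ⟨v.2.1, v.2.2.1, v.2.2.2.1, rfl⟩⟩
        left_inv := by
          rintro ⟨⟨x, hx⟩, ⟨⟨a, b⟩, ha, hb, hab⟩⟩
          change a * b = x at hab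
          subst hab
          rfl
        right_inv := by
          rintro ⟨⟨w, hw⟩, ⟨⟨a, b⟩, ha, hb, hab⟩⟩
          change a * b * (a * b) = w at hab
          subst hab
          rfl }
    have h := Nat.card_congr e
    rw [Nat.card_sigma, Nat.card_sigma] at h
    show Finset.sum _ _ = _
    rw [Finset.sum_subtype (p := fun x : G => orderOf x = 4) _ (fun x => by simp), h,
      Finset.sum_congr rfl (g := fun _ => 96) (fun w _ => by
        obtain ⟨g, hg⟩ := hconjz w.1 w.2
        rw [hg, card_quads_conj, hQ]),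
      Finset.sum_const, Finset.card_univ, smul_eq_mul, mul_comm, hIdef, Invol.numInvol, Nat.card_eq_fintype_card]
  -- the order of the group
  obtain ⟨a₂, b₃, c₅, hfac⟩ := hS.card_eq
  obtain ⟨S₀, hS₀⟩ := F.two.exists_le_sylow
  have hT64 : Nat.card (S₀ : Subgroup G) = 64 := by rw [hsyl _ S₀.isPGroup' hS₀, F.card]
  have hcop : ∀ {p n m : ℕ}, p.Prime → ¬ p ∣ m → Nat.card G = p ^ n * m →
      (Nat.card G).factorization p = n := by
    intro p n m hp hm h
    rw [h, Nat.factorization_mul (pow_ne_zero _ hp.ne_zero) (fun e => hm (by rw [e]; exact dvd_zero p)),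
      Nat.Prime.factorization_pow hp]
    simp [Nat.factorization_eq_zero_of_not_dvd hm]
  have hnd : ∀ {p q q' n m : ℕ}, p.Prime → q.Prime → q'.Prime → p ≠ q → p ≠ q' →
      ¬ p ∣ q ^ n * q' ^ m := by
    intro p q q' n m hp hq hq' h h' hd
    rcases hp.dvd_mul.1 hd with hd | hd
    · exact h ((Nat.prime_dvd_prime_iff_eq hp hq).1 (hp.dvd_of_dvd_pow hd))
    · exact h' ((Nat.prime_dvd_prime_iff_eq hp hq').1 (hp.dvd_of_dvd_pow hd))
  have h2 : (Nat.card G).factorization 2 = a₂ :=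
    hcop Nat.prime_two (hnd Nat.prime_two Nat.prime_three (by norm_num : Nat.Prime 5) (by norm_num) (by norm_num))
      (hfac.trans (mul_assoc _ _ _))
  have h3 : (Nat.card G).factorization 3 = b₃ :=
    hcop Nat.prime_three (hnd Nat.prime_three Nat.prime_two (by norm_num : Nat.Prime 5) (by norm_num) (by norm_num))
      (hfac.trans (by ring : _ = 3 ^ b₃ * (2 ^ a₂ * 5 ^ c₅)))
  have h5 : (Nat.card G).factorization 5 = c₅ :=
    hcop (by norm_num) (hnd (by norm_num : Nat.Prime 5) Nat.prime_two Nat.prime_three (by norm_num) (by norm_num))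
      (hfac.trans (by ring : _ = 5 ^ c₅ * (2 ^ a₂ * 3 ^ b₃)))
  have ha6 : a₂ = 6 := by
    rw [S₀.card_eq_multiplicity, h2, show (64 : ℕ) = 2 ^ 6 by norm_num] at hT64
    exact Nat.pow_right_injective le_rfl hT64
  subst ha6
  have hIeq : I = 3 ^ b₃ * 5 ^ c₅ := by
    have := hI.trans hfac
    rw [mul_assoc, show (2 : ℕ) ^ 6 = 64 by norm_num] at this
    exact Nat.eq_of_mul_eq_mul_left (by norm_num) this
  have hb1 : 1 ≤ b₃ := by
    rw [← h3]
    exact Nat.Prime.factorization_pos_of_dvd Nat.prime_three Nat.card_pos.ne' (F.order ▸ orderOf_dvd_natCard r)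
  have hc1 : 1 ≤ c₅ := by
    obtain ⟨q, -, hq⟩ := F.five
    rw [← h5]
    exact Nat.Prime.factorization_pos_of_dvd (by norm_num) Nat.card_pos.ne' (hq ▸ orderOf_dvd_natCard q)
  obtain ⟨a, ha, ha', hS3⟩ := hS.odd_contribution (k := b₃) Nat.prime_three le_rfl h3 hI hC
  obtain ⟨b, hb, hb', hS5⟩ := hS.odd_contribution (k := c₅) (p := 5) (by norm_num) (by norm_num) h5 hI hC
  have htot : I * I = S 1 + S 2 + S 3 + S 4 + S 5 := by
    rw [hIdef, Invol.numInvol_sq,
      ← Finset.sum_fiberwise_of_maps_to (t := ({1, 2, 3, 4, 5} : Finset ℕ)) (g := fun x : G => orderOf x)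
        (fun x _ => by rcases hS.cases x with h | h | h | h | h <;> simp [h])]
    simp only [Finset.mem_insert, Finset.mem_singleton, OfNat.one_ne_ofNat,
      Finset.sum_insert, or_self, not_false_eq_true, Nat.reduceEqDiff, Finset.sum_singleton]
    simp only [S]
    ring
  rw [hS1, hS2, hS4, show S 3 = _ from hS3, show S 5 = _ from hS5] at htot
  have hfinal : I = 123 + a * (3 ^ b₃ - 1) + b * (5 ^ c₅ - 1) :=
    Nat.eq_of_mul_eq_mul_left hI0 (by rw [htot]; ring)
  rw [hIeq] at hfinal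
  exact arith_none hb1 hc1 ha hb ha' hb' hfinal

end Simple

end Cfsg.Agent.SmallSpec
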