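import Cfsg.Agent.Lib.SmallSpec.TI
import Cfsg.Agent.Lib.SmallSpec.SpecialCount

/-!
Simple groups with all element orders at most five have order 60 or 360.
-/

set_option autoImplicit false
set_option linter.unusedSectionVars false
set_option linter.style.haveILetI false

namespace Cfsg.Agent.SmallSpec

universe u

theorem Small.simple_card_aux {G : Type u} [Group G] [Finite G] [IsSimpleGroup G] (hS : Small G)
    (hnc : ¬ IsMulCommutative G) (hIH : SimpleBelow.{u} (Nat.card G)) :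
    Nat.card G = 60 ∨ Nat.card G = 360 := by
  classical
  haveI : Fact (Nat.Prime 2) := ⟨Nat.prime_two⟩
  have hns : ¬ Group.IsSolvable G := fun h =>
    hnc ⟨⟨fun a b => IsSimpleGroup.comm_iff_isSolvable.2 h a b⟩⟩
  by_cases hTI : ∀ P Q : Sylow 2 G, P ≠ Q → (P : Subgroup G) ⊓ (Q : Subgroup G) = ⊥
  · exact Or.inl (hS.card_of_ti hnc (hS.two_dvd hns) hTI)
  push Not at hTI
  obtain ⟨P₁, Q₁, hPQ₁, hne₁⟩ := hTI
  haveI : Nonempty {p : Sylow 2 G × Sylow 2 G // p.1 ≠ p.2} := ⟨⟨(P₁, Q₁), hPQ₁⟩⟩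
  obtain ⟨⟨⟨P, Q⟩, hPQ⟩, hmax'⟩ := Finite.exists_max
    (fun p : {p : Sylow 2 G × Sylow 2 G // p.1 ≠ p.2} =>
      Nat.card ↥((p.1.1 : Subgroup G) ⊓ (p.1.2 : Subgroup G)))
  have hmax : ∀ P' Q' : Sylow 2 G, P' ≠ Q' → Nat.card ↥((P' : Subgroup G) ⊓ (Q' : Subgroup G)) ≤
      Nat.card ↥((P : Subgroup G) ⊓ (Q : Subgroup G)) := fun P' Q' h => hmax' ⟨(P', Q'), h⟩
  have hne : (P : Subgroup G) ⊓ (Q : Subgroup G) ≠ ⊥ := fun h => hne₁ (Subgroup.card_eq_one.1 (by
    have h1 := hmax P₁ Q₁ hPQ₁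
    rw [h, Subgroup.card_bot] at h1
    have : 0 < Nat.card ↥((P₁ : Subgroup G) ⊓ (Q₁ : Subgroup G)) := Nat.card_pos
    omega))
  have hD := hS.coreData hnc hIH P Q hPQ hne hmax
  set D := (P : Subgroup G) ⊓ (Q : Subgroup G) with hDdef
  obtain ⟨t, r, htN, -, htD, hto, -, -⟩ := hD.lift
  have hc := (hD.fixed t htN htD (by rw [Invol.mul_self hto]; exact one_mem D)).symm
  set c := Nat.card (D ⊓ Subgroup.centralizer ({t} : Set G) : Subgroup G) with hcdef
  obtain ⟨m, hm⟩ := IsPGroup.iff_card.1 hD.two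
  obtain ⟨l, -, hl⟩ := (Nat.dvd_prime_pow Nat.prime_two).1 (hm ▸ hc ▸ dvd_mul_right c c)
  rcases l with - | - | l
  · rw [hl, pow_zero, one_mul, Subgroup.card_eq_one] at hc
    exact absurd hc hD.ne_bot
  · exact Or.inr (hS.card_eq_dihedral hnc hD (by rw [hc, hl]; rfl))
  exfalso
  have hc4 : 4 ≤ c := by
    rw [hl, pow_succ, pow_succ]
    have := Nat.one_le_pow l 2 (by norm_num)
    omega
  have hτ : ∀ {q a : ℕ}, Nat.Coprime 2 q → D.relIndex (Subgroup.normalizer (D : Set G)) = a * q →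
      ∀ k, 2 ^ k ∣ D.relIndex (Subgroup.normalizer (D : Set G)) → 2 ^ k ∣ a := fun hq h k hk =>
    (Nat.Coprime.pow_left k hq).dvd_of_dvd_mul_right (h ▸ hk)
  rcases hD.cases with h | h | ⟨h, -⟩
  · exact hS.no_generic hnc hD (τ := 2) hc two_pos (by omega) (hτ (q := 3) (by norm_num) (by rw [h]))
  · exact hS.no_generic hnc hD (τ := 2) hc two_pos (by omega) (hτ (q := 5) (by norm_num) (by rw [h]))
  · by_cases hc8 : 4 < c
    · exact hS.no_generic hnc hD (τ := 4) hc (by norm_num) hc8 (hτ (q := 15) (by norm_num) (by rw [h]))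
    · have h16 : Nat.card D = 16 := by rw [hc, show c = 4 by omega]
      obtain ⟨E, T, r, hSp⟩ := hS.exists_special hnc hIH hD h16 h
        fun P' Q' h' => (hmax P' Q' h').trans h16.le
      exact hSp.false hS

theorem simpleBelow (n : ℕ) : SimpleBelow.{u} n := by
  induction n using Nat.strong_induction_on with
  | _ n ih =>
    intro H _ _ hS hH hnc hn
    haveI := hH
    exact hS.simple_card_aux hnc (ih (Nat.card H) hn)

end Cfsg.Agent.SmallSpec
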