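import Cfsg.Agent.Lib.SmallSpec.Frame

/-!
A core of order sixteen: fusion of involutions.
-/

set_option autoImplicit false
set_option linter.unusedSectionVars false
set_option linter.style.haveILetI false

namespace Cfsg.Agent.SmallSpec

universe u

variable {G : Type u} [Group G] [Finite G] {D E T : Subgroup G} {r : G}

theorem mem_or_of_subset {X D E : Subgroup G} (h : ∀ x ∈ X, x ∈ D ∨ x ∈ E) : X ≤ D ∨ X ≤ E := by
  by_contra hcon
  push Not at hcon
  obtain ⟨x, hx, hxD⟩ := SetLike.not_le_iff_exists.1 hcon.1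
  obtain ⟨y, hy, hyE⟩ := SetLike.not_le_iff_exists.1 hcon.2
  have hxE := (h x hx).resolve_left hxD
  have hyD := (h y hy).resolve_right hyE
  rcases h (x * y) (mul_mem hx hy) with h' | h'
  · exact hxD (by simpa using mul_mem h' (inv_mem hyD))
  · exact hyE (by simpa using mul_mem (inv_mem hxE) h')

/-- The translates of the fixed points under an element of order five cover `D`. -/
theorem Frame.covered (F : Frame D T r) (hS : Small G) (hD : CoreData D) (h16 : Nat.card D = 16)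
    {d : G} (hd : d ∈ D) (hd1 : d ≠ 1) :
    ∃ X : Subgroup G, IsPGroup 2 X ∧ Nat.card X = 64 ∧ X ≤ Subgroup.centralizer ({d} : Set G) := by
  classical
  obtain ⟨q, hqN, hq⟩ := F.five
  set N := Subgroup.normalizer (D : Set G) with hN
  have hZc := F.card_fixZ hS hD h16
  let Z' := {z : fixZ D T // z ≠ 1}
  have hZ'c : Nat.card Z' = 3 := by
    haveI := Fintype.ofFinite (fixZ D T)
    rw [Nat.card_eq_fintype_card, Fintype.card_subtype_compl, Fintype.card_subtype_eq,
      ← Nat.card_eq_fintype_card, hZc]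
  have hconj : ∀ (p : G), p ∈ N → ∀ x ∈ D, p * x * p⁻¹ ∈ D := fun p hp x hx =>
    (Subgroup.mem_normalizer_iff.1 hp x).1 hx
  have key : ∀ (m : ℕ) (z w : Z'), q ^ m * (z.1 : G) * (q ^ m)⁻¹ = (w.1 : G) → q ^ m = 1 := by
    intro m z w h
    set p := q ^ m with hp
    have hpN : p ∈ N := pow_mem hqN m
    by_contra hp1
    have hp5 : orderOf p = 5 := by
      rcases (Nat.dvd_prime (by norm_num : Nat.Prime 5)).1 (hq ▸ orderOf_pow_dvd m : orderOf p ∣ 5)
        with h' | h'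
      · exact absurd (orderOf_eq_one_iff.1 h') hp1
      · exact h'
    have hw1 : (w.1 : G) ≠ 1 := fun e => w.2 (Subtype.ext e)
    -- both `T` and its conjugate are Sylow in the centralizer
    set K := Subgroup.centralizer ({(w.1 : G)} : Set G) ⊓ N with hK
    have hK2 : IsPGroup 2 K := (hS.isPGroup_centralizer_invol
      (Invol.order_two_of_sq (hD.exp _ w.1.2.1) hw1)).to_le inf_le_left
    have hTK : T ≤ K := fun t ht => ⟨Subgroup.mem_centralizer_singleton_iff.2 (fixZ_comm w.1.2 ht),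
      F.le_normalizer ht⟩
    obtain ⟨n, -, hn⟩ := F.maxed K hK2 inf_le_right
    have hKT : K = T := by
      refine (Subgroup.eq_of_le_of_card_ge hTK ?_).symm
      refine Nat.card_le_card_of_injective (fun x : K => (⟨n * x * n⁻¹, hn x x.2⟩ : T)) ?_
      intro a b hab
      exact Subtype.ext (mul_left_cancel (mul_right_cancel (Subtype.mk.inj hab)))
    have hpT : ∀ t ∈ T, p * t * p⁻¹ ∈ T := fun t ht => hKT.le ⟨Subgroup.mem_centralizer_singleton_iff.2 (by
      rw [← h]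
      have := fixZ_comm z.1.2 ht
      calc p * t * p⁻¹ * (p * z.1 * p⁻¹) = p * (t * z.1) * p⁻¹ := by group
        _ = p * (z.1 * t) * p⁻¹ := by rw [this]
        _ = _ := by group), N.mul_mem (N.mul_mem hpN (F.le_normalizer ht)) (N.inv_mem hpN)⟩
    have hpinv : p⁻¹ = p ^ 4 := inv_eq_of_mul_eq_one_right (by
      rw [← pow_succ', show 4 + 1 = 5 from rfl, ← hp5, pow_orderOf_eq_one])
    have hpTi : ∀ i : ℕ, ∀ t ∈ T, p ^ i * t * (p ^ i)⁻¹ ∈ T := by
      intro i
      induction i with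
      | zero => intro t ht; simpa using ht
      | succ i ih =>
        intro t ht
        rw [show p ^ (i + 1) * t * (p ^ (i + 1))⁻¹ = p * (p ^ i * t * (p ^ i)⁻¹) * p⁻¹ by
          rw [pow_succ']; group]
        exact hpT _ (ih t ht)
    have horb : ∀ i : ℕ, p ^ i * (z.1 : G) * (p ^ i)⁻¹ ∈ fixZ D T := by
      intro i
      refine ⟨hconj _ (pow_mem hpN i) _ z.1.2.1, Subgroup.mem_centralizer_iff.2 fun t ht => ?_⟩
      have hb : (p ^ i)⁻¹ * t * p ^ i ∈ T := by
        have := hpTi (4 * i) t ht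
        rwa [pow_mul, ← hpinv, inv_pow, inv_inv] at this
      have := fixZ_comm z.1.2 hb
      calc t * (p ^ i * z.1 * (p ^ i)⁻¹) = p ^ i * ((p ^ i)⁻¹ * t * p ^ i * z.1) * (p ^ i)⁻¹ := by group
        _ = p ^ i * (z.1 * ((p ^ i)⁻¹ * t * p ^ i)) * (p ^ i)⁻¹ := by rw [this]
        _ = _ := by group
    let f : Fin 4 → Z' := fun i => ⟨⟨_, horb i⟩, fun e => z.2 (Subtype.ext
      (conj_eq_one_iff.1 (congrArg Subtype.val e)))⟩
    obtain ⟨i, j, hij, hf⟩ : ∃ i j : Fin 4, i < j ∧ f i = f j := by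
      obtain ⟨i, j, hne, he⟩ := Fintype.exists_ne_map_eq_of_card_lt
        (f := fun i => (Finite.equivFinOfCardEq hZ'c) (f i)) (by simp)
      have he' := (Finite.equivFinOfCardEq hZ'c).injective he
      rcases lt_or_gt_of_ne hne with h' | h'
      exacts [⟨i, j, h', he'⟩, ⟨j, i, h', he'.symm⟩]
    have hij' : (i : ℕ) ≤ j := hij.le
    obtain ⟨k, hk⟩ := Nat.exists_eq_add_of_le hij'
    have hk0 : k ≠ 0 := by have : (i : ℕ) < j := hij; omega
    have hk5 : k < 5 := by have := j.2; omega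
    have e : p ^ (i : ℕ) * z.1 * (p ^ (i : ℕ))⁻¹ = p ^ (j : ℕ) * z.1 * (p ^ (j : ℕ))⁻¹ :=
      congrArg (fun y : Z' => (y.1 : G)) hf
    rw [hk, pow_add] at e
    have hc : Commute (p ^ k) (z.1 : G) := by
      refine mul_inv_eq_iff_eq_mul.1 (mul_left_cancel (a := p ^ (i : ℕ)) (mul_right_cancel (b := (p ^ (i : ℕ))⁻¹) ?_))
      rw [e]; group
    refine z.2 (Subtype.ext (hS.commute_pow_two (j := 1) (Or.inr ?_) ?_ hc))
    · rw [Nat.Coprime.orderOf_pow, hp5]
      rw [hp5]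
      exact (Nat.Prime.coprime_iff_not_dvd (by norm_num)).2 fun hd => by
        have := Nat.le_of_dvd (Nat.pos_of_ne_zero hk0) hd
        omega
    · rw [pow_one, pow_two]; exact hD.exp _ z.1.2.1
  let g : Fin 5 × Z' → {x : D // x ≠ 1} := fun p =>
    ⟨⟨q ^ (p.1 : ℕ) * (p.2.1 : G) * (q ^ (p.1 : ℕ))⁻¹, hconj _ (pow_mem hqN _) _ p.2.1.2.1⟩,
      fun e => p.2.2 (Subtype.ext (conj_eq_one_iff.1 (congrArg Subtype.val e)))⟩
  have hg : Function.Injective g := by
    rintro ⟨k, z⟩ ⟨l, w⟩ he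
    have e : q ^ (k : ℕ) * (z.1 : G) * (q ^ (k : ℕ))⁻¹ = q ^ (l : ℕ) * w.1 * (q ^ (l : ℕ))⁻¹ :=
      congrArg (fun y : {x : D // x ≠ 1} => (y.1 : G)) he
    have h5 : q ^ 5 = 1 := hq ▸ pow_orderOf_eq_one q
    have hl : q ^ (5 - (l : ℕ)) = (q ^ (l : ℕ))⁻¹ := eq_inv_of_mul_eq_one_left (by
      rw [← pow_add, Nat.sub_add_cancel l.2.le, h5])
    have h1 := key (5 - (l : ℕ) + k) z w (by
      rw [pow_add, hl]
      calc (q ^ (l : ℕ))⁻¹ * q ^ (k : ℕ) * z.1 * ((q ^ (l : ℕ))⁻¹ * q ^ (k : ℕ))⁻¹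
          = (q ^ (l : ℕ))⁻¹ * (q ^ (k : ℕ) * z.1 * (q ^ (k : ℕ))⁻¹) * q ^ (l : ℕ) := by group
        _ = w.1 := by rw [e]; group)
    rw [pow_add, hl, inv_mul_eq_one] at h1
    obtain rfl : k = l := Fin.ext (pow_injOn_Iio_orderOf (by rw [hq]; exact k.2) (by rw [hq]; exact l.2) h1.symm)
    exact Prod.ext rfl (Subtype.ext (Subtype.ext (mul_left_cancel (mul_right_cancel e))))
  haveI := Fintype.ofFinite D
  haveI := Fintype.ofFinite Z'
  obtain ⟨⟨k, z⟩, hk⟩ := ((Fintype.bijective_iff_injective_and_card g).2 ⟨hg, by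
    rw [Fintype.card_prod, Fintype.card_fin, ← Nat.card_eq_fintype_card, hZ'c,
      Fintype.card_subtype_compl, Fintype.card_subtype_eq, ← Nat.card_eq_fintype_card, h16]⟩).2
    ⟨⟨d, hd⟩, fun e => hd1 (congrArg Subtype.val e)⟩
  have hk' : q ^ (k : ℕ) * (z.1 : G) * (q ^ (k : ℕ))⁻¹ = d :=
    congrArg (fun y : {x : D // x ≠ 1} => (y.1 : G)) hk
  refine ⟨conjBy (q ^ (k : ℕ)) T, F.two.map _, by rw [card_conjBy, F.card], ?_⟩
  rintro _ ⟨t, ht, rfl⟩
  refine Subgroup.mem_centralizer_singleton_iff.2 ?_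
  show q ^ (k : ℕ) * t * (q ^ (k : ℕ))⁻¹ * d = d * (q ^ (k : ℕ) * t * (q ^ (k : ℕ))⁻¹)
  rw [← hk']
  have := fixZ_comm z.1.2 ht
  calc q ^ (k : ℕ) * t * (q ^ (k : ℕ))⁻¹ * (q ^ (k : ℕ) * z.1 * (q ^ (k : ℕ))⁻¹)
      = q ^ (k : ℕ) * (t * z.1) * (q ^ (k : ℕ))⁻¹ := by group
    _ = q ^ (k : ℕ) * (z.1 * t) * (q ^ (k : ℕ))⁻¹ := by rw [this]
    _ = _ := by group

section Simple

variable [IsSimpleGroup G]

/-- No second elementary subgroup: contradiction. -/
theorem Small.no_isolated (hS : Small G) (hnc : ¬ IsMulCommutative G) (hD : CoreData D)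
    (h16 : Nat.card D = 16) (F : Frame D T r)
    (hno : ∀ u v, u ∈ T → u ∉ D → u * u = 1 → v ∈ T → v ∉ D → v * v = 1 → u * v = v * u →
      u⁻¹ * v ∈ D) : False := by
  classical
  set N := Subgroup.normalizer (D : Set G) with hN
  have hnoX : ∀ X : Subgroup G, IsPGroup 2 X → X ≤ N → ∀ u ∈ X, ∀ v ∈ X, u ∉ D → v ∉ D → u * u = 1 →
      v * v = 1 → u * v = v * u → u⁻¹ * v ∈ D := by
    intro X hX hXN u hu v hv huD hvD hu2 hv2 huv
    obtain ⟨n, hn, hnX⟩ := F.maxed X hX hXN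
    have hD' : ∀ x, n * x * n⁻¹ ∈ D ↔ x ∈ D := fun x => ((Subgroup.mem_normalizer_iff.1 hn x)).symm
    have h := hno (n * u * n⁻¹) (n * v * n⁻¹) (hnX u hu) (fun h => huD ((hD' u).1 h))
      (by rw [show n * u * n⁻¹ * (n * u * n⁻¹) = n * (u * u) * n⁻¹ by group, hu2]; group)
      (hnX v hv) (fun h => hvD ((hD' v).1 h))
      (by rw [show n * v * n⁻¹ * (n * v * n⁻¹) = n * (v * v) * n⁻¹ by group, hv2]; group)
      (by
        calc n * u * n⁻¹ * (n * v * n⁻¹) = n * (u * v) * n⁻¹ := by group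
          _ = n * (v * u) * n⁻¹ := by rw [huv]
          _ = _ := by group)
    rw [show (n * u * n⁻¹)⁻¹ * (n * v * n⁻¹) = n * (u⁻¹ * v) * n⁻¹ by group] at h
    exact (hD' _).1 h
  have hsq : ∀ d ∈ D, ∀ g : G, g * d * g⁻¹ * (g * d * g⁻¹) = 1 := fun d hd g => by
    rw [show g * d * g⁻¹ * (g * d * g⁻¹) = g * (d * d) * g⁻¹ by group, hD.exp d hd]; group
  have hcomm : ∀ a ∈ D, ∀ b ∈ D, ∀ g : G,
      g * a * g⁻¹ * (g * b * g⁻¹) = g * b * g⁻¹ * (g * a * g⁻¹) := fun a ha b hb g => by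
    calc g * a * g⁻¹ * (g * b * g⁻¹) = g * (a * b) * g⁻¹ := by group
      _ = g * (b * a) * g⁻¹ := by rw [commute_of_exp_two hD.exp ha hb]
      _ = _ := by group
  refine hS.no_unique hnc hD ?_ ?_
  · intro X hX hDX hXN g hg
    rw [Subgroup.mem_normalizer_iff_map_conj_eq]
    refine Subgroup.eq_of_le_of_card_ge ?_ (card_conjBy g D).ge
    rintro _ ⟨e₀, he₀, rfl⟩
    by_contra heD
    have he : g * e₀ * g⁻¹ ∈ X := hg e₀ he₀
    have heD : g * e₀ * g⁻¹ ∉ D := heD
    set e := g * e₀ * g⁻¹ with hedef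
    have heN : e ∈ N := hXN he
    have hfix : Nat.card (D ⊓ Subgroup.centralizer ({e} : Set G) : Subgroup G) = 4 :=
      Nat.mul_self_inj.1 ((hD.fixed e heN heD (by rw [hedef, hsq e₀ he₀ g]; exact one_mem D)).trans
        (by rw [h16]))
    let f : D → Bool × (D ⊓ Subgroup.centralizer ({e} : Set G) : Subgroup G) := fun x =>
      if h : g * x * g⁻¹ ∈ D then (false, ⟨g * x * g⁻¹, h, Subgroup.mem_centralizer_singleton_iff.2
        (hcomm x x.2 e₀ he₀ g)⟩)
      else (true, ⟨e⁻¹ * (g * x * g⁻¹), hnoX X hX hXN e he _ (hg x x.2) heD h (hsq e₀ he₀ g)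
        (hsq x x.2 g) (hcomm e₀ he₀ x x.2 g), Subgroup.mem_centralizer_singleton_iff.2 (by
          rw [mul_assoc, hcomm x x.2 e₀ he₀ g, ← hedef]; group)⟩)
    have hf : Function.Injective f := by
      intro a b h
      simp only [f] at h
      split_ifs at h
      · exact Subtype.ext (by simpa using congrArg (fun p => (p.2 : G)) h)
      · simp at h
      · simp at h
      · exact Subtype.ext (by simpa using congrArg (fun p => (p.2 : G)) h)
    have hle := Nat.card_le_card_of_injective f hf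
    rw [Nat.card_prod, hfix, h16, Nat.card_eq_fintype_card, Fintype.card_bool] at hle
    omega
  · intro X hX hDX hXN u hu huo huD g hg
    by_contra hcon
    push Not at hcon
    set C := D ⊓ Subgroup.centralizer ({u} : Set G) with hC
    have hfix : Nat.card C = 4 :=
      Nat.mul_self_inj.1 ((hD.fixed u hu huD (by rw [Invol.mul_self huo]; exact one_mem D)).trans
        (by rw [h16]))
    haveI : Nontrivial C := Finite.one_lt_card_iff_nontrivial.1 (by rw [hfix]; norm_num)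
    obtain ⟨⟨z, hz⟩, hz1⟩ := exists_ne (1 : C)
    obtain ⟨⟨w, hw⟩, hw1, hwz⟩ : ∃ w : C, w ≠ 1 ∧ w ≠ ⟨z, hz⟩ := by
      by_contra hcon'
      push Not at hcon'
      haveI := Fintype.ofFinite C
      have : (Finset.univ : Finset C) ⊆ {1, ⟨z, hz⟩} := fun y _ => by
        by_cases hy : y = 1
        · simp [hy]
        · simp [hcon' y hy]
      have h2 := (Finset.card_le_card this).trans Finset.card_le_two
      rw [Finset.card_univ, ← Nat.card_eq_fintype_card, hfix] at h2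
      omega
    have hz' : z ≠ 1 := fun h => hz1 (Subtype.ext h)
    have hw' : w ≠ 1 := fun h => hw1 (Subtype.ext h)
    have h := hnoX X hX hXN _ (hg z hz) _ (hg w hw) (hcon z hz hz') (hcon w hw hw') (hsq z hz.1 g)
      (hsq w hw.1 g) (hcomm z hz.1 w hw.1 g)
    refine hcon (z⁻¹ * w) (mul_mem (inv_mem hz) hw) (fun e => hwz (Subtype.ext (inv_mul_eq_one.1 e).symm)) ?_
    rwa [show g * (z⁻¹ * w) * g⁻¹ = (g * z * g⁻¹)⁻¹ * (g * w * g⁻¹) by group]

/-- What is used in the count. -/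
structure Special (D E T : Subgroup G) (r : G) : Prop where
  frame : Frame D T r
  core : CoreData D
  cardD : Nat.card D = 16
  cardE : Nat.card E = 16
  memE : ∀ x, x ∈ E ↔ x ∈ fixZ D T ∨ (x ∈ T ∧ x ∉ D ∧ x * x = 1)
  sylow : ∀ X : Subgroup G, IsPGroup 2 X → T ≤ X → X = T
  conj : ∀ t : G, orderOf t = 2 → ∃ g : G, g * t * g⁻¹ ∈ fixZ D T

theorem Small.exists_special (hS : Small G) (hnc : ¬ IsMulCommutative G)
    (hIH : SimpleBelow.{u} (Nat.card G)) (hD : CoreData D) (h16 : Nat.card D = 16)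
    (h60 : D.relIndex (Subgroup.normalizer (D : Set G)) = 60)
    (hmax : ∀ P Q : Sylow 2 G, P ≠ Q → Nat.card ↥((P : Subgroup G) ⊓ (Q : Subgroup G)) ≤ 16) :
    ∃ (E T : Subgroup G) (r : G), Special D E T r := by
  classical
  haveI : Fact (Nat.Prime 2) := ⟨Nat.prime_two⟩
  haveI : Fact (Nat.Prime 3) := ⟨Nat.prime_three⟩
  obtain ⟨T, r, F⟩ := hS.exists_frame hD h16 h60
  rcases F.dichotomy hS hD h16 with hno | ⟨E, hEc, hE⟩
  · exact (hS.no_isolated hnc hD h16 F hno).elim
  refine ⟨E, T, r, ?_⟩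
  set N := Subgroup.normalizer (D : Set G) with hN
  have hET : E ≤ T := fun x hx => ((hE x).1 hx).elim (fun h => F.le h.1) fun h => h.1
  have hEexp : ∀ x ∈ E, x * x = 1 := fun x hx =>
    ((hE x).1 hx).elim (fun h => hD.exp x h.1) fun h => h.2.2
  have hED : E ≠ D := by
    intro h
    have hle : E ≤ fixZ D T := fun x hx => ((hE x).1 hx).resolve_right fun h' => h'.2.1 (h ▸ hx)
    have := Subgroup.card_le_of_le hle
    rw [hEc, F.card_fixZ hS hD h16] at this
    omega
  have helem : ∀ X : Subgroup G, X ≤ T → Nat.card X = 16 → (∀ x ∈ X, x * x = 1) → X = D ∨ X = E := by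
    intro X hXT hXc hX2
    rcases mem_or_of_subset (fun x hx => or_iff_not_imp_left.2 fun hxD =>
      (hE x).2 (Or.inr ⟨hXT hx, hxD, hX2 x hx⟩) : ∀ x ∈ X, x ∈ D ∨ x ∈ E) with h | h
    · exact Or.inl (Subgroup.eq_of_le_of_card_ge h (by rw [h16, hXc]))
    · exact Or.inr (Subgroup.eq_of_le_of_card_ge h (by rw [hEc, hXc]))
  have hEinv : ∀ n ∈ N, (∀ t ∈ T, n * t * n⁻¹ ∈ T) → conjBy n E = E := by
    intro n hn hnT
    refine Subgroup.eq_of_le_of_card_ge ?_ (card_conjBy n E).ge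
    rintro _ ⟨x, hx, rfl⟩
    show n * x * n⁻¹ ∈ E
    rcases helem (conjBy n E) (by rintro _ ⟨y, hy, rfl⟩; exact hnT y (hET hy))
      (by rw [card_conjBy, hEc]) (by
        rintro _ ⟨y, hy, rfl⟩
        show n * y * n⁻¹ * (n * y * n⁻¹) = 1
        rw [show n * y * n⁻¹ * (n * y * n⁻¹) = n * (y * y) * n⁻¹ by group, hEexp y hy]; group) with h | h
    · refine absurd ?_ hED
      refine Subgroup.eq_of_le_of_card_ge (fun y hy => (Subgroup.mem_normalizer_iff.1 hn y).2 ?_) (by rw [h16, hEc])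
      exact h.le ⟨y, hy, rfl⟩
    · exact h.le ⟨x, hx, rfl⟩
  -- the normalizer of `T` fixes `D`
  have hTN : ∀ x : G, (∀ t ∈ T, x * t * x⁻¹ ∈ T) → x ∈ N := by
    intro x hx
    by_contra hxN
    have himg : ∀ (X : Subgroup G), X ≤ T → Nat.card X = 16 → (∀ y ∈ X, y * y = 1) →
        conjBy x X = D ∨ conjBy x X = E := fun X hXT hXc hX2 => helem _
      (by rintro _ ⟨y, hy, rfl⟩; exact hx y (hXT hy)) (by rw [card_conjBy, hXc]) (by
        rintro _ ⟨y, hy, rfl⟩
        show x * y * x⁻¹ * (x * y * x⁻¹) = 1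
        rw [show x * y * x⁻¹ * (x * y * x⁻¹) = x * (y * y) * x⁻¹ by group, hX2 y hy]; group)
    have hDE : conjBy x D = E := (himg D F.le h16 hD.exp).resolve_left fun h =>
      hxN (Subgroup.mem_normalizer_iff_map_conj_eq.2 h)
    have hED' : conjBy x E = D := (himg E hET hEc hEexp).resolve_right fun h =>
      hED (Subgroup.map_injective (MulAut.conj x).injective (h.trans hDE.symm))
    -- elements fixing `E` are conjugated into `N`
    have hinN : ∀ n ∈ N, (∀ t ∈ T, n * t * n⁻¹ ∈ T) → x * n * x⁻¹ ∈ N := by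
      intro n hn hnT
      rw [hN, Subgroup.mem_normalizer_iff_map_conj_eq]
      refine Subgroup.eq_of_le_of_card_ge ?_ (card_conjBy (x * n * x⁻¹) D).ge
      rintro _ ⟨d, hd, rfl⟩
      obtain ⟨e, he, rfl⟩ := hED'.ge hd
      show x * n * x⁻¹ * (x * e * x⁻¹) * (x * n * x⁻¹)⁻¹ ∈ D
      rw [show x * n * x⁻¹ * (x * e * x⁻¹) * (x * n * x⁻¹)⁻¹ = x * (n * e * n⁻¹) * x⁻¹ by group]
      exact hED'.le ⟨_, (hEinv n hn hnT).le ⟨e, he, rfl⟩, rfl⟩
    set M := Subgroup.normalizer (T : Set G) with hM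
    have hmemM : ∀ n : G, (∀ t ∈ T, n * t * n⁻¹ ∈ T) → n ∈ M := fun n hn => by
      rw [hM, Subgroup.mem_normalizer_iff_map_conj_eq]
      refine Subgroup.eq_of_le_of_card_ge ?_ (card_conjBy n T).ge
      rintro _ ⟨t, ht, rfl⟩
      exact hn t ht
    have hxM := hmemM x hx
    have hrM := hmemM r F.stable
    set K := N ⊓ M with hK
    have hM' : ∀ n ∈ M, ∀ t ∈ T, n * t * n⁻¹ ∈ T := fun n hn t ht =>
      (Subgroup.mem_normalizer_iff.1 hn t).1 ht
    set r' := x * r * x⁻¹ with hr'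
    have hrK : r ∈ K := ⟨F.mem, hrM⟩
    have hr'K : r' ∈ K := ⟨hinN r F.mem F.stable, M.mul_mem (M.mul_mem hxM hrM) (M.inv_mem hxM)⟩
    have hr'o : orderOf r' = 3 := (Invol.order_conj x r).trans F.order
    -- the two subgroups of order three are conjugate in `K`
    have hsyl : ∀ (y : G) (hy : y ∈ K), orderOf y = 3 →
        ∃ S : Sylow 3 K, (S : Subgroup K) = Subgroup.zpowers ⟨y, hy⟩ := by
      intro y hy hyo
      have hz : Nat.card (Subgroup.zpowers (⟨y, hy⟩ : K)) = 3 := by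
        rw [Nat.card_zpowers, Subgroup.orderOf_mk, hyo]
      obtain ⟨S, hle⟩ := (IsPGroup.of_card (n := 1) (by rw [hz, pow_one]) :
        IsPGroup 3 (Subgroup.zpowers (⟨y, hy⟩ : K))).exists_le_sylow
      refine ⟨S, (Subgroup.eq_of_le_of_card_ge hle ?_).symm⟩
      have h := hS.card_le_of_normalize hD.two hD.ne_bot Nat.prime_three (by norm_num)
        (S.isPGroup'.map K.subtype) ((Subgroup.map_subtype_le _).trans inf_le_left)
      rw [Subgroup.card_map_of_injective K.subtype_injective] at h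
      rw [hz]
      exact Nat.le_of_dvd (by norm_num) h
    obtain ⟨S₁, hS₁⟩ := hsyl r hrK F.order
    obtain ⟨S₂, hS₂⟩ := hsyl r' hr'K hr'o
    obtain ⟨⟨n, hn⟩, hnS⟩ := MulAction.exists_smul_eq K S₂ S₁
    have hnr : n * r' * n⁻¹ ∈ Subgroup.zpowers r := by
      have hmem : (⟨r', hr'K⟩ : K) ∈ (S₂ : Subgroup K) := hS₂.ge (Subgroup.mem_zpowers _)
      have h := Subgroup.smul_mem_pointwise_smul _ (MulAut.conj (⟨n, hn⟩ : K)) _ hmem
      rw [← Sylow.coe_subgroup_smul, hnS, hS₁] at h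
      obtain ⟨k, hk⟩ := Subgroup.mem_zpowers_iff.1 h
      exact Subgroup.mem_zpowers_iff.2 ⟨k, congrArg Subtype.val hk⟩
    set y := n * x with hy
    have hyM : y ∈ M := mul_mem hn.2 hxM
    have hyN : y ∉ N := fun h => hxN (by
      have := mul_mem (inv_mem (Subgroup.mem_inf.1 hn).1) h
      rwa [hy, inv_mul_cancel_left] at this)
    have hyy : y * y ∈ N := by
      have hxx : x * x ∈ N := by
        rw [hN, Subgroup.mem_normalizer_iff_map_conj_eq]
        refine Subgroup.eq_of_le_of_card_ge ?_ (card_conjBy (x * x) D).ge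
        rintro _ ⟨d, hd, rfl⟩
        show x * x * d * (x * x)⁻¹ ∈ D
        rw [show x * x * d * (x * x)⁻¹ = x * (x * d * x⁻¹) * x⁻¹ by group]
        exact hED'.le ⟨_, hDE.le ⟨d, hd, rfl⟩, rfl⟩
      rw [show y * y = n * (x * n * x⁻¹) * (x * x) by rw [hy]; group]
      exact mul_mem (mul_mem hn.1 (hinN n hn.1 (hM' n hn.2))) hxx
    have hy1 : y ≠ 1 := fun h => hyN (h ▸ one_mem N)
    have heven : ¬ Odd (orderOf y) := fun ho => by
      obtain ⟨k, hk⟩ := Invol.exists_sqrt ho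
      apply hyN
      rw [← hk, ← pow_mul, mul_comm, pow_mul, pow_two]
      exact pow_mem hyy k
    have hr1 : r ≠ 1 := fun h => by simpa [h] using F.order
    have hr3 : r ^ 3 = 1 := F.order ▸ pow_orderOf_eq_one r
    have hyr : y * r * y⁻¹ = r⁻¹ := by
      have hmem : y * r * y⁻¹ ∈ Subgroup.zpowers r := by
        rwa [show y * r * y⁻¹ = n * r' * n⁻¹ by rw [hy, hr']; group]
      obtain ⟨k, hk⟩ := mem_powers_iff_mem_zpowers.2 hmem
      change r ^ k = _ at hk
      rw [← pow_mod_orderOf, F.order] at hk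
      have : k % 3 < 3 := Nat.mod_lt _ (by norm_num)
      interval_cases hh : k % 3
      · rw [pow_zero, eq_comm, conj_eq_one_iff] at hk
        exact absurd hk hr1
      · exfalso
        rw [pow_one] at hk
        have hc : Commute y r := mul_inv_eq_iff_eq_mul.1 hk.symm
        refine hS.not_commute hy1 hr1 hc ?_
        rw [F.order]
        rcases hS.cases y with h | h | h | h | h <;> rw [h] at heven ⊢ <;>
          first | (norm_num; done) | (exact absurd (by decide) heven)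
      · rw [← hk]
        exact (inv_eq_of_mul_eq_one_right (by rw [← pow_succ', hr3])).symm
    have hyo : orderOf y = 2 := by
      refine Invol.order_two_of_sq ?_ hy1
      rcases hS.cases y with h | h | h | h | h
      · exact absurd (by rw [h]; decide) heven
      · exact Invol.mul_self h
      · exact absurd (by rw [h]; decide) heven
      · refine hS.commute_pow_two (j := 1) (Or.inl F.order) ?_ ?_
        · rw [pow_one, ← pow_two y, ← pow_mul, show 2 * 2 = orderOf y from h.symm]; exact pow_orderOf_eq_one y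
        · refine Commute.symm (mul_inv_eq_iff_eq_mul.1 ?_)
          calc y * y * r * (y * y)⁻¹ = y * (y * r * y⁻¹) * y⁻¹ := by group
            _ = y * r⁻¹ * y⁻¹ := by rw [hyr]
            _ = (y * r * y⁻¹)⁻¹ := by group
            _ = r := by rw [hyr, inv_inv]
      · exact absurd (by rw [h]; decide) heven
    haveI : (T.subgroupOf M).Normal := Subgroup.normal_subgroupOf_of_le_normalizer le_rfl
    have h2 := (hS.subgroup M).exp_two (T.subgroupOf M) (F.two.comap_subtype)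
      (t := ⟨y, hyM⟩) (r := ⟨r, hrM⟩) (by rw [Subgroup.orderOf_mk]; exact Or.inl F.order)
      (by rw [Subgroup.orderOf_mk]; exact hyo) (Subtype.ext hyr)
    have hT2 : ∀ t ∈ T, t * t = 1 := fun t ht =>
      congrArg Subtype.val (h2 ⟨t, Subgroup.le_normalizer ht⟩ ht)
    obtain ⟨a, ha, haD⟩ := F.exists_outside h16
    have hall : D ≤ D ⊓ Subgroup.centralizer ({a} : Set G) := fun d hd =>
      ⟨hd, Subgroup.mem_centralizer_singleton_iff.2 (commute_of_exp_two hT2 (F.le hd) ha)⟩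
    have := Subgroup.card_le_of_le hall
    rw [h16, F.fixed hD h16 ha haD] at this
    omega
  -- `T` is a Sylow subgroup
  have hsylow : ∀ X : Subgroup G, IsPGroup 2 X → T ≤ X → X = T := by
    intro X hX hTX
    by_contra hne
    have hXN : X ⊓ N = T := by
      obtain ⟨n, -, hn⟩ := F.maxed (X ⊓ N) (hX.to_le inf_le_left) inf_le_right
      refine (Subgroup.eq_of_le_of_card_ge (le_inf hTX F.le_normalizer) ?_).symm
      refine Nat.card_le_card_of_injective
        (fun w : (X ⊓ N : Subgroup G) => (⟨n * w * n⁻¹, hn w w.2⟩ : T)) ?_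
      intro a b hab
      exact Subtype.ext (mul_left_cancel (mul_right_cancel (Subtype.mk.inj hab)))
    have hlt : T.subgroupOf X < ⊤ := by
      rw [lt_top_iff_ne_top, Ne, Subgroup.subgroupOf_eq_top]
      exact fun h => hne (le_antisymm h hTX)
    haveI := hX.isNilpotent
    obtain ⟨w, hwn, hw⟩ := SetLike.exists_of_lt
      (Group.normalizerCondition_of_isNilpotent (G := X) _ hlt)
    refine hw (hXN.le ⟨w.2, hTN w fun t ht => ?_⟩)
    simpa [Subgroup.mem_subgroupOf] using (Subgroup.mem_normalizer_iff.1 hwn ⟨t, hTX ht⟩).1 ht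
  obtain ⟨S₀, hTS₀⟩ := F.two.exists_le_sylow
  have hS₀ : (S₀ : Subgroup G) = T := hsylow _ S₀.isPGroup' hTS₀
  have hinto : ∀ X : Subgroup G, IsPGroup 2 X → ∃ h : G, ∀ x ∈ X, h * x * h⁻¹ ∈ T := by
    intro X hX
    obtain ⟨S, hXS⟩ := hX.exists_le_sylow
    obtain ⟨h, hh⟩ := MulAction.exists_smul_eq G S S₀
    refine ⟨h, fun x hx => hS₀.le ?_⟩
    rw [← hh, Sylow.coe_subgroup_smul]
    exact Subgroup.smul_mem_pointwise_smul _ (MulAut.conj h) _ (hXS hx)
  have hnotconj : ∀ g : G, conjBy g D ≠ E := by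
    intro g hg
    have hgT : ∀ t ∈ T, g⁻¹ * t * g ∈ N := by
      intro t ht
      rw [hN, Subgroup.mem_normalizer_iff_map_conj_eq]
      refine Subgroup.eq_of_le_of_card_ge ?_ (card_conjBy _ D).ge
      rintro _ ⟨d, hd, rfl⟩
      have he := (hEinv t (F.le_normalizer ht) fun s hs => mul_mem (mul_mem ht hs) (inv_mem ht)).le
        ⟨_, hg.le ⟨d, hd, rfl⟩, rfl⟩
      rw [← hg, mem_conjBy] at he
      show g⁻¹ * t * g * d * (g⁻¹ * t * g)⁻¹ ∈ D
      convert he using 1
      show g⁻¹ * t * g * d * (g⁻¹ * t * g)⁻¹ = g⁻¹ * (t * (g * d * g⁻¹) * t⁻¹) * g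
      group
    obtain ⟨n, hn, hnT⟩ := F.maxed (conjBy g⁻¹ T) (F.two.map _) (by
      rintro _ ⟨t, ht, rfl⟩
      show g⁻¹ * t * (g⁻¹)⁻¹ ∈ N
      rw [inv_inv]; exact hgT t ht)
    have hmem := hTN (n * g⁻¹) fun t ht => by
      have := hnT _ ⟨t, ht, rfl⟩
      rw [show n * g⁻¹ * t * (n * g⁻¹)⁻¹ = n * (g⁻¹ * t * (g⁻¹)⁻¹) * n⁻¹ by group]
      exact this
    have hgN : g ∈ N := by
      have := inv_mem (mul_mem (inv_mem hn) hmem)
      rwa [inv_mul_cancel_left, inv_inv] at this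
    exact hED (hg ▸ Subgroup.mem_normalizer_iff_map_conj_eq.1 hgN)
  have hDin : ∀ g : G, (∀ d ∈ D, g * d * g⁻¹ ∈ T) → g ∈ N := fun g hg => by
    rcases helem (conjBy g D) (by rintro _ ⟨d, hd, rfl⟩; exact hg d hd) (by rw [card_conjBy, h16]) (by
      rintro _ ⟨d, hd, rfl⟩
      show g * d * g⁻¹ * (g * d * g⁻¹) = 1
      rw [show g * d * g⁻¹ * (g * d * g⁻¹) = g * (d * d) * g⁻¹ by group, hD.exp d hd]; group) with h | h
    · exact Subgroup.mem_normalizer_iff_map_conj_eq.2 h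
    · exact absurd h (hnotconj g)
  have hW : ∀ X : Subgroup G, IsPGroup 2 X → D ≤ X → ∀ g : G, (∀ d ∈ D, g * d * g⁻¹ ∈ X) → g ∈ N := by
    intro X hX hDX g hg
    obtain ⟨h, hh⟩ := hinto X hX
    have h1 : h ∈ N := hDin h fun d hd => hh d (hDX hd)
    have h2 : h * g ∈ N := hDin (h * g) fun d hd => by
      rw [show h * g * d * (h * g)⁻¹ = h * (g * d * g⁻¹) * h⁻¹ by group]
      exact hh _ (hg d hd)
    simpa using mul_mem (inv_mem h1) h2
  -- a second maximal intersection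
  obtain ⟨u, huN, huo, huD, hu⟩ : ∃ u ∈ N, orderOf u = 2 ∧ u ∉ D ∧
      ¬ Subgroup.centralizer ({u} : Set G) ≤ N := by
    by_contra hcon
    push Not at hcon
    refine hS.no_weakly_closed hnc hD hW fun u hu huo huD => ?_
    obtain ⟨⟨z, hzD⟩, hz1⟩ := @exists_ne D ((Subgroup.nontrivial_iff_ne_bot D).2 hD.ne_bot) 1
    exact ⟨Subgroup.centralizer ({u} : Set G) ⊔ D, 1, z,
      (hS.isPGroup_centralizer_invol huo).to_sup_of_normal_right' hD.two (hcon u hu huo huD),
      le_sup_left, fun d hd => by simpa using Subgroup.mem_sup_right hd, hzD,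
      fun h => hz1 (Subtype.ext h), by simpa using hzD⟩
  obtain ⟨n, hn, hnu⟩ := F.maxed (Subgroup.zpowers u)
    (IsPGroup.of_card (n := 1) (by rw [Nat.card_zpowers, huo, pow_one])) (Subgroup.zpowers_le.2 huN)
  set v := n * u * n⁻¹ with hv
  have hvE : v ∈ E := (hE v).2 (Or.inr ⟨hnu u (Subgroup.mem_zpowers u),
    fun h => huD ((Subgroup.mem_normalizer_iff.1 hn u).2 h),
    Invol.mul_self ((Invol.order_conj n u).trans huo)⟩)
  have hvo : orderOf v = 2 := (Invol.order_conj n u).trans huo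
  have hv' : ¬ Subgroup.centralizer ({v} : Set G) ≤ N := fun h => hu fun y hy => by
    have hm : n * y * n⁻¹ ∈ N := h (Subgroup.mem_centralizer_singleton_iff.2 (by
      have := Subgroup.mem_centralizer_singleton_iff.1 hy
      calc n * y * n⁻¹ * v = n * (y * u) * n⁻¹ := by rw [hv]; group
        _ = n * (u * y) * n⁻¹ := by rw [this]
        _ = v * (n * y * n⁻¹) := by rw [hv]; group))
    have := mul_mem (mul_mem (inv_mem hn) hm) hn
    simpa [mul_assoc] using this
  obtain ⟨S, hCS⟩ := (hS.isPGroup_centralizer_invol hvo).exists_le_sylow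
  have hES : E ≤ (S : Subgroup G) := fun e he =>
    hCS (Subgroup.mem_centralizer_singleton_iff.2 (commute_of_exp_two hEexp he hvE))
  have hSne : S₀ ≠ S := fun h => hv' (hCS.trans ((h ▸ hS₀.le : (S : Subgroup G) ≤ T).trans F.le_normalizer))
  have hle16 := hmax S₀ S hSne
  have hEeq : (S₀ : Subgroup G) ⊓ (S : Subgroup G) = E :=
    (Subgroup.eq_of_le_of_card_ge (le_inf (hET.trans hS₀.ge) hES) (hEc ▸ hle16)).symm
  have hCE : CoreData E := hEeq ▸ hS.coreData hnc hIH S₀ S hSne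
    (by
      rw [hEeq]
      intro h
      rw [h, Subgroup.card_bot] at hEc
      omega)
    (fun P Q hPQ => (hmax P Q hPQ).trans (by rw [hEeq, hEc]))
  have hTE : T ≤ Subgroup.normalizer (E : Set G) := fun t ht => by
    rw [Subgroup.mem_normalizer_iff_map_conj_eq]
    exact hEinv t (F.le_normalizer ht) fun s hs => mul_mem (mul_mem ht hs) (inv_mem ht)
  have hrel : E.relIndex T = 4 := by
    have h := card_eq_relIndex_mul E T
    rw [inf_of_le_left hET, hEc, F.card] at h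
    omega
  have h60E : E.relIndex (Subgroup.normalizer (E : Set G)) = 60 := by
    rcases hCE.cases with h | h | ⟨h, -⟩
    · exfalso
      have := card_two_group_dvd hCE (τ := 2) (fun k hk => by
        rw [h] at hk
        exact ((Nat.Coprime.pow_left k (by norm_num : Nat.Coprime 2 3))).dvd_of_dvd_mul_right
          (show 2 ^ k ∣ 2 * 3 from hk)) F.two hTE
      rw [hrel] at this
      norm_num at this
    · exfalso
      have := card_two_group_dvd hCE (τ := 2) (fun k hk => by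
        rw [h] at hk
        exact ((Nat.Coprime.pow_left k (by norm_num : Nat.Coprime 2 5))).dvd_of_dvd_mul_right
          (show 2 ^ k ∣ 2 * 5 from hk)) F.two hTE
      rw [hrel] at this
      norm_num at this
    · exact h
  obtain ⟨T', r', F'⟩ := hS.exists_frame hCE hEc h60E
  refine ⟨F, hD, h16, hEc, hE, hsylow, fun t hto => ?_⟩
  obtain ⟨h, hh⟩ := hinto (Subgroup.zpowers t)
    (IsPGroup.of_card (n := 1) (by rw [Nat.card_zpowers, hto, pow_one]))
  set s := h * t * h⁻¹ with hs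
  have hso : orderOf s = 2 := (Invol.order_conj h t).trans hto
  obtain ⟨X, hX2, hXc, hXC⟩ : ∃ X : Subgroup G, IsPGroup 2 X ∧ Nat.card X = 64 ∧
      X ≤ Subgroup.centralizer ({s} : Set G) := by
    by_cases hsD : s ∈ D
    · exact F.covered hS hD h16 hsD (Invol.ne_one hso)
    · exact F'.covered hS hCE hEc ((hE s).2 (Or.inr ⟨hh t (Subgroup.mem_zpowers t), hsD, Invol.mul_self hso⟩))
        (Invol.ne_one hso)
  obtain ⟨k, hk⟩ := hinto X hX2
  have hXT : conjBy k X = T := Subgroup.eq_of_le_of_card_ge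
    (by rintro _ ⟨x, hx, rfl⟩; exact hk x hx) (by rw [card_conjBy, hXc, F.card])
  have hc : k * s * k⁻¹ ∈ Subgroup.centralizer (T : Set G) := by
    refine Subgroup.mem_centralizer_iff.2 fun w hw => ?_
    rw [← hXT] at hw
    obtain ⟨x, hx, rfl⟩ := hw
    have := Subgroup.mem_centralizer_singleton_iff.1 (hXC hx)
    show k * x * k⁻¹ * (k * s * k⁻¹) = k * s * k⁻¹ * (k * x * k⁻¹)
    calc k * x * k⁻¹ * (k * s * k⁻¹) = k * (x * s) * k⁻¹ := by group
      _ = k * (s * x) * k⁻¹ := by rw [this]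
      _ = _ := by group
  refine ⟨k * h, ?_⟩
  rw [show k * h * t * (k * h)⁻¹ = k * s * k⁻¹ by rw [hs]; group]
  exact ⟨hD.cent (Subgroup.centralizer_le F.le hc), hc⟩

end Simple

end Cfsg.Agent.SmallSpec
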