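import Cfsg.Agent.Lib.SmallSpec.Almost
import Cfsg.Agent.Lib.Involutions.Counting
import Cfsg.Agent.Lib.Involutions.StronglyEmbedded
import Cfsg.Agent.S1225

/-!
Simple groups whose Sylow `2`-subgroups intersect trivially.
-/

set_option autoImplicit false
set_option linter.unusedSectionVars false
set_option linter.style.haveILetI false

namespace Cfsg.Agent.SmallSpec

universe u

variable {G : Type u} [Group G] [Finite G]

/-- No group of order fifteen has all element orders at most five. -/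
theorem Small.card_ne_fifteen (hS : Small G) : Nat.card G ≠ 15 := by
  intro h
  haveI : Fact (Nat.Prime 5) := ⟨by norm_num⟩
  obtain ⟨P⟩ : Nonempty (Sylow 5 G) := inferInstance
  have hP : Nat.card (P : Subgroup G) = 5 := by
    simpa using Cfsg.Agent.Small.sylow_card (k := 1) (m := 3) (by rw [h]; norm_num) (by norm_num) P
  obtain ⟨i, e, he, hN, hC⟩ := hS.card_normalizer (p := 5) (P : Subgroup G) hP
  have h1 := Cfsg.Agent.Small.card_normalizer_mul P
  have hm : Nat.card (Sylow 5 G) % 5 = 1 := card_sylow_modEq_one 5 G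
  have he4 : e ∣ 4 := by simpa using he
  have hd : Nat.card (Sylow 5 G) ∣ 15 := ⟨Nat.card (Subgroup.normalizer ((P : Subgroup G) : Set G)), by
    rw [← h, ← h1]; ring⟩
  have hn1 : Nat.card (Sylow 5 G) = 1 := by
    have := Nat.le_of_dvd (by norm_num) hd
    interval_cases hh : Nat.card (Sylow 5 G) <;> first | rfl | omega | (norm_num at hd)
  rw [hn1, hN, h] at h1
  have h3 : 3 ∣ 5 ^ i * e := ⟨5, by linarith⟩
  rcases Nat.prime_three.dvd_mul.1 h3 with h3 | h3
  · have := Nat.prime_three.dvd_of_dvd_pow h3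
    norm_num at this
  · have := h3.trans he4
    norm_num at this

theorem two_pow_add_one_eq_five_pow {i b : ℕ} (h : 2 ^ i + 1 = 5 ^ b) (hb : 1 ≤ b) : i = 2 := by
  rcases Nat.even_or_odd b with ⟨m, rfl⟩ | ⟨m, rfl⟩
  · exfalso
    have h3 : 5 ^ (m + m) % 3 = 1 := by
      rw [← two_mul, pow_mul, Nat.pow_mod]; norm_num
    have h2 : 2 ^ i % 3 ≠ 0 := fun hh => by
      have := Nat.prime_three.dvd_of_dvd_pow (Nat.dvd_of_mod_eq_zero hh)
      norm_num at this
    omega
  · have h8 : 5 ^ (2 * m + 1) % 8 = 5 := by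
      rw [pow_succ, pow_mul, Nat.mul_mod, Nat.pow_mod]; norm_num
    rcases Nat.lt_or_ge i 3 with hi | hi
    · have h' : (2 ^ i + 1) % 8 = 5 := by rw [h]; exact h8
      interval_cases i <;> first | rfl | (norm_num at h')
    · exfalso
      obtain ⟨k, rfl⟩ := Nat.exists_eq_add_of_le hi
      have h' : (2 ^ (3 + k) + 1) % 8 = 5 := by rw [h]; exact h8
      rw [pow_add, show (2 : ℕ) ^ 3 = 8 by norm_num] at h'
      omega

theorem Small.fix_eq_one_aux (hS : Small G) {z r : G} (hz : orderOf z = 2) (hr : orderOf r = 5)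
    (hc : Commute r z) : z = 1 :=
  hS.commute_pow_two (j := 1) (Or.inr hr) (by rw [pow_one, ← hz, pow_orderOf_eq_one]) hc

theorem card_conjBy_centralizer (g x : G) :
    Nat.card (Subgroup.centralizer ({x} : Set G)) =
      Nat.card (Subgroup.centralizer ({g * x * g⁻¹} : Set G)) := by
  rw [Nat.card_congr ((Subgroup.centralizer ({x} : Set G)).equivMapOfInjective
    (MulAut.conj g).toMonoidHom (MulAut.conj g).injective).toEquiv]
  congr 2
  ext y
  rw [Invol.mem_conj_map, Subgroup.mem_centralizer_singleton_iff, Subgroup.mem_centralizer_singleton_iff]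
  constructor <;> intro h
  · calc y * (g * x * g⁻¹) = g * (g⁻¹ * y * g * x) * g⁻¹ := by group
      _ = g * (x * (g⁻¹ * y * g)) * g⁻¹ := by rw [h]
      _ = _ := by group
  · calc g⁻¹ * y * g * x = g⁻¹ * (y * (g * x * g⁻¹)) * g := by group
      _ = g⁻¹ * (g * x * g⁻¹ * y) * g := by rw [h]
      _ = _ := by group

section Simple

variable [IsSimpleGroup G]

/-- A simple group has commuting distinct involutions. -/
theorem false_of_rankOne (hnc : ¬ IsMulCommutative G) {z : G} (hz : orderOf z = 2)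
    (hR : BrauerSuzuki.RankOne G) : False := by
  haveI : Fact (Nat.Prime 2) := ⟨Nat.prime_two⟩
  have hZ := BrauerSuzuki.inZStar G hR z hz
  have hO : pPrimeCore 2 G = ⊥ := by
    haveI := Cfsg.Agent.FittingCores.pPrimeCore_normal (G := G) 2
    refine (IsSimpleGroup.eq_bot_or_eq_top_of_normal (pPrimeCore 2 G) inferInstance).resolve_right ?_
    intro htop
    have h := Cfsg.Agent.FittingCores.pPrimeCore_coprime (G := G) 2
    rw [htop, Subgroup.card_top] at h
    have h2 : 2 ∣ Nat.card G := hz ▸ orderOf_dvd_natCard z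
    exact absurd (Nat.dvd_gcd h2 dvd_rfl) (by rw [h]; norm_num)
  have hzc : z ∈ Subgroup.center G := Subgroup.mem_center_iff.2 fun g => by
    have h := hZ g
    rw [hO, Subgroup.mem_bot] at h
    exact mul_inv_eq_iff_eq_mul.1 (mul_inv_eq_one.1 h)
  rcases IsSimpleGroup.eq_bot_or_eq_top_of_normal (Subgroup.center G) inferInstance with h | h
  · rw [h, Subgroup.mem_bot] at hzc
    exact Invol.ne_one hz hzc
  · exact hnc ⟨⟨fun a b => (Subgroup.mem_center_iff.1 (h ▸ Subgroup.mem_top b) a)⟩⟩

/-- The order when the Sylow `2`-subgroups intersect trivially. -/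
theorem Small.card_of_ti (hS : Small G) (hnc : ¬ IsMulCommutative G) (h2 : 2 ∣ Nat.card G)
    (hTI : ∀ P Q : Sylow 2 G, P ≠ Q → (P : Subgroup G) ⊓ (Q : Subgroup G) = ⊥) :
    Nat.card G = 60 := by
  classical
  haveI : Fact (Nat.Prime 2) := ⟨Nat.prime_two⟩
  haveI : Fact (Nat.Prime 3) := ⟨Nat.prime_three⟩
  haveI : Fact (Nat.Prime 5) := ⟨by norm_num⟩
  obtain ⟨S⟩ : Nonempty (Sylow 2 G) := inferInstance
  have hS1 : (S : Subgroup G) ≠ ⊥ := by
    intro h
    have := S.dvd_card_of_dvd_card h2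
    rw [h, Subgroup.card_bot] at this
    norm_num at this
  set N := Subgroup.normalizer ((S : Subgroup G) : Set G) with hN
  -- a 2-group meeting `S` lies in `S`
  have hmeet : ∀ X : Subgroup G, IsPGroup 2 X → ∀ x ∈ X, x ∈ (S : Subgroup G) → x ≠ 1 →
      X ≤ (S : Subgroup G) := by
    intro X hX x hxX hxS hx1
    obtain ⟨R, hR⟩ := hX.exists_le_sylow
    by_cases hRS : R = S
    · exact hRS ▸ hR
    · exact absurd (Subgroup.mem_bot.1 ((hTI R S hRS).le ⟨hR hxX, hxS⟩)) hx1
  have hinvS : ∀ z ∈ (S : Subgroup G), orderOf z = 2 →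
      Subgroup.centralizer ({z} : Set G) ≤ (S : Subgroup G) := fun z hz hzo =>
    hmeet _ (hS.isPGroup_centralizer_invol hzo) z (Subgroup.mem_centralizer_singleton_iff.2 rfl) hz
      (Invol.ne_one hzo)
  have hinvN : ∀ z ∈ N, orderOf z = 2 → z ∈ (S : Subgroup G) := by
    intro z hz hzo
    have hp : IsPGroup 2 ↥(Subgroup.zpowers z ⊔ (S : Subgroup G)) :=
      (IsPGroup.of_card (n := 1) (by rw [Nat.card_zpowers, hzo, pow_one]) :
        IsPGroup 2 (Subgroup.zpowers z)).to_sup_of_normal_right' S.isPGroup'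
        (Subgroup.zpowers_le.2 hz)
    exact (S.3 hp le_sup_right) ▸ Subgroup.mem_sup_left (Subgroup.mem_zpowers z)
  have hntop : N ≠ ⊤ := Cfsg.Agent.Small.normalizer_ne_top (p := 2) hnc h2 S
  obtain ⟨z, hzS, hzo, hzc⟩ : ∃ z ∈ (S : Subgroup G), orderOf z = 2 ∧
      ∀ y ∈ (S : Subgroup G), y * z = z * y := by
    haveI : Nontrivial (S : Subgroup G) := (Subgroup.nontrivial_iff_ne_bot _).2 hS1
    haveI := S.isPGroup'.center_nontrivial
    obtain ⟨k, hk⟩ := IsPGroup.iff_card.1 (S.isPGroup'.to_subgroup (Subgroup.center (S : Subgroup G)))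
    obtain ⟨c, hc⟩ := exists_prime_orderOf_dvd_card' (p := 2) (G := Subgroup.center (S : Subgroup G)) (by
      have : 1 < Nat.card (Subgroup.center (S : Subgroup G)) := Finite.one_lt_card
      rw [hk] at this ⊢
      exact dvd_pow_self 2 (by rintro rfl; simp at this))
    refine ⟨((c : (S : Subgroup G)) : G), (c : (S : Subgroup G)).2,
      by rw [Subgroup.orderOf_coe, Subgroup.orderOf_coe, hc], fun y hy => ?_⟩
    exact congrArg Subtype.val (Subgroup.mem_center_iff.1 c.2 ⟨y, hy⟩)
  have hzN : z ∈ N := Subgroup.le_normalizer hzS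
  have hSE : Cfsg.IsStronglyEmbedded N := by
    refine Invol.se_of_centralizers hntop (S.subtype Subgroup.le_normalizer)
      (Invol.even_of_invol_mem hzo hzN) ?_ fun t ht hto =>
      (hinvS t (hinvN t ht hto) hto).trans Subgroup.le_normalizer
    rw [Sylow.coe_subtype, Subgroup.subgroupOf_map_subtype, inf_of_le_left Subgroup.le_normalizer]
  obtain ⟨u, huo, huN⟩ : ∃ u : G, orderOf u = 2 ∧ u ∉ N := by
    by_contra hcon
    push Not at hcon
    have hle : Subgroup.normalClosure ({z} : Set G) ≤ N := by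
      rw [Subgroup.normalClosure, Subgroup.closure_le]
      intro y hy
      obtain ⟨a, rfl, hc⟩ := Group.mem_conjugatesOfSet_iff.mp hy
      obtain ⟨g, rfl⟩ := isConj_iff.mp hc
      exact hcon _ ((Invol.order_conj g a).trans hzo)
    rcases IsSimpleGroup.eq_bot_or_eq_top_of_normal (Subgroup.normalClosure ({z} : Set G))
      inferInstance with h | h
    · exact Invol.ne_one hzo (Subgroup.mem_bot.1 (h ▸ Subgroup.subset_normalClosure rfl))
    · exact hntop (top_le_iff.1 (h ▸ hle))
  have hconj : ∀ a : G, orderOf a = 2 → IsConj z a := fun a ha =>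
    (S1225.result N hSE u huo huN z z hzo hzN hzo hzN).2 z a hzo ha
  have hcentral : ∀ v ∈ (S : Subgroup G), orderOf v = 2 → ∀ y ∈ (S : Subgroup G), y * v = v * y := by
    intro v hv hvo y hy
    obtain ⟨d, ⟨hdN, -⟩, rfl⟩ :=
      (S1225.result N hSE u huo huN z v hzo hzN hvo (Subgroup.le_normalizer hv)).1
    have hy' : d⁻¹ * y * d ∈ (S : Subgroup G) := by
      have := (Subgroup.mem_normalizer_iff.1 (inv_mem hdN) y).1 hy
      simpa using this
    calc y * (d * z * d⁻¹) = d * ((d⁻¹ * y * d) * z) * d⁻¹ := by group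
      _ = d * (z * (d⁻¹ * y * d)) * d⁻¹ := by rw [hzc _ hy']
      _ = _ := by group
  have hCz : Subgroup.centralizer ({z} : Set G) = (S : Subgroup G) :=
    le_antisymm (hinvS z hzS hzo) fun y hy => Subgroup.mem_centralizer_singleton_iff.2 (hzc y hy)
  -- the index of `S` in its normalizer
  set m := (S : Subgroup G).relIndex N with hm
  haveI hSn : ((S : Subgroup G).subgroupOf N).Normal := Subgroup.normal_subgroupOf_of_le_normalizer le_rfl
  have hmcard : Nat.card N = Nat.card (S : Subgroup G) * m := by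
    rw [hm, Subgroup.relIndex, ← Nat.card_congr
      (Subgroup.subgroupOfEquivOfLe (Subgroup.le_normalizer (H := (S : Subgroup G)))).toEquiv,
      Subgroup.card_mul_index]
  have hmodd : ¬ 2 ∣ m := by
    intro h
    have := S.not_dvd_index
    exact this (h.trans (Subgroup.relIndex_dvd_index_of_le Subgroup.le_normalizer))
  obtain ⟨hm15, hm15'⟩ : m ∣ 15 ∧ m ≠ 15 := by
    have hmQ : m = Nat.card (N ⧸ (S : Subgroup G).subgroupOf N) := rfl
    have hSQ := (hS.subgroup N).quotient ((S : Subgroup G).subgroupOf N)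
    refine ⟨?_, fun h => hSQ.card_ne_fifteen (hmQ.symm.trans h)⟩
    have hpart : ∀ q : ℕ, q.Prime → q ≠ 2 → ¬ q ^ 2 ∣ m := by
      intro q hq hq2 hdvd
      haveI := Fact.mk hq
      obtain ⟨Pq⟩ : Nonempty (Sylow q N) := inferInstance
      have h := Pq.pow_dvd_card_of_pow_dvd_card
        (hdvd.trans (hmcard ▸ dvd_mul_left m _ : m ∣ Nat.card N))
      rw [← Subgroup.card_map_of_injective N.subtype_injective] at h
      have h' := h.trans (hS.card_le_of_normalize S.isPGroup' hS1 hq hq2 (Pq.isPGroup'.map N.subtype)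
        (Subgroup.map_subtype_le _))
      have := Nat.le_of_dvd hq.pos h'
      nlinarith [hq.two_le]
    obtain ⟨a, b, c, habc⟩ := hSQ.card_eq
    rw [← hmQ] at habc
    have ha : a = 0 := by
      by_contra ha
      exact hmodd (habc ▸ dvd_mul_of_dvd_left (dvd_mul_of_dvd_left (dvd_pow_self 2 ha) _) _)
    subst ha
    have hb : b ≤ 1 := by
      by_contra hb
      exact hpart 3 Nat.prime_three (by norm_num)
        (habc ▸ dvd_mul_of_dvd_left (dvd_mul_of_dvd_right (pow_dvd_pow 3 (by omega)) _) _)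
    have hc : c ≤ 1 := by
      by_contra hc
      exact hpart 5 (by norm_num) (by norm_num) (habc ▸ dvd_mul_of_dvd_right (pow_dvd_pow 5 (by omega)) _)
    rw [habc]
    interval_cases b <;> interval_cases c <;> norm_num
  have hm135 : m = 1 ∨ m = 3 ∨ m = 5 := by
    have := Nat.le_of_dvd (by norm_num) hm15
    interval_cases hh : m <;> first | omega | (norm_num at hm15)
  -- the involutions of `S` form a subgroup with the identity
  let Ω : Subgroup G :=
    { carrier := {x | x ∈ (S : Subgroup G) ∧ x * x = 1}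
      one_mem' := ⟨one_mem _, one_mul 1⟩
      mul_mem' := by
        rintro a b ⟨ha, ha2⟩ ⟨hb, hb2⟩
        refine ⟨mul_mem ha hb, ?_⟩
        by_cases ha1 : a = 1
        · simpa [ha1] using hb2
        · have h := hcentral a ha (Invol.order_two_of_sq ha2 ha1) b hb
          rw [mul_assoc, ← mul_assoc b a, h]
          calc a * (a * b * b) = (a * a) * (b * b) := by group
            _ = 1 := by rw [ha2, hb2, one_mul]
      inv_mem' := by
        rintro a ⟨ha, ha2⟩
        exact ⟨inv_mem ha, by rw [← mul_inv_rev, ha2, inv_one]⟩ }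
  obtain ⟨l, hl⟩ := IsPGroup.iff_card.1 (S.isPGroup'.to_le (fun x hx => hx.1) : IsPGroup 2 Ω)
  -- the transitive subgroup of odd order
  set Dd : Subgroup G := N ⊓ N.map (MulAut.conj u).toMonoidHom with hDd
  have hDodd : ¬ 2 ∣ Nat.card Dd := fun h => Nat.not_even_iff_odd.2 (hSE.2.2 u huN) (even_iff_two_dvd.2 h)
  have hDm : Nat.card Dd ∣ m := by
    have h1 : Nat.card Dd ∣ Nat.card (S : Subgroup G) * m := hmcard ▸ Subgroup.card_dvd_of_le inf_le_left
    obtain ⟨i, hi⟩ := IsPGroup.iff_card.1 S.isPGroup'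
    rw [hi] at h1
    exact (Nat.Coprime.pow_right i (Nat.coprime_comm.1 (Nat.prime_two.coprime_iff_not_dvd.2 hDodd))).dvd_of_dvd_mul_left h1
  have hk : Nat.card Ω ≤ Nat.card Dd + 1 := by
    have hchoose : ∀ x : {x : Ω // x ≠ 1}, ∃ d : Dd, (d : G) * z * (d : G)⁻¹ = (x.1 : G) := by
      rintro ⟨⟨x, hx, hx2⟩, hx1⟩
      have hxo : orderOf x = 2 := Invol.order_two_of_sq hx2 fun h => hx1 (Subtype.ext h)
      obtain ⟨d, hd, hdx⟩ := (S1225.result N hSE u huo huN z x hzo hzN hxo (Subgroup.le_normalizer hx)).1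
      exact ⟨⟨d, hd⟩, hdx⟩
    choose f hf using hchoose
    let F : Ω → Option Dd := fun x => if h : x = 1 then none else some (f ⟨x, h⟩)
    have hFi : Function.Injective F := by
      intro a b h
      by_cases ha : a = 1 <;> by_cases hb : b = 1 <;> simp [F, ha, hb] at h
      · rw [ha, hb]
      · refine Subtype.ext ?_
        rw [← hf ⟨a, ha⟩, ← hf ⟨b, hb⟩, h]
    have h := Nat.card_le_card_of_injective F hFi
    haveI := Fintype.ofFinite Dd
    rwa [Nat.card_eq_fintype_card (α := Option Dd), Fintype.card_option, ← Nat.card_eq_fintype_card] at h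
  have hl1 : l ≠ 0 := by
    rintro rfl
    have hmem : z ∈ Ω := ⟨hzS, Invol.mul_self hzo⟩
    rw [pow_zero, Subgroup.card_eq_one] at hl
    rw [hl, Subgroup.mem_bot] at hmem
    exact Invol.ne_one hzo hmem
  -- more than one involution in `S`
  obtain ⟨v, hvS, hvo, hvz⟩ : ∃ v ∈ (S : Subgroup G), orderOf v = 2 ∧ v ≠ z := by
    by_contra hcon
    push Not at hcon
    refine false_of_rankOne hnc hzo fun a b ha hb hab => ?_
    have hp : IsPGroup 2 (Subgroup.centralizer ({a} : Set G)) := hS.isPGroup_centralizer_invol ha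
    obtain ⟨R, hR⟩ := hp.exists_le_sylow
    obtain ⟨g, hg⟩ := MulAction.exists_smul_eq G R S
    have hin : ∀ c : G, c ∈ Subgroup.centralizer ({a} : Set G) → orderOf c = 2 → g * c * g⁻¹ = z := by
      intro c hc hco
      refine hcon _ ?_ (by rw [Invol.order_conj, hco])
      rw [← hg, Sylow.coe_subgroup_smul]
      exact Subgroup.smul_mem_pointwise_smul _ (MulAut.conj g) _ (hR hc)
    exact mul_left_cancel (mul_right_cancel ((hin a (Subgroup.mem_centralizer_singleton_iff.2 rfl) ha).trans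
      (hin b (Subgroup.mem_centralizer_singleton_iff.2 hab.eq.symm) hb).symm))
  have hl2 : 2 ≤ l := by
    by_contra h
    obtain rfl : l = 1 := by omega
    rw [pow_one] at hl
    obtain ⟨b, hb⟩ := (Nat.card_eq_two_iff' (1 : Ω)).1 hl
    apply hvz
    exact congrArg Subtype.val ((hb.2 ⟨v, hvS, Invol.mul_self hvo⟩ fun h => Invol.ne_one hvo (congrArg Subtype.val h)).trans
      (hb.2 ⟨z, hzS, Invol.mul_self hzo⟩ fun h => Invol.ne_one hzo (congrArg Subtype.val h)).symm)
  have hD3 : 3 ≤ Nat.card Dd := by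
    have : 4 ≤ 2 ^ l := (pow_le_pow_right₀ (by norm_num : (1 : ℕ) ≤ 2) hl2)
    omega
  obtain ⟨hm3, hD3eq, hlq⟩ : m = 3 ∧ Nat.card Dd = 3 ∧ l = 2 := by
    have h5 : ∀ x : Ω, x ≠ 1 → Nat.card Dd ≠ 5 ∨ l = 2 := fun _ _ => by
      by_cases h : l = 2
      · exact Or.inr h
      · left
        intro hD
        have : 2 ^ 3 ≤ 2 ^ l := pow_le_pow_right₀ (by norm_num) (by omega)
        omega
    have hl_le : l ≤ 2 := by
      by_contra h
      have : 2 ^ 3 ≤ 2 ^ l := pow_le_pow_right₀ (by norm_num) (by omega)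
      have := Nat.le_of_dvd (by omega) hDm
      omega
    obtain rfl : l = 2 := le_antisymm hl_le hl2
    refine ⟨?_, ?_, rfl⟩ <;>
    · -- a subgroup of order five fixes one of three involutions
      have hne5 : Nat.card Dd ≠ 5 := by
        intro hD
        obtain ⟨r, hr⟩ := exists_prime_orderOf_dvd_card' (p := 5) (G := Dd) (by rw [hD])
        have hr' : orderOf (r : G) = 5 := by rw [Subgroup.orderOf_coe, hr]
        let σ : Ω → Ω := fun x => ⟨(r : G) * x * (r : G)⁻¹,
          (Subgroup.mem_normalizer_iff.1 r.2.1 x).1 x.2.1, by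
            rw [show (r : G) * x * (r : G)⁻¹ * ((r : G) * x * (r : G)⁻¹) = (r : G) * ((x : G) * x) * (r : G)⁻¹ by group,
              x.2.2]; group⟩
        have hpow : ∀ (k : ℕ) (x : Ω), ((σ^[k] x : Ω) : G) = (r : G) ^ k * x * ((r : G) ^ k)⁻¹ := by
          intro k
          induction k with
          | zero => intro x; simp
          | succ k ih =>
            intro x
            rw [Function.iterate_succ_apply', show ((σ (σ^[k] x) : Ω) : G) =
              (r : G) * (σ^[k] x : Ω) * (r : G)⁻¹ from rfl, ih, pow_succ']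
            group
        have hinj : Function.Injective (fun k : Fin 5 => σ^[(k : ℕ)] ⟨z, hzS, Invol.mul_self hzo⟩) := by
          intro i j h
          by_contra hij
          wlog hlt : (i : ℕ) < j generalizing i j
          · exact this h.symm (Ne.symm hij) (lt_of_le_of_ne (not_lt.1 hlt) fun e => hij (Fin.ext e.symm))
          have h' := congrArg Subtype.val h
          simp only [hpow] at h'
          have hc : Commute ((r : G) ^ ((j : ℕ) - i)) z := by
            refine mul_inv_eq_iff_eq_mul.1 ?_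
            rw [← Nat.add_sub_cancel' hlt.le, pow_add] at h'
            calc (r : G) ^ ((j : ℕ) - i) * z * ((r : G) ^ ((j : ℕ) - i))⁻¹
                = ((r : G) ^ (i : ℕ))⁻¹ * ((r : G) ^ (i : ℕ) * (r : G) ^ ((j : ℕ) - i) * z *
                    ((r : G) ^ (i : ℕ) * (r : G) ^ ((j : ℕ) - i))⁻¹) * (r : G) ^ (i : ℕ) := by group
              _ = z := by rw [← h']; group
          have ho : orderOf ((r : G) ^ ((j : ℕ) - i)) = 5 := by
            rw [Nat.Coprime.orderOf_pow ?_, hr']
            rw [hr']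
            refine (Nat.Prime.coprime_iff_not_dvd (by norm_num)).2 fun hd => ?_
            have := Nat.le_of_dvd (by omega) hd
            omega
          exact Invol.ne_one hzo (hS.fix_eq_one_aux hzo ho hc)
        have := Nat.card_le_card_of_injective _ hinj
        rw [Nat.card_fin, hl] at this
        norm_num at this
      rcases hm135 with h | h | h <;> rw [h] at hDm <;> have := Nat.le_of_dvd (by norm_num) hDm
      · omega
      · interval_cases hh : Nat.card Dd <;> omega
      · interval_cases hh : Nat.card Dd <;> first | omega | (norm_num at hDm)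
  -- elements of order three
  obtain ⟨r₀, hr₀⟩ := exists_prime_orderOf_dvd_card' (p := 3) (G := Dd) (by rw [hD3eq])
  have hSc : ∃ i, Nat.card (S : Subgroup G) = 2 ^ i := IsPGroup.iff_card.1 S.isPGroup'
  obtain ⟨i, hi⟩ := hSc
  rw [hm3] at hmcard
  have h3S : ¬ 3 ∣ Nat.card (S : Subgroup G) := fun h => by
    rw [hi] at h; have := Nat.prime_three.dvd_of_dvd_pow h; norm_num at this
  have hSyl : ∀ P : Sylow 3 N, Nat.card (P : Subgroup N) = 3 := fun P => by
    simpa using Cfsg.Agent.Small.sylow_card (k := 1) (m := Nat.card (S : Subgroup G))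
      (by rw [hmcard]; ring) h3S P
  have hconj3 : ∀ r ∈ N, orderOf r = 3 →
      ∃ g ∈ N, g * (r₀ : G) * g⁻¹ = r ∨ g * (r₀ : G) * g⁻¹ = r⁻¹ := by
    intro r hrN hro
    obtain ⟨P, hP⟩ := (IsPGroup.of_card (p := 3) (n := 1) (by
      rw [Nat.card_zpowers, Subgroup.orderOf_mk, hro, pow_one]) :
      IsPGroup 3 (Subgroup.zpowers (⟨r, hrN⟩ : N))).exists_le_sylow
    have hr₀N : (r₀ : G) ∈ N := r₀.2.1
    obtain ⟨P₀, hP₀⟩ := (IsPGroup.of_card (p := 3) (n := 1) (by
      rw [Nat.card_zpowers, Subgroup.orderOf_mk, Subgroup.orderOf_coe, hr₀, pow_one]) :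
      IsPGroup 3 (Subgroup.zpowers (⟨r₀, hr₀N⟩ : N))).exists_le_sylow
    obtain ⟨g, hg⟩ := MulAction.exists_smul_eq N P₀ P
    refine ⟨g, g.2, ?_⟩
    have hPeq : (P : Subgroup N) = Subgroup.zpowers (⟨r, hrN⟩ : N) :=
      (Subgroup.eq_of_le_of_card_ge hP (by rw [hSyl, Nat.card_zpowers, Subgroup.orderOf_mk, hro])).symm
    have hmem : g * (⟨r₀, hr₀N⟩ : N) * g⁻¹ ∈ Subgroup.zpowers (⟨r, hrN⟩ : N) := by
      rw [← hPeq, ← hg, Sylow.coe_subgroup_smul]
      exact Subgroup.smul_mem_pointwise_smul _ (MulAut.conj g) _ (hP₀ (Subgroup.mem_zpowers _))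
    obtain ⟨k, hk⟩ := mem_powers_iff_mem_zpowers.2 hmem
    have hk' : (g : G) * (r₀ : G) * (g : G)⁻¹ = r ^ k := (congrArg Subtype.val hk).symm
    have hkm : r ^ k = r ^ (k % 3) := by rw [← hro, pow_mod_orderOf]
    have hlt := Nat.mod_lt k (by norm_num : 3 > 0)
    interval_cases hkc : k % 3
    · exfalso
      rw [hkm, pow_zero, conj_eq_one_iff] at hk'
      have h3 : orderOf (r₀ : G) = 3 := by rw [Subgroup.orderOf_coe, hr₀]
      rw [hk', orderOf_one] at h3
      omega
    · left; rw [hk', hkm, pow_one]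
    · right
      rw [hk', hkm]
      refine eq_inv_of_mul_eq_one_left ?_
      rw [← pow_succ]
      show r ^ 3 = 1
      rw [← hro, pow_orderOf_eq_one]
  -- an inverting involution
  have huinv : u * (r₀ : G) * u⁻¹ = (r₀ : G)⁻¹ := by
    have hmem : u * (r₀ : G) * u⁻¹ ∈ Dd := by
      refine ⟨?_, ?_⟩
      · have h : (r₀ : G) ∈ N.map (MulAut.conj u).toMonoidHom := r₀.2.2
        rw [Invol.mem_conj_map, Invol.inv_self huo] at h
        rwa [Invol.inv_self huo]
      · show u * (r₀ : G) * u⁻¹ ∈ N.map (MulAut.conj u).toMonoidHom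
        rw [Invol.mem_conj_map, Invol.inv_self huo, show u * (u * (r₀ : G) * u) * u = (u * u) * r₀ * (u * u) by group,
          Invol.mul_self huo, one_mul, mul_one]
        exact r₀.2.1
    have hz0 : Dd = Subgroup.zpowers (r₀ : G) :=
      (Subgroup.eq_of_le_of_card_ge (Subgroup.zpowers_le.2 r₀.2)
        (by rw [hD3eq, Nat.card_zpowers, Subgroup.orderOf_coe, hr₀])).symm
    replace hmem : u * (r₀ : G) * u⁻¹ ∈ Subgroup.zpowers (r₀ : G) := hz0.le hmem
    have h3 : orderOf (r₀ : G) = 3 := by rw [Subgroup.orderOf_coe, hr₀]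
    obtain ⟨k, hk⟩ := mem_powers_iff_mem_zpowers.2 hmem
    have hkm : (r₀ : G) ^ k = (r₀ : G) ^ (k % 3) := by rw [← h3, pow_mod_orderOf]
    have hlt := Nat.mod_lt k (by norm_num : 3 > 0)
    simp only at hk
    interval_cases hkc : k % 3
    · exfalso
      rw [hkm, pow_zero] at hk
      rw [eq_comm, conj_eq_one_iff] at hk
      rw [hk, orderOf_one] at h3
      omega
    · exfalso
      rw [hkm, pow_one] at hk
      refine hS.not_commute (Invol.ne_one huo) (fun h => by simp [h] at h3)
        (mul_inv_eq_iff_eq_mul.1 hk.symm) ?_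
      rw [huo, h3]; norm_num
    · rw [← hk, hkm]
      refine eq_inv_of_mul_eq_one_left ?_
      rw [← pow_succ]
      show (r₀ : G) ^ 3 = 1
      rw [← h3, pow_orderOf_eq_one]
  set P := Nat.card (Subgroup.centralizer ({(r₀ : G)} : Set G)) with hP
  -- each element of order three of `N` is inverted by `P` involutions, all outside `N`
  have hcount : ∀ r : G, r ∈ N → orderOf r = 3 →
      Nat.card {w : G // orderOf w = 2 ∧ w ∉ N ∧ w * r * w⁻¹ = r⁻¹} = P := by
    intro r hrN hro
    obtain ⟨g, hgN, hg⟩ := hconj3 r hrN hro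
    have hcr : Nat.card (Subgroup.centralizer ({r} : Set G)) = P := by
      refine Eq.trans ?_ (card_conjBy_centralizer g (r₀ : G)).symm |>.trans rfl
      rcases hg with h | h
      · rw [h]
      · congr 2
        rw [h]
        ext y
        simp only [SetLike.mem_coe, Subgroup.mem_centralizer_singleton_iff]
        exact ⟨fun hy => (Commute.inv_right hy).eq, fun hy => by simpa using (Commute.inv_right hy).eq⟩
    have hw₀ : (g * u * g⁻¹) * r * (g * u * g⁻¹)⁻¹ = r⁻¹ := by
      rcases hg with h | h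
      · rw [← h]
        calc g * u * g⁻¹ * (g * r₀ * g⁻¹) * (g * u * g⁻¹)⁻¹ = g * (u * r₀ * u⁻¹) * g⁻¹ := by group
          _ = _ := by rw [huinv]; group
      · rw [show r = (g * r₀ * g⁻¹)⁻¹ by rw [h, inv_inv]]
        calc g * u * g⁻¹ * (g * r₀ * g⁻¹)⁻¹ * (g * u * g⁻¹)⁻¹
            = g * (u * r₀ * u⁻¹)⁻¹ * g⁻¹ := by group
          _ = _ := by rw [huinv]; group
    rw [← hcr, ← Invol.card_inverting_eq r _ hw₀]
    refine Nat.card_congr (Equiv.subtypeEquivRight fun w => ⟨fun h => h.2.2, fun hw => ?_⟩)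
    have hr1 : r ≠ 1 := fun h => by simp [h] at hro
    have hwo : orderOf w = 2 := by
      have hw2 : Commute (w * w) r := by
        refine mul_inv_eq_iff_eq_mul.1 ?_
        calc w * w * r * (w * w)⁻¹ = w * (w * r * w⁻¹) * w⁻¹ := by group
          _ = w * r⁻¹ * w⁻¹ := by rw [hw]
          _ = (w * r * w⁻¹)⁻¹ := by group
          _ = r := by rw [hw, inv_inv]
      have hnc' : ¬ Commute w r := fun hc => by
        rw [hc.eq, mul_inv_cancel_right] at hw
        have : r ^ 2 = 1 := by rw [pow_two, ← eq_inv_iff_mul_eq_one]; exact hw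
        have := orderOf_dvd_of_pow_eq_one this
        rw [hro] at this
        norm_num at this
      rcases hS.cases w with h | h | h | h | h
      · exact absurd (orderOf_eq_one_iff.1 h ▸ Commute.one_left r) hnc'
      · exact h
      · exfalso
        refine hnc' ?_
        have e : w = (w * w) * (w * w) := by
          have h3 : w ^ 3 = 1 := h ▸ pow_orderOf_eq_one w
          calc w = w * w ^ 3 := by rw [h3, mul_one]
            _ = _ := by simp only [pow_succ, pow_zero, one_mul, mul_assoc]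
        rw [e]; exact hw2.mul_left hw2
      · exfalso
        refine hS.not_commute (x := w * w) (fun e => ?_) hr1 hw2 ?_
        · have := orderOf_dvd_of_pow_eq_one (x := w) (n := 2) (by rw [pow_two]; exact e)
          rw [h] at this; norm_num at this
        · rw [← pow_two, orderOf_pow' w two_ne_zero, h, hro]; norm_num
      · exfalso
        refine hnc' ?_
        have e : w = (w * w) * (w * w) * (w * w) := by
          have h5 : w ^ 5 = 1 := h ▸ pow_orderOf_eq_one w
          calc w = w * w ^ 5 := by rw [h5, mul_one]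
            _ = _ := by simp only [pow_succ, pow_zero, one_mul, mul_assoc]
        rw [e]; exact (hw2.mul_left hw2).mul_left hw2
    refine ⟨hwo, fun hwN => ?_, hw⟩
    have hwS := hinvN w hwN hwo
    have h1 : r⁻¹ * r⁻¹ ∈ (S : Subgroup G) := by
      have h2 : r * w⁻¹ * r⁻¹ ∈ (S : Subgroup G) :=
        (Subgroup.mem_normalizer_iff.1 hrN _).1 (inv_mem hwS)
      have := mul_mem hwS h2
      rwa [← mul_assoc, ← mul_assoc, hw] at this
    have hd : orderOf (r⁻¹ * r⁻¹) ∣ Nat.card (S : Subgroup G) := by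
      rw [← Subgroup.orderOf_mk _ h1]; exact orderOf_dvd_natCard _
    rw [← pow_two, orderOf_pow' r⁻¹ two_ne_zero, orderOf_inv, hro] at hd
    exact h3S (by simpa using hd)
  -- each involution outside `N` inverts two elements of order three of `N`
  have hcount' : ∀ w : G, orderOf w = 2 → w ∉ N →
      Nat.card {r : G // r ∈ N ∧ orderOf r = 3 ∧ w * r * w⁻¹ = r⁻¹} = 2 := by
    intro w hwo hwN
    set Dw : Subgroup G := N ⊓ N.map (MulAut.conj w).toMonoidHom with hDw
    have hodd : ¬ 2 ∣ Nat.card Dw := fun h => Nat.not_even_iff_odd.2 (hSE.2.2 w hwN) (even_iff_two_dvd.2 h)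
    have hd3 : Nat.card Dw ∣ 3 := by
      have h1 : Nat.card Dw ∣ Nat.card (S : Subgroup G) * 3 := hmcard ▸ Subgroup.card_dvd_of_le inf_le_left
      rw [hi] at h1
      exact (Nat.Coprime.pow_right i (Nat.coprime_comm.1 (Nat.prime_two.coprime_iff_not_dvd.2 hodd))).dvd_of_dvd_mul_left h1
    have hDw1 : Nat.card Dw ≠ 1 := by
      intro h1
      obtain ⟨d, hd, hdv⟩ := (S1225.result N hSE w hwo hwN z v hzo hzN hvo (Subgroup.le_normalizer hvS)).1
      change d ∈ Dw at hd
      rw [Subgroup.card_eq_one.1 h1, Subgroup.mem_bot] at hd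
      exact hvz (by rw [← hdv, hd]; group)
    have hDw3 : Nat.card Dw = 3 := ((Nat.dvd_prime Nat.prime_three).1 hd3).resolve_left hDw1
    obtain ⟨⟨r, hr⟩, hro⟩ := exists_prime_orderOf_dvd_card' (p := 3) (G := Dw) (by rw [hDw3])
    rw [Subgroup.orderOf_mk] at hro
    have hwi := Invol.inv_self hwo
    have hww := Invol.mul_self hwo
    have hDeq : Dw = Subgroup.zpowers r := (Subgroup.eq_of_le_of_card_ge (Subgroup.zpowers_le.2 hr)
      (by rw [hDw3, Nat.card_zpowers, hro])).symm
    have hmemw : ∀ y, y ∈ Dw → w * y * w⁻¹ ∈ Dw := by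
      rintro y ⟨hy1, hy2⟩
      have hy2' : w * y * w ∈ N := by
        have h : y ∈ N.map (MulAut.conj w).toMonoidHom := hy2
        rwa [Invol.mem_conj_map, hwi] at h
      refine ⟨by rw [hwi]; exact hy2', ?_⟩
      show w * y * w⁻¹ ∈ N.map (MulAut.conj w).toMonoidHom
      rw [Invol.mem_conj_map, hwi, show w * (w * y * w) * w = (w * w) * y * (w * w) by group, hww,
        one_mul, mul_one]
      exact hy1
    have hr1 : r ≠ 1 := fun h => by simp [h] at hro
    have hthree : ∀ y ∈ Dw, y = 1 ∨ y = r ∨ y = r⁻¹ := by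
      intro y hy
      rw [hDeq] at hy
      obtain ⟨k, rfl⟩ := mem_powers_iff_mem_zpowers.2 hy
      have hkm : r ^ k = r ^ (k % 3) := by rw [← hro, pow_mod_orderOf]
      have hlt := Nat.mod_lt k (by norm_num : 3 > 0)
      show r ^ k = 1 ∨ r ^ k = r ∨ r ^ k = r⁻¹
      rw [hkm]
      interval_cases hkc : k % 3
      · left; exact pow_zero r
      · right; left; exact pow_one r
      · right; right
        refine eq_inv_of_mul_eq_one_left ?_
        rw [← pow_succ]
        show r ^ 3 = 1
        rw [← hro, pow_orderOf_eq_one]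
    have hinvert : w * r * w⁻¹ = r⁻¹ := by
      rcases hthree _ (hmemw r hr) with h | h | h
      · exact absurd (conj_eq_one_iff.1 h) hr1
      · exact (hS.not_commute (Invol.ne_one hwo) hr1 (mul_inv_eq_iff_eq_mul.1 h)
          (by rw [hwo, hro]; norm_num)).elim
      · exact h
    have hri : w * r⁻¹ * w⁻¹ = r⁻¹⁻¹ := by rw [← conj_inv, hinvert]
    have hne : r ≠ r⁻¹ := fun h => by
      have : r ^ 2 = 1 := by rw [pow_two, ← eq_inv_iff_mul_eq_one]; exact h
      have := orderOf_dvd_of_pow_eq_one this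
      rw [hro] at this
      norm_num at this
    rw [Nat.card_eq_two_iff]
    refine ⟨⟨r, hr.1, hro, hinvert⟩, ⟨r⁻¹, inv_mem hr.1, by rw [orderOf_inv, hro], hri⟩,
      fun h => hne (Subtype.mk.inj h), Set.eq_univ_iff_forall.2 ?_⟩
    rintro ⟨y, hyN, hyo, hy⟩
    have hyD : y ∈ Dw := ⟨hyN, show y ∈ N.map (MulAut.conj w).toMonoidHom by
      rw [Invol.mem_conj_map, hwi]
      rw [hwi] at hy
      rw [hy]
      exact inv_mem hyN⟩
    rcases hthree y hyD with h | h | h
    · simp [h] at hyo
    · exact Or.inl (Subtype.ext h)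
    · exact Or.inr (Set.mem_singleton_iff.2 (Subtype.ext h))
  -- numbers of involutions
  have hI : Nat.card G = Nat.card (S : Subgroup G) * Invol.numInvol G := by
    refine le_antisymm ?_ ?_
    · have := Invol.card_centralizer_mul_numInvol hzo
      rwa [hCz] at this
    · rw [← hCz, ← Subgroup.card_mul_index (Subgroup.centralizer ({z} : Set G))]
      refine Nat.mul_le_mul_left _ ?_
      refine Nat.card_le_card_of_surjective (fun q : G ⧸ Subgroup.centralizer ({z} : Set G) =>
        (⟨q.out * z * q.out⁻¹, by rw [Invol.order_conj, hzo]⟩ : {t : G // orderOf t = 2})) ?_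
      rintro ⟨t, ht⟩
      obtain ⟨g, hg⟩ := isConj_iff.1 (hconj t ht)
      refine ⟨(g : G ⧸ Subgroup.centralizer ({z} : Set G)), Subtype.ext ?_⟩
      obtain ⟨⟨h, hh⟩, hh'⟩ := QuotientGroup.mk_out_eq_mul (Subgroup.centralizer ({z} : Set G)) g
      show (Quotient.out _) * z * (Quotient.out _)⁻¹ = t
      rw [hh']
      have hc := Subgroup.mem_centralizer_singleton_iff.1 hh
      calc g * h * z * (g * h)⁻¹ = g * (h * z) * h⁻¹ * g⁻¹ := by group
        _ = g * (z * h) * h⁻¹ * g⁻¹ := by rw [hc]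
        _ = g * z * g⁻¹ := by group
        _ = t := hg
  set c := Nat.card (S : Subgroup G) with hc
  set n := N.index with hn
  have hG : Nat.card G = c * 3 * n := by rw [hn, ← hmcard, Subgroup.card_mul_index]
  have hI3 : Invol.numInvol G = 3 * n := by
    have : c * Invol.numInvol G = c * (3 * n) := by rw [← hI, hG]; ring
    exact Nat.eq_of_mul_eq_mul_left Nat.card_pos this
  have hIN : Nat.card {w : G // orderOf w = 2 ∧ w ∈ N} = 3 := by
    have h4 : Nat.card Ω = 4 := by rw [hl, hlq]; norm_num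
    have e : {w : G // orderOf w = 2 ∧ w ∈ N} ≃ {x : Ω // x ≠ 1} :=
      { toFun := fun w => ⟨⟨w.1, hinvN w.1 w.2.2 w.2.1, Invol.mul_self w.2.1⟩,
          fun h => Invol.ne_one w.2.1 (congrArg Subtype.val h)⟩
        invFun := fun x => ⟨x.1.1, Invol.order_two_of_sq x.1.2.2 (fun h => x.2 (Subtype.ext h)),
          Subgroup.le_normalizer x.1.2.1⟩
        left_inv := fun w => rfl
        right_inv := fun x => rfl }
    haveI := Fintype.ofFinite Ω
    rw [Nat.card_congr e, Nat.card_eq_fintype_card, Fintype.card_subtype_compl, Fintype.card_subtype_eq,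
      ← Nat.card_eq_fintype_card, h4]
  have hIout : Nat.card {w : G // orderOf w = 2 ∧ w ∉ N} + 3 = 3 * n := by
    rw [← hI3, ← hIN, ← Nat.card_sum]
    exact Nat.card_congr
      { toFun := fun s => s.elim (fun w => ⟨w.1, w.2.1⟩) (fun w => ⟨w.1, w.2.1⟩)
        invFun := fun w => if h : w.1 ∈ N then Sum.inr ⟨w.1, w.2, h⟩ else Sum.inl ⟨w.1, w.2, h⟩
        left_inv := fun s => by rcases s with w | w <;> simp [w.2.2]
        right_inv := fun w => by by_cases h : w.1 ∈ N <;> simp [h] }
  have hn3 : Nat.card {r : G // r ∈ N ∧ orderOf r = 3} = 2 * c := by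
    obtain ⟨P3⟩ : Nonempty (Sylow 3 N) := inferInstance
    obtain ⟨i', e, he, hN3, hC3⟩ := (hS.subgroup N).card_normalizer (p := 3) (P3 : Subgroup N) (hSyl P3)
    have hi' : i' = 1 := by
      have h1 : 3 ∣ 3 ^ i' := by
        rw [← hC3]
        exact (hSyl P3).symm.dvd.trans (Subgroup.card_dvd_of_le (Cfsg.Agent.Small.le_centralizer_self _ (hSyl P3)))
      rcases i' with - | i'
      · norm_num at h1
      rcases i' with - | i'
      · rfl
      · exfalso
        have h9 : 3 ^ 2 ∣ c * 3 := hmcard ▸ ((pow_dvd_pow 3 (by omega : 2 ≤ i' + 2)).trans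
          (hC3 ▸ Subgroup.card_subgroup_dvd_card _))
        rw [pow_two] at h9
        exact h3S (Nat.dvd_of_mul_dvd_mul_right (by norm_num) h9)
    have he1 : e = 1 := by
      rcases (Nat.dvd_prime Nat.prime_two).1 (by simpa using he) with h | h
      · exact h
      exfalso
      obtain ⟨⟨w, hw⟩, hwo⟩ := exists_prime_orderOf_dvd_card' (p := 2)
        (G := Subgroup.normalizer ((P3 : Subgroup N) : Set N)) (by rw [hN3, h]; exact dvd_mul_left 2 _)
      rw [Subgroup.orderOf_mk] at hwo
      obtain ⟨⟨r, hrP⟩, hro⟩ := exists_prime_orderOf_dvd_card' (p := 3) (G := (P3 : Subgroup N)) (by rw [hSyl])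
      rw [Subgroup.orderOf_mk] at hro
      have hwS : (w : G) ∈ (S : Subgroup G) := hinvN _ w.2 (by rw [Subgroup.orderOf_coe, hwo])
      have h1 : w * r * w⁻¹ * r⁻¹ ∈ (P3 : Subgroup N) ⊓ (S : Subgroup G).subgroupOf N :=
        Subgroup.mem_inf.2 ⟨mul_mem ((Subgroup.mem_normalizer_iff.1 hw r).1 hrP) (inv_mem hrP), by
          rw [mul_assoc, mul_assoc, ← mul_assoc r]
          exact mul_mem hwS (hSn.conj_mem w⁻¹ (inv_mem (show w ∈ (S : Subgroup G).subgroupOf N from hwS)) r)⟩
      have hbot : (P3 : Subgroup N) ⊓ (S : Subgroup G).subgroupOf N = ⊥ := by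
        refine Subgroup.card_eq_one.1 (Nat.eq_one_of_dvd_coprimes (show Nat.Coprime 3 c from
          (Nat.Prime.coprime_iff_not_dvd Nat.prime_three).2 h3S)
          ((Subgroup.card_dvd_of_le inf_le_left).trans (hSyl P3).dvd)
          ((Subgroup.card_dvd_of_le inf_le_right).trans
            (Nat.card_congr (Subgroup.subgroupOfEquivOfLe Subgroup.le_normalizer).toEquiv).dvd))
      rw [hbot, Subgroup.mem_bot, mul_inv_eq_one] at h1
      exact hS.not_commute (x := (w : G)) (y := (r : G)) (Invol.ne_one (by rw [Subgroup.orderOf_coe, hwo]))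
        (fun h => by
          have h3 : orderOf (r : G) = 3 := by rw [Subgroup.orderOf_coe, hro]
          simp [h] at h3)
        (congrArg Subtype.val (mul_inv_eq_iff_eq_mul.1 h1))
        (by rw [Subgroup.orderOf_coe, hwo, Subgroup.orderOf_coe, hro]; norm_num)
    have hn3' : Nat.card (Sylow 3 N) = c := by
      have h := Cfsg.Agent.Small.card_normalizer_mul P3
      rw [hN3, hi', he1, pow_one, mul_one, hmcard] at h
      omega
    -- each Sylow subgroup carries two elements
    have hfib : ∀ Q : Sylow 3 N, Nat.card {r : (Q : Subgroup N) // r ≠ 1} = 2 := fun Q => by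
      haveI := Fintype.ofFinite (Q : Subgroup N)
      rw [Nat.card_eq_fintype_card, Fintype.card_subtype_compl, Fintype.card_subtype_eq,
        ← Nat.card_eq_fintype_card, hSyl]
    have e : (Σ Q : Sylow 3 N, {r : (Q : Subgroup N) // r ≠ 1}) ≃ {r : G // r ∈ N ∧ orderOf r = 3} := by
      refine Equiv.ofBijective (fun p => ⟨((p.2.1 : N) : G), (p.2.1 : N).2, ?_⟩) ⟨?_, ?_⟩
      · obtain ⟨Q, r, hr⟩ := p
        have hd : orderOf r ∣ 3 := (orderOf_dvd_natCard r).trans (hSyl Q).dvd
        rcases (Nat.dvd_prime Nat.prime_three).1 hd with h | h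
        · exact absurd (orderOf_eq_one_iff.1 h) hr
        · rw [Subgroup.orderOf_coe, Subgroup.orderOf_coe, h]
      · rintro ⟨Q, r, hr⟩ ⟨Q', r', hr'⟩ h
        have h' : (r : N) = (r' : N) := Subtype.ext (Subtype.mk.inj h)
        have hQ : ∀ (Q : Sylow 3 N) (r : (Q : Subgroup N)), r ≠ 1 → (Q : Subgroup N) = Subgroup.zpowers (r : N) := by
          intro Q r hr
          refine (Subgroup.eq_of_le_of_card_ge (Subgroup.zpowers_le.2 r.2) ?_).symm
          rw [hSyl, Nat.card_zpowers, Subgroup.orderOf_coe]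
          rcases (Nat.dvd_prime Nat.prime_three).1 ((orderOf_dvd_natCard r).trans (hSyl Q).dvd) with h | h
          · exact absurd (orderOf_eq_one_iff.1 h) hr
          · rw [h]
        obtain rfl : Q = Q' := Sylow.ext (by rw [hQ Q r hr, hQ Q' r' hr', h'])
        obtain rfl : r = r' := Subtype.ext h'
        rfl
      · rintro ⟨r, hrN, hro⟩
        obtain ⟨Q, hQ⟩ := (IsPGroup.of_card (p := 3) (n := 1) (by
          rw [Nat.card_zpowers, Subgroup.orderOf_mk, hro, pow_one]) :
          IsPGroup 3 (Subgroup.zpowers (⟨r, hrN⟩ : N))).exists_le_sylow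
        exact ⟨⟨Q, ⟨⟨r, hrN⟩, hQ (Subgroup.mem_zpowers _)⟩, fun h => by
          have : r = 1 := congrArg (fun x : (Q : Subgroup N) => ((x : N) : G)) h
          simp [this] at hro⟩, rfl⟩
    haveI := Fintype.ofFinite (Sylow 3 N)
    rw [← Nat.card_congr e, Nat.card_sigma]
    simp only [hfib, Finset.sum_const, Finset.card_univ, ← Nat.card_eq_fintype_card, hn3', smul_eq_mul]
    ring
  -- count the inverted pairs in two ways
  have hpairs : Nat.card {w : G // orderOf w = 2 ∧ w ∉ N} * 2 = 2 * c * P := by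
    haveI := Fintype.ofFinite G
    have e : (Σ w : {w : G // orderOf w = 2 ∧ w ∉ N}, {r : G // r ∈ N ∧ orderOf r = 3 ∧ w.1 * r * w.1⁻¹ = r⁻¹}) ≃
        (Σ r : {r : G // r ∈ N ∧ orderOf r = 3}, {w : G // orderOf w = 2 ∧ w ∉ N ∧ w * r.1 * w⁻¹ = r.1⁻¹}) :=
      { toFun := fun p => ⟨⟨p.2.1, p.2.2.1, p.2.2.2.1⟩, ⟨p.1.1, p.1.2.1, p.1.2.2, p.2.2.2.2⟩⟩
        invFun := fun p => ⟨⟨p.2.1, p.2.2.1, p.2.2.2.1⟩, ⟨p.1.1, p.1.2.1, p.1.2.2, p.2.2.2.2⟩⟩
        left_inv := fun p => rfl
        right_inv := fun p => rfl }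
    have h := Nat.card_congr e
    rw [Nat.card_sigma, Nat.card_sigma,
      Finset.sum_congr rfl (fun (w : {w : G // orderOf w = 2 ∧ w ∉ N}) _ => hcount' w.1 w.2.1 w.2.2),
      Finset.sum_congr rfl (fun (r : {r : G // r ∈ N ∧ orderOf r = 3}) _ => hcount r.1 r.2.1 r.2.2)] at h
    simpa [Finset.sum_const, ← Nat.card_eq_fintype_card, hn3] using h
  have hPmain : c * P + 3 = 3 * n := by
    have : Nat.card {w : G // orderOf w = 2 ∧ w ∉ N} * 2 = c * P * 2 := by rw [hpairs]; ring
    omega
  -- the centralizer of `r₀` has order three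
  have hP3 : P = 3 := by
    have hr1 : (r₀ : G) ≠ 1 := fun h => by
      have : orderOf (r₀ : G) = 3 := by rw [Subgroup.orderOf_coe, hr₀]
      simp [h] at this
    obtain ⟨a, ha⟩ := IsPGroup.iff_card.1 (hS.isPGroup_centralizer (p := 3) (k := 1) Nat.prime_three hr1
      (by rw [pow_one, ← hr₀, ← SubmonoidClass.coe_pow, pow_orderOf_eq_one]; rfl))
    change P = 3 ^ a at ha
    have hPG : P ∣ 3 * n * c := by
      rw [show 3 * n * c = Nat.card G by rw [hG]; ring]; exact Subgroup.card_subgroup_dvd_card _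
    have hco : Nat.Coprime P c := by
      rw [ha, hi]; exact Nat.Coprime.pow _ _ (by norm_num)
    have h3n : P ∣ 3 * n := hco.dvd_of_dvd_mul_right hPG
    rw [← hPmain] at h3n
    have h3 : P ∣ 3 := (Nat.dvd_add_right (dvd_mul_left P c)).1 h3n
    refine ((Nat.dvd_prime Nat.prime_three).1 h3).resolve_left ?_
    intro h1
    have := Subgroup.card_eq_one.1 h1
    exact hr1 (Subgroup.mem_bot.1 (this ▸ Subgroup.mem_centralizer_singleton_iff.2 rfl))
  have hn1 : n = c + 1 := by rw [hP3] at hPmain; omega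
  -- the odd part
  have hi1 : 1 ≤ i := by
    by_contra h
    exact hS1 (Subgroup.card_eq_one.1 (by rw [← hc, hi, show i = 0 by omega, pow_zero]))
  obtain ⟨a, b, d, habd⟩ := (hS.card_eq)
  have hn3' : ¬ 3 ∣ n := by
    intro h3
    -- a Sylow 3-subgroup would be abelian of order at least nine
    obtain ⟨Q, hQ⟩ := (IsPGroup.of_card (p := 3) (n := 1) (by
      rw [Nat.card_zpowers, Subgroup.orderOf_coe, hr₀, pow_one]) :
      IsPGroup 3 (Subgroup.zpowers (r₀ : G))).exists_le_sylow
    have h9 : 3 ^ 2 ∣ Nat.card (Q : Subgroup G) := Q.pow_dvd_card_of_pow_dvd_card (by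
      rw [hG, show c * 3 * n = c * (3 * n) by ring, pow_two]
      exact Dvd.dvd.mul_left (Nat.mul_dvd_mul_left 3 h3) c)
    haveI : Nontrivial (Q : Subgroup G) := (Subgroup.nontrivial_iff_ne_bot _).2 fun h => by
      have : (r₀ : G) ∈ (Q : Subgroup G) := hQ (Subgroup.mem_zpowers _)
      rw [h, Subgroup.mem_bot] at this
      have h3' : orderOf (r₀ : G) = 3 := by rw [Subgroup.orderOf_coe, hr₀]
      simp [this] at h3'
    haveI := Q.isPGroup'.center_nontrivial
    obtain ⟨⟨y, hy⟩, hy1⟩ := exists_ne (1 : Subgroup.center (Q : Subgroup G))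
    have hC3 : Subgroup.centralizer ({(r₀ : G)} : Set G) = Subgroup.zpowers (r₀ : G) := by
      refine (Subgroup.eq_of_le_of_card_ge (Subgroup.zpowers_le.2 (Subgroup.mem_centralizer_singleton_iff.2 rfl)) ?_).symm
      rw [← hP, hP3, Nat.card_zpowers, Subgroup.orderOf_coe, hr₀]
    have hyr : (y : G) ∈ Subgroup.centralizer ({(r₀ : G)} : Set G) :=
      Subgroup.mem_centralizer_singleton_iff.2
        (congrArg Subtype.val (Subgroup.mem_center_iff.1 hy ⟨r₀, hQ (Subgroup.mem_zpowers _)⟩)).symm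
    rw [hC3] at hyr
    have hle : (Q : Subgroup G) ≤ Subgroup.centralizer ({(r₀ : G)} : Set G) := by
      intro q hq
      have hqy : Commute q (y : G) := congrArg Subtype.val (Subgroup.mem_center_iff.1 hy ⟨q, hq⟩)
      obtain ⟨k, hk⟩ := mem_powers_iff_mem_zpowers.2 hyr
      simp only at hk
      have hk3 : (r₀ : G) ^ k = (r₀ : G) ^ (k % 3) := by
        rw [← (show orderOf (r₀ : G) = 3 by rw [Subgroup.orderOf_coe, hr₀]), pow_mod_orderOf]
      have hgen : (r₀ : G) ∈ Subgroup.zpowers (y : G) := by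
        have hlt := Nat.mod_lt k (by norm_num : 3 > 0)
        interval_cases hkc : k % 3
        · rw [hk3, pow_zero] at hk
          exact absurd (Subtype.ext (Subtype.ext hk.symm)) hy1
        · rw [hk3, pow_one] at hk; rw [← hk]; exact Subgroup.mem_zpowers _
        · rw [hk3] at hk
          refine Subgroup.mem_zpowers_iff.2 ⟨2, ?_⟩
          rw [zpow_two, ← hk, ← pow_add, show 2 + 2 = 3 + 1 by norm_num, pow_succ]
          rw [← (show orderOf (r₀ : G) = 3 by rw [Subgroup.orderOf_coe, hr₀]), pow_orderOf_eq_one, one_mul]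
      obtain ⟨j, hj⟩ := Subgroup.mem_zpowers_iff.1 hgen
      exact Subgroup.mem_centralizer_singleton_iff.2 (hj ▸ (hqy.zpow_right j).eq)
    have h93 := h9.trans (Subgroup.card_dvd_of_le hle)
    rw [← hP, hP3] at h93
    norm_num at h93
  have hodd : ∃ b', n = 5 ^ b' := by
    refine ⟨d, ?_⟩
    have hnG : n ∣ 2 ^ a * 3 ^ b * 5 ^ d := habd ▸ hG ▸ dvd_mul_left n _
    have hn2 : Nat.Coprime n 2 := by
      rw [Nat.coprime_two_right]
      rw [hn1, hi]
      exact Even.add_one (Nat.even_pow.2 ⟨even_two, by omega⟩)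
    have hn3c : Nat.Coprime n 3 := (Nat.coprime_comm.1 (Nat.prime_three.coprime_iff_not_dvd.2 hn3'))
    have hd1 : n ∣ 5 ^ d := ((hn2.pow_right a).mul_right (hn3c.pow_right b)).dvd_of_dvd_mul_left hnG
    refine Nat.dvd_antisymm hd1 ?_
    have h5 : 5 ^ d ∣ c * 3 * n := by rw [← hG, habd]; exact dvd_mul_left _ _
    refine Nat.Coprime.dvd_of_dvd_mul_left ?_ h5
    rw [hi]
    exact Nat.Coprime.mul_right (Nat.Coprime.pow _ _ (by norm_num)) (Nat.Coprime.pow_left _ (by norm_num))
  obtain ⟨b', hb'⟩ := hodd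
  have hb1 : 1 ≤ b' := by
    by_contra h
    rw [show b' = 0 by omega, pow_zero] at hb'
    have := Nat.two_pow_pos i
    omega
  have hi2 := two_pow_add_one_eq_five_pow (by rw [← hi, ← hn1, hb'] : 2 ^ i + 1 = 5 ^ b') hb1
  rw [hG, hn1, hi, hi2]
  norm_num

end Simple

end Cfsg.Agent.SmallSpec
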